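import Groth.Agent.RedCell22.Cell
import Groth.Agent.GrpSchLib.RankOneDense
import Groth.Agent.GrpSchLib.Shear

/-!
# A homomorphism is determined by its restriction to the big cell
-/

set_option autoImplicit false
set_option linter.unusedSectionVars false
set_option linter.style.haveILetI false

universe u

open CategoryTheory CategoryTheory.Limits AlgebraicGeometry MonoidalCategory CartesianMonoidalCategory
open MonObj GrpObj

noncomputable section

namespace Groth.Agent.RedCell22

variable {S : Scheme.{u}} {G H : Over S} [GrpObj G] [GrpObj H] {D : Red.SplitRed G} {n m : ℕ}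
  {f : D.M →+ ℤ} {l : Fin n → D.idx} {l' : Fin m → D.idx}

theorem cellMap_one (D : Red.SplitRed G) (l : Fin n → D.idx) (l' : Fin m → D.idx) {K : Type u} [CommRing K]
    (b : Spec (CommRingCat.of K) ⟶ S) :
    cellPt D (fun _ => (0 : K)) (1 : tb b K ⟶ D.T) (fun _ => 0) ≫ RedSub.cellMap D l l' = 1 := by
  rw [cellPt_cellMap, cellWord, word_zero, word_zero, tG_one, _root_.one_mul, _root_.one_mul]

/-- Every point over an algebraically closed field is a product of two points of the cell. -/
theorem exists_mul_cell (hl : PosList D (-f) l) (hl' : PosList D f l') (hreg : ∀ a, f (D.P.root a) ≠ 0)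
    {A : Type u} [CommRing A] {K : Type u} [Field K] [IsAlgClosed K] [Algebra A K]
    {b : Spec (CommRingCat.of A) ⟶ S} (g : tb b K ⟶ G) :
    ∃ p q : tb b K ⟶ CellSrc D n m, g = (p ≫ RedSub.cellMap D l l') * (q ≫ RedSub.cellMap D l l') := by
  haveI := isOpenImmersion_cell hl hl' hreg
  let cm := RedSub.cellMap D l l'
  let bK : Spec (CommRingCat.of K) ⟶ S := Spec.map (CommRingCat.ofHom (algebraMap A K)) ≫ b
  have hone : (1 : tb b K ⟶ G).left (IsLocalRing.closedPoint K) ∈ cm.left.opensRange := by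
    have h1 : cellPt D (fun _ => (0 : K)) (1 : tb b K ⟶ D.T) (fun _ => 0) ≫ cm = 1 := by
      rw [cellPt_cellMap, cellWord, word_zero, word_zero, tG_one, _root_.one_mul, _root_.one_mul]
    rw [← h1]
    exact ⟨_, rfl⟩
  have hlift : ∀ h : tb b K ⟶ G, h.left (IsLocalRing.closedPoint K) ∈ cm.left.opensRange →
      ∃ p : tb b K ⟶ CellSrc D n m, p ≫ cm = h := fun h hh => by
    have hr : Set.range h.left ⊆ Set.range cm.left := by
      rintro _ ⟨z, rfl⟩
      obtain rfl : z = IsLocalRing.closedPoint K := Subsingleton.elim (α := Spec (CommRingCat.of K)) _ _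
      exact hh
    exact ⟨Over.homMk (IsOpenImmersion.lift cm.left h.left hr)
      (by rw [← Over.w cm, IsOpenImmersion.lift_fac_assoc, Over.w]),
      Over.OverMorphism.ext (IsOpenImmersion.lift_fac _ _ _)⟩
  let φ : Over.mk bK ⊗ G ⟶ G := (fst _ _ ≫ g) * snd _ _
  let φ' : Over.mk bK ⊗ G ⟶ G := (snd (Over.mk bK) G)⁻¹
  have hφ : ∀ h : Over.mk bK ⟶ G, lift (𝟙 _) h ≫ φ = g * h := fun h => by
    show lift (𝟙 _) h ≫ (fst (Over.mk bK) G ≫ g * snd (Over.mk bK) G) = _
    rw [MonObj.comp_mul, lift_snd, ← Category.assoc, lift_fst, Category.id_comp]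
  have hφ' : ∀ h : Over.mk bK ⟶ G, lift (𝟙 _) h ≫ φ' = h⁻¹ := fun h => by
    simp only [φ']
    rw [GrpObj.comp_inv, lift_snd]
  obtain ⟨h, m₁, m₂⟩ := GrpSchLib.RankOne.exists_point_mem D.reductive bK φ φ' cm.left.opensRange
    cm.left.opensRange g⁻¹ 1 (by rw [hφ, mul_inv_cancel]; exact hone) (by rw [hφ', inv_one]; exact hone)
  rw [hφ] at m₁
  rw [hφ'] at m₂
  obtain ⟨p, hp⟩ := hlift _ m₁
  obtain ⟨q, hq⟩ := hlift _ m₂
  exact ⟨p, q, by rw [hp, hq, mul_inv_cancel_right]⟩

/-- Homomorphisms agreeing on the big cell are equal. -/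
theorem hom_eq_of_cell (hl : PosList D (-f) l) (hl' : PosList D f l') (hreg : ∀ a, f (D.P.root a) ≠ 0)
    (φ ψ : G ⟶ H) [IsMonHom φ] [IsMonHom ψ]
    (h : RedSub.cellMap D l l' ≫ φ = RedSub.cellMap D l l' ≫ ψ) : φ = ψ := by
  haveI := isOpenImmersion_cell hl hl' hreg
  haveI : Smooth G.hom := D.reductive.2.1
  let cm := RedSub.cellMap D l l'
  let M : CellSrc D n m ⊗ CellSrc D n m ⟶ G := (cm ⊗ₘ cm) ≫ μ[G]
  have hM : M = (fst _ _ ≫ cm) * (snd _ _ ≫ cm) := by rw [Hom.mul_def, lift_fst_comp_snd_comp]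
  haveI : Flat M.left := by
    haveI : Flat μ[G].left := by
      rw [GrpSchLib.mul_eq_id_whiskerRight]
      exact GrpSchLib.flat_whiskerRight_mul (𝟙 G)
    haveI : IsOpenImmersion (cm ⊗ₘ cm).left := by
      have e : (cm ⊗ₘ cm).left = pullback.map (CellSrc D n m).hom (CellSrc D n m).hom G.hom G.hom cm.left cm.left (𝟙 _)
          (by simp) (by simp) := by
        apply pullback.hom_ext
        · rw [pullback.lift_fst]
          exact congrArg (fun r : _ ⟶ G => r.left) (tensorHom_fst cm cm)
        · rw [pullback.lift_snd]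
          exact congrArg (fun r : _ ⟶ G => r.left) (tensorHom_snd cm cm)
      rw [e]
      infer_instance
    show Flat ((cm ⊗ₘ cm).left ≫ μ[G].left)
    infer_instance
  haveI : Surjective M.left := ⟨fun x => by
    let K := AlgebraicClosure (G.left.residueField x)
    let pt : Spec (CommRingCat.of K) ⟶ G.left :=
      Spec.map (CommRingCat.ofHom (algebraMap (G.left.residueField x) K)) ≫ G.left.fromSpecResidueField x
    obtain ⟨p, q, hpq⟩ := exists_mul_cell hl hl' hreg (testMap pt)
    refine ⟨(lift p q).left (IsLocalRing.closedPoint K), ?_⟩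
    have e : lift p q ≫ M = testMap pt := by
      rw [hM, MonObj.comp_mul, ← Category.assoc, lift_fst, ← Category.assoc, lift_snd, ← hpq]
    show (lift p q ≫ M).left (IsLocalRing.closedPoint K) = x
    rw [e]
    show pt (IsLocalRing.closedPoint K) = x
    show (Spec.map _ ≫ G.left.fromSpecResidueField x) _ = x
    exact Scheme.fromSpecResidueField_apply x _⟩
  haveI : Epi M := by
    haveI := Flat.epi_of_flat_of_surjective M.left
    exact Over.epi_of_epi_left M
  rw [← cancel_epi M, hM, MonObj.mul_comp, MonObj.mul_comp, Category.assoc, Category.assoc, h, Category.assoc,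
    Category.assoc]

end Groth.Agent.RedCell22
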