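import Groth.Prelude.Def_RedSub

/-!
# Linear forms positive on a system of positive roots
-/

set_option autoImplicit false

universe u

open CategoryTheory MonoidalCategory CartesianMonoidalCategory MonObj GrpObj AlgebraicGeometry

noncomputable section

namespace Groth.Agent.RedCell22

/-- Finitely many vectors without a non-trivial non-negative relation are positive for some linear form. -/
theorem exists_form_pos {M : Type} [AddCommGroup M] [Module.Free ℤ M] :
    ∀ {n : ℕ} (v : Fin n → M), (∀ c : Fin n → ℕ, ∑ i, c i • v i = 0 → c = 0) →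
      ∃ f : M →+ ℤ, ∀ i, 0 < f (v i)
  | 0, _, _ => ⟨0, fun i => i.elim0⟩
  | n + 1, v, h => by
    classical
    have hs : ∀ c : Fin n → ℕ, ∑ i, c i • v i.succ = 0 → c = 0 := fun c hc => by
      have := h (Fin.cons 0 c) (by simpa [Fin.sum_univ_succ] using hc)
      funext i
      simpa using congrFun this i.succ
    obtain ⟨f, hf⟩ := exists_form_pos (fun i => v i.succ) hs
    by_cases hx : 0 < f (v 0)
    · exact ⟨f, Fin.cases hx hf⟩
    push Not at hx
    have hne : v 0 ≠ 0 := fun e => by
      have := h (Pi.single 0 1) (by simp [Fin.sum_univ_succ, e])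
      simpa using congrFun this 0
    let y : Fin n → M := fun i => (f (v i.succ)).toNat • v 0 + (-f (v 0)).toNat • v i.succ
    have hy : ∀ c : Fin n → ℕ, ∑ i, c i • y i = 0 → c = 0 := fun c hc => by
      have := h (Fin.cons (∑ i, c i * (f (v i.succ)).toNat) fun i => c i * (-f (v 0)).toNat) (by
        simp only [y, smul_add, ← mul_smul, Finset.sum_add_distrib] at hc
        simp only [Fin.sum_univ_succ, Fin.cons_zero, Fin.cons_succ, Finset.sum_smul]
        exact hc)
      funext i
      have h0 := congrFun this 0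
      simp only [Fin.cons_zero, Pi.zero_apply, Finset.sum_eq_zero_iff, Finset.mem_univ, true_implies,
        mul_eq_zero] at h0
      exact (h0 i).resolve_right (by have := hf i; omega)
    obtain ⟨g, hg⟩ := exists_form_pos y hy
    obtain ⟨k, hk⟩ : ∃ k : M →+ ℤ, 0 < k (v 0) := by
      let b := Module.Free.chooseBasis ℤ M
      obtain ⟨i, hi⟩ : ∃ i, b.repr (v 0) i ≠ 0 := by
        by_contra hall
        push Not at hall
        exact hne (b.repr.injective (Finsupp.ext fun i => by simp [hall i]))
      rcases lt_or_gt_of_ne hi with hlt | hgt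
      · exact ⟨(-(b.coord i)).toAddMonoidHom, by simpa using hlt⟩
      · exact ⟨(b.coord i).toAddMonoidHom, by simpa using hgt⟩
    let h₀ : M →+ ℤ := g (v 0) • f + (-f (v 0)) • g
    have h00 : h₀ (v 0) = 0 := by simp [h₀]; ring
    have hpos : ∀ i : Fin n, 0 < h₀ (v i.succ) := fun i => by
      have := hg i
      simp only [y, map_add, map_nsmul, nsmul_eq_mul, Int.toNat_of_nonneg (hf i).le,
        Int.toNat_of_nonneg (neg_nonneg.mpr hx)] at this
      simp [h₀]
      linarith
    refine ⟨(1 + ∑ i : Fin n, |k (v i.succ)|) • h₀ + k, Fin.cases ?_ fun i => ?_⟩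
    · simp [h00, hk]
    · have h1 := hpos i
      have h2 := Finset.single_le_sum (f := fun i : Fin n => |k (v i.succ)|) (fun _ _ => abs_nonneg _)
        (Finset.mem_univ i)
      have h3 := neg_abs_le (k (v i.succ))
      have h4 : (1 + ∑ x : Fin n, |k (v x.succ)|) ≤ (1 + ∑ x : Fin n, |k (v x.succ)|) * h₀ (v i.succ) :=
        le_mul_of_one_le_right (by linarith [abs_nonneg (k (v i.succ))]) h1
      simp only [AddMonoidHom.add_apply, AddMonoidHom.smul_apply, smul_eq_mul]
      linarith

variable {idx M N : Type} [AddCommGroup M] [AddCommGroup N] [Module.Free ℤ M]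

/-- A base is positive for some linear form. -/
theorem exists_form_base (P : RootPairing idx ℤ M N) (b : P.Base) : ∃ f : M →+ ℤ, ∀ a ∈ b.support, 0 < f (P.root a) := by
  classical
  let e := b.support.equivFin.symm
  obtain ⟨f, hf⟩ := exists_form_pos (fun i => P.root (e i).1) fun c hc => by
    funext i
    have := linearIndependent_iff'.mp ((LinearIndependent.comp b.linearIndepOn_root e e.injective)) Finset.univ
      (fun i => (c i : ℤ)) (by simpa using hc) i (Finset.mem_univ i)
    simpa using this
  exact ⟨f, fun a ha => by simpa using hf (e.symm ⟨a, ha⟩)⟩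

theorem nonneg_of_mem_closure (P : RootPairing idx ℤ M N) (b : P.Base) {f : M →+ ℤ}
    (hf : ∀ a ∈ b.support, 0 < f (P.root a)) {x : M}
    (hx : x ∈ AddSubmonoid.closure (P.root '' (b.support : Set idx))) : 0 ≤ f x ∧ (x ≠ 0 → 0 < f x) := by
  induction hx using AddSubmonoid.closure_induction with
  | mem y hy =>
    obtain ⟨a, ha, rfl⟩ := hy
    exact ⟨(hf a ha).le, fun _ => hf a ha⟩
  | zero => simp
  | add y z _ _ hy hz =>
    rw [map_add]
    refine ⟨add_nonneg hy.1 hz.1, fun hne => ?_⟩
    by_cases h : y = 0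
    · subst h
      simpa using hz.2 (by simpa using hne)
    · linarith [hy.2 h, hz.1]

theorem mem_posRoots_iff (P : RootPairing idx ℤ M N) (b : P.Base) {f : M →+ ℤ}
    (hf : ∀ a ∈ b.support, 0 < f (P.root a)) (a : idx) :
    (a ∈ RedSub.posRoots P b ↔ 0 < f (P.root a)) ∧ (a ∈ RedSub.negRoots P b ↔ f (P.root a) < 0) ∧
      f (P.root a) ≠ 0 := by
  have hp : P.root a ∈ AddSubmonoid.closure (P.root '' (b.support : Set idx)) → 0 < f (P.root a) :=
    fun h => (nonneg_of_mem_closure P b hf h).2 (P.ne_zero a)
  have hn : -P.root a ∈ AddSubmonoid.closure (P.root '' (b.support : Set idx)) → f (P.root a) < 0 := fun h => by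
    have := (nonneg_of_mem_closure P b hf h).2 (neg_ne_zero.mpr (P.ne_zero a))
    rw [map_neg] at this
    linarith
  rcases b.root_mem_or_neg_mem a with h | h
  · exact ⟨⟨hp, fun _ => h⟩, ⟨hn, fun h' => absurd h' (not_lt.mpr (hp h).le)⟩, (hp h).ne'⟩
  · exact ⟨⟨hp, fun h' => absurd h' (not_lt.mpr (hn h).le)⟩, ⟨hn, fun _ => h⟩, (hn h).ne⟩

end Groth.Agent.RedCell22
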