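import Groth.Agent.RedCell22.Cell
import Groth.Agent.RedCell22.Form

/-!
# Positive roots of a base as positive roots of a linear form, and the unipotent closed immersions
-/

set_option autoImplicit false
set_option linter.unusedSectionVars false
set_option linter.style.haveILetI false

universe u

open CategoryTheory CategoryTheory.Limits AlgebraicGeometry MonoidalCategory CartesianMonoidalCategory
open MonObj GrpObj

noncomputable section

namespace Groth.Agent.RedCell22

variable {S : Scheme.{u}} {G : Over S} [GrpObj G] {D : Red.SplitRed G} {n m : ℕ}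

theorem posList_of_enumerates (b : D.P.Base) {f : D.M →+ ℤ} (hf : ∀ a ∈ b.support, 0 < f (D.P.root a))
    {l : Fin m → D.idx} (hl : RedSub.Enumerates (RedSub.posRoots D.P b) l) : PosList D f l :=
  ⟨hl.1, fun a => by rw [hl.2]; exact (mem_posRoots_iff D.P b hf a).1⟩

theorem negList_of_enumerates (b : D.P.Base) {f : D.M →+ ℤ} (hf : ∀ a ∈ b.support, 0 < f (D.P.root a))
    {l : Fin m → D.idx} (hl : RedSub.Enumerates (RedSub.negRoots D.P b) l) : PosList D (-f) l :=
  ⟨hl.1, fun a => by rw [hl.2, AddMonoidHom.neg_apply, neg_pos]; exact (mem_posRoots_iff D.P b hf a).2.1⟩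

/-- The ordered product of positive root groups is a monomorphism. -/
theorem mono_prodMap {f : D.M →+ ℤ} {l : Fin m → D.idx} (hl : PosList D f l) :
    Mono (RedSub.prodMap (Red.Ga S) m fun k => D.u (l k)) := by
  haveI : IsAffineHom G.hom := isAffineHom_of_split D
  exact mono_of_tests _ fun A _ b p p' h => by
    rw [← powPt_powCoord p, ← powPt_powCoord p', powPt_prodMap, powPt_prodMap] at h
    rw [← powPt_powCoord p, ← powPt_powCoord p', word_injective hl h]

/-- A product of root groups reaching all functions on the universal tuple is a closed immersion. -/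
theorem isClosedImmersion_prodMap_of_surjective [IsAffineHom G.hom] (l : Fin m → D.idx)
    (hs : ∀ (A : Type u) [CommRing A] (b : Spec (CommRingCat.of A) ⟶ S),
      Function.Surjective (ev b (uWord D l : tb b (MvPolynomial (Fin m) A) ⟶ G))) :
    IsClosedImmersion (RedSub.prodMap (Red.Ga S) m fun k => D.u (l k)).left := by
  refine isClosedImmersion_of_mapFun _ fun A _ b q => ?_
  let W := RedSub.prodMap (Red.Ga S) m fun k => D.u (l k)
  let p₀ : tb b (MvPolynomial (Fin m) A) ⟶ RedSub.pow (Red.Ga S) m := powPt MvPolynomial.X
  obtain ⟨h, hh⟩ := hs A b (ev b p₀ q)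
  have hinj : Function.Injective (ev b p₀ : FunRing b (RedSub.pow (Red.Ga S) m) → _) := by
    let ψ : MvPolynomial (Fin m) A →ₐ[A] FunRing b (RedSub.pow (Red.Ga S) m) :=
      MvPolynomial.aeval (powCoord (univ b))
    have e : tm b ψ ≫ p₀ = univ b := by
      rw [powPt_map]
      simp [ψ, powPt_powCoord]
    have e' := congrArg (ev b) e
    rw [ev_comp, ev_univ] at e'
    exact Function.LeftInverse.injective (g := ψ) fun x => AlgHom.congr_fun e' x
  refine ⟨h, hinj ?_⟩
  rw [← hh]
  have e2 : p₀ ≫ W = uWord D l := powPt_prodMap D l _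
  exact (AlgHom.congr_fun (ev_comp_map b W p₀) h).symm.trans (by rw [e2])

/-- The ordered product of positive root groups is a closed immersion. -/
theorem isClosedImmersion_prodMap {f : D.M →+ ℤ} {l : Fin m → D.idx} (hl : PosList D f l) :
    IsClosedImmersion (RedSub.prodMap (Red.Ga S) m fun k => D.u (l k)).left := by
  haveI : IsAffineHom G.hom := isAffineHom_of_split D
  exact isClosedImmersion_prodMap_of_surjective l fun A _ b => ev_uWord_surjective hl

end Groth.Agent.RedCell22
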