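import Groth.Agent.RedCell22.LeviOp
import Groth.Agent.Red23Lib.Pinned.RootsTwo

/-!
# Points inducing a reflection carry root groups to root groups
-/

set_option autoImplicit false
set_option linter.unusedSectionVars false
set_option linter.style.haveILetI false

universe u

open CategoryTheory CategoryTheory.Limits AlgebraicGeometry MonoidalCategory CartesianMonoidalCategory
open MonObj GrpObj

noncomputable section

namespace Groth.Agent.RedCell22

variable {S : Scheme.{u}} {G : Over S} [GrpObj G] [IsAffineHom G.hom] {D : Red.SplitRed G}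
variable {A : Type u} [CommRing A] {b : Spec (CommRingCat.of A) ⟶ S} {B : Type u} [CommRing B] [Algebra A B]

theorem pairing_double_ne (base : D.P.Base) (r c : D.idx) : D.P.root c ≠ (2 : ℤ) • D.P.root r := fun h =>
  Red23Lib.Pinned.isIndiv_of_base base c r h.symm

theorem reflHom_reflHom (a : D.idx) (m : D.M) : reflHom D a (reflHom D a m) = m :=
  D.P.reflection_same a m

theorem IsReflPt.inv {a : D.idx} {n : 𝟙_ (Over S) ⟶ G} (hn : IsReflPt D a n) : IsReflPt D a n⁻¹ := by
  intro X t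
  let s : D.T ⟶ D.T := D.split.hom.hom.hom ≫
    Red.DSmap S (D.P.reflection a).toLinearMap.toAddMonoidHom ≫ D.split.inv.hom.hom
  have hs : (t ≫ s) ≫ s = t := by
    refine hom_ext_of_tests fun A' _ b' φ => ?_
    obtain ⟨χ, hχ⟩ := tpt_surjective D (φ ≫ t)
    have h : D.split.inv.hom.hom ≫ D.split.hom.hom.hom = 𝟙 _ := congrArg (fun z => z.hom.hom) D.split.inv_hom_id
    simp only [s, Category.assoc]
    rw [← reassoc_of% hχ, ← hχ, tpt]
    simp only [Category.assoc, reassoc_of% h]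
    rw [← Category.assoc (dsPt χ), dsPt_DSmap, ← Category.assoc, dsPt_DSmap]
    congr 2
    exact MonoidHom.ext fun m => congrArg χ (reflHom_reflHom a _)
  have h1 := hn X (t ≫ s)
  have h2 : ∀ u : X ⟶ D.T, u ≫ D.split.hom.hom.hom ≫ Red.DSmap S (D.P.reflection a).toLinearMap.toAddMonoidHom ≫
      D.split.inv.hom.hom ≫ D.i = (u ≫ s) ≫ D.i := fun u => by simp only [s, Category.assoc]
  rw [h2, hs] at h1
  rw [h2, GrpObj.comp_inv, _root_.inv_inv, ← h1]
  group

theorem toUnit_map {n : 𝟙_ (Over S) ⟶ G} {C : Type u} [CommRing C] [Algebra A C] (φ : B →ₐ[A] C) :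
    tm b φ ≫ toUnit (tb b B) ≫ n = toUnit (tb b C) ≫ n := by
  rw [← Category.assoc, toUnit_unique (tm b φ ≫ toUnit (tb b B)) (toUnit _)]

theorem IsReflPt.tG_mul {a : D.idx} {n : 𝟙_ (Over S) ⟶ G} (hn : IsReflPt D a n) (χ : Multiplicative D.M →* Bˣ) :
    tG D (tpt D χ) * (toUnit _ ≫ n : tb b B ⟶ G) =
      (toUnit _ ≫ n) * tG D (tpt D (χ.comp (AddMonoidHom.toMultiplicative (reflHom D a)))) := by
  have h := hn.conj_tG (b := b) (χ.comp (AddMonoidHom.toMultiplicative (reflHom D a)))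
  rw [show (χ.comp (AddMonoidHom.toMultiplicative (reflHom D a))).comp (AddMonoidHom.toMultiplicative (reflHom D a)) = χ
    from MonoidHom.ext fun m => congrArg χ (reflHom_reflHom a _)] at h
  exact (mul_inv_eq_iff_eq_mul.mp h).symm

theorem IsReflPt.orb_conj {a : D.idx} {n : 𝟙_ (Over S) ⟶ G} (hn : IsReflPt D a n) (f : D.M →+ ℤ) (g : tb b B ⟶ G) :
    (lam D f).orb ((toUnit _ ≫ n) * g * (toUnit _ ≫ n)⁻¹) =
      (toUnit _ ≫ n) * (lam D (f.comp (reflHom D a))).orb g * (toUnit _ ≫ n)⁻¹ := by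
  have hc : (coVal D f (Tu B)).comp (AddMonoidHom.toMultiplicative (reflHom D a)) =
      coVal D (f.comp (reflHom D a)) (Tu B) := MonoidHom.ext fun m => rfl
  have h := hn.tG_mul (b := b) (coVal D f (Tu B))
  rw [hc] at h
  show tG D _ * (tm b CL ≫ ((toUnit _ ≫ n) * g * (toUnit _ ≫ n)⁻¹)) * (tG D _)⁻¹ = _
  rw [tm_mul, tm_mul, tm_inv, toUnit_map]
  show _ = _ * (tG D (tpt D (coVal D (f.comp (reflHom D a)) (Tu B))) * _ * (tG D _)⁻¹) * _
  rw [show ∀ t N w : tb b (LaurentPolynomial B) ⟶ G, t * (N * w * N⁻¹) * t⁻¹ = (t * N) * w * (t * N)⁻¹ from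
    fun t N w => by group, h]
  group

theorem IsReflPt.hasLimOne_conj {a : D.idx} {n : 𝟙_ (Over S) ⟶ G} (hn : IsReflPt D a n) {f : D.M →+ ℤ}
    {g : tb b B ⟶ G} (hg : (lam D (f.comp (reflHom D a))).HasLimOne g) :
    (lam D f).HasLimOne ((toUnit _ ≫ n) * g * (toUnit _ ≫ n)⁻¹) := by
  obtain ⟨h, hh, h0⟩ := hg
  refine ⟨(toUnit _ ≫ n) * h * (toUnit _ ≫ n)⁻¹, ?_, ?_⟩
  · rw [tm_mul, tm_mul, tm_inv, toUnit_map, hh, hn.orb_conj]
  · rw [tm_mul, tm_mul, tm_inv, toUnit_map, h0, _root_.mul_one, mul_inv_cancel]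

theorem exists_conj_refl_aux {a : D.idx} (base : D.P.Base) {n : 𝟙_ (Over S) ⟶ G} (hn : IsReflPt D a n) (c : D.idx) :
    ∃ e : A, ∀ (B : Type u) [CommRing B] [Algebra A B] (y : B),
      ((toUnit _ ≫ n) * ua D c y * (toUnit _ ≫ n)⁻¹ : tb b B ⟶ G) =
        ua D (D.P.reflectionPerm a c) (algebraMap A B e * y) := by
  classical
  let r := D.P.reflectionPerm a c
  have hr : D.P.root r = reflHom D a (D.P.root c) := D.P.root_reflectionPerm a c
  haveI : IsAddTorsionFree D.M := .of_isTorsionFree ℤ D.M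
  have hΨ : IsClosedSet D.P ({r} : Set D.idx) := by
    refine ⟨fun x y s hx hy hs => ?_, fun x y hx hy hy' => ?_⟩
    · rw [Set.mem_singleton_iff] at hx hy
      subst hx hy
      exact absurd (hs.symm.trans (two_smul ℤ _).symm) (pairing_double_ne base r s)
    · rw [Set.mem_singleton_iff] at hx hy'
      subst hx hy'
      have h2 : (2 : ℤ) • D.P.root r = 0 := by rw [two_smul]; exact eq_neg_iff_add_eq_zero.mp hy
      exact D.P.ne_zero r ((smul_eq_zero.mp h2).resolve_left two_ne_zero)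
  have he : RedSub.Enumerates ({r} : Set D.idx) (fun _ : Fin 1 => r) :=
    ⟨Function.injective_of_subsingleton _, by simp⟩
  obtain ⟨f, hf⟩ := hΨ.exists_form
  let g : tb b (MvPolynomial (Fin 1) A) ⟶ G := (toUnit _ ≫ n) * ua D c (MvPolynomial.X 0) * (toUnit _ ≫ n)⁻¹
  have hg : Equivariant D (fun _ : Fin 1 => D.P.root r) g := fun f' => by
    rw [hn.orb_conj, orb_ua, tm_mul, tm_mul, tm_inv, toUnit_map, ua_map, psiW_X]
    show _ * ua D c (_ * LaurentPolynomial.T (f' (reflHom D a (D.P.root c)))) * _ = _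
    rw [← hr]
  have hlim : (lam D f).HasLimOne g := hn.hasLimOne_conj (hasLimOne_ua D
    (by show 0 < f (reflHom D a (D.P.root c)); rw [← hr]; exact hf r rfl) _)
  obtain ⟨z, hz⟩ := exists_word_of_equivariant hΨ hf he (fun _ : Fin 1 => r) (fun _ => rfl) hg hlim
  refine ⟨MvPolynomial.coeff (Finsupp.single 0 1) (z 0), fun B _ _ y => ?_⟩
  have hzm : z 0 = MvPolynomial.monomial (Finsupp.single 0 1) (MvPolynomial.coeff (Finsupp.single 0 1) (z 0)) := by
    ext d
    rw [MvPolynomial.coeff_monomial]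
    split_ifs with h
    · rw [h]
    by_contra hd
    refine h ?_
    have hw := weight_coord_closed (b := b) hΨ he (hz.symm ▸ hg : Equivariant D _ (word D (fun _ => r) z)) 0 d hd
    rw [Finsupp.weight_apply, Finsupp.sum_fintype d (fun v k => k • D.P.root r) (fun _ => zero_smul ℕ _), Fin.sum_univ_one, ← natCast_zsmul] at hw
    have h1 : (d 0 : ℤ) = 1 := smul_left_injective ℤ (D.P.ne_zero r) (hw.trans (one_smul ℤ _).symm)
    refine Finsupp.ext fun v => ?_
    rw [Subsingleton.elim v 0, Finsupp.single_eq_same]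
    exact_mod_cast h1.symm
  have h := congrArg (tm b (MvPolynomial.aeval fun _ : Fin 1 => y) ≫ ·) hz
  simp only [word_map, g, tm_mul, tm_inv, ua_map, MvPolynomial.aeval_X, toUnit_map] at h
  rw [← h, word, List.ofFn_succ, List.ofFn_zero, List.prod_singleton, hzm, MvPolynomial.aeval_monomial]
  simp
  rfl

/-- A point inducing a reflection carries a root group to the reflected one, by a unit. -/
theorem exists_conj_refl {a : D.idx} (base : D.P.Base) {n : 𝟙_ (Over S) ⟶ G} (hn : IsReflPt D a n) (c : D.idx) :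
    ∃ e : Aˣ, ∀ (B : Type u) [CommRing B] [Algebra A B] (y : B),
      ((toUnit _ ≫ n) * ua D c y * (toUnit _ ≫ n)⁻¹ : tb b B ⟶ G) =
        ua D (D.P.reflectionPerm a c) (algebraMap A B (e : A) * y) := by
  obtain ⟨e, he⟩ := exists_conj_refl_aux (A := A) (b := b) base hn c
  obtain ⟨e', he'⟩ := exists_conj_refl_aux (A := A) (b := b) base hn.inv (D.P.reflectionPerm a c)
  have h1 := he' A (algebraMap A A e * 1)
  rw [← he A 1, RootPairing.reflectionPerm_self, GrpObj.comp_inv, _root_.inv_inv,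
    show ((toUnit _ ≫ n)⁻¹ * ((toUnit _ ≫ n) * ua D c (1 : A) * (toUnit _ ≫ n)⁻¹) * (toUnit _ ≫ n) : tb b A ⟶ G) =
      ua D c 1 by group] at h1
  have h2 := ua_injective D c h1
  rw [Algebra.algebraMap_self, RingHom.id_apply, RingHom.id_apply, _root_.mul_one] at h2
  exact ⟨⟨e, e', by rw [_root_.mul_comm]; exact h2.symm, h2.symm⟩, he⟩

end Groth.Agent.RedCell22
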