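import Groth.Agent.RedCell22.RankOneGrp
import Groth.Agent.RedCell22.ReflConj
import Groth.Agent.RedCell22.HomExt
import Groth.Agent.RedCell22.Orders

/-!
# The two translates of the cell of a root, over an algebraically closed field
-/

set_option autoImplicit false
set_option linter.unusedSectionVars false
set_option linter.style.haveILetI false

universe u

open CategoryTheory CategoryTheory.Limits AlgebraicGeometry MonoidalCategory CartesianMonoidalCategory
open MonObj GrpObj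

noncomputable section

namespace Groth.Agent.RedCell22

variable {S : Scheme.{u}} {A : Type u} [CommRing A] {b : Spec (CommRingCat.of A) ⟶ S}
variable {B : Type u} [CommRing B] [Algebra A B]
variable {G : Over S} [GrpObj G] {D : Red.SplitRed G}

/-- The points of the torus. -/
def torusSub (D : Red.SplitRed G) (b : Spec (CommRingCat.of A) ⟶ S) (B : Type u) [CommRing B] [Algebra A B] :
    Subgroup (tb b B ⟶ G) :=
  (tGHom D).range

theorem tG_mem (t : tb b B ⟶ D.T) : tG D t ∈ torusSub D b B := ⟨t, rfl⟩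

/-- The cell of a linear form, on points. -/
def InOmega (D : Red.SplitRed G) (f : D.M →+ ℤ) (g : tb b B ⟶ G) : Prop :=
  ∃ v t u, (lam D (-f)).HasLimOne v ∧ (lam D f).HasLimOne u ∧ g = v * tG D t * u

theorem InOmega.exists_cellPt [IsAffineHom G.hom] {f : D.M →+ ℤ} {n m : ℕ} {l : Fin n → D.idx} {l' : Fin m → D.idx}
    (hl : PosList D (-f) l) (hl' : PosList D f l') {g : tb b B ⟶ G} (h : InOmega D f g) :
    ∃ p : tb b B ⟶ CellSrc D n m, p ≫ RedSub.cellMap D l l' = g := by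
  obtain ⟨v, t, u, hv, hu, rfl⟩ := h
  obtain ⟨y, hy⟩ := exists_word hl hv
  obtain ⟨x, hx⟩ := exists_word hl' hu
  exact ⟨cellPt D y t x, by rw [cellPt_cellMap, cellWord, hy, hx, _root_.mul_assoc]⟩

theorem inOmega_cellMap [IsAffineHom G.hom] {f : D.M →+ ℤ} {n m : ℕ} {l : Fin n → D.idx} {l' : Fin m → D.idx}
    (hl : PosList D (-f) l) (hl' : PosList D f l') (p : tb b B ⟶ CellSrc D n m) :
    InOmega D f (p ≫ RedSub.cellMap D l l') := by
  obtain ⟨y, t, x, rfl⟩ := exists_cellPt D p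
  exact ⟨_, t, _, hasLimOne_word D (hl.pos D) y, hasLimOne_word D (hl'.pos D) x,
    by rw [cellPt_cellMap, cellWord, _root_.mul_assoc]⟩

variable [IsAffineHom G.hom] {K : Type u} [Field K] [IsAlgClosed K] [Algebra A K]

/-- A point fixed by a regular cocharacter is in the torus. -/
theorem exists_torus_of_fixed {f : D.M →+ ℤ} (hreg : ∀ x, f (D.P.root x) ≠ 0) {g : tb b K ⟶ G}
    (hg : (lam D f).IsFixed g) : ∃ t : tb b K ⟶ D.T, g = tG D t := by
  obtain ⟨m, lp, hlp⟩ := exists_posList D f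
  obtain ⟨n, ln, hln⟩ := exists_posList D (-f)
  haveI := isOpenImmersion_cell hln hlp hreg
  let cm := RedSub.cellMap D ln lp
  let bK : Spec (CommRingCat.of K) ⟶ S := Spec.map (CommRingCat.ofHom (algebraMap A K)) ≫ b
  have hone : (1 : tb b K ⟶ G).left (IsLocalRing.closedPoint K) ∈ cm.left.opensRange := by
    have h1 : cellPt D (fun _ => (0 : K)) (1 : tb b K ⟶ D.T) (fun _ => 0) ≫ cm = 1 := by
      rw [cellPt_cellMap, cellWord, word_zero, word_zero, tG_one, _root_.one_mul, _root_.one_mul]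
    rw [← h1]
    exact ⟨_, rfl⟩
  have hmem : ∀ h : tb b K ⟶ G, h.left (IsLocalRing.closedPoint K) ∈ cm.left.opensRange → InOmega D f h := by
    intro h hh
    have hr : Set.range h.left ⊆ Set.range cm.left := by
      rintro _ ⟨z, rfl⟩
      obtain rfl : z = IsLocalRing.closedPoint K := Subsingleton.elim (α := Spec (CommRingCat.of K)) _ _
      exact hh
    let p : tb b K ⟶ CellSrc D n m :=
      Over.homMk (IsOpenImmersion.lift cm.left h.left hr) (by rw [← Over.w cm, IsOpenImmersion.lift_fac_assoc, Over.w])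
    have hp : p ≫ cm = h := Over.OverMorphism.ext (IsOpenImmersion.lift_fac _ _ _)
    rw [← hp]
    exact inOmega_cellMap hln hlp p
  let φ' : Over.mk bK ⊗ G ⟶ G := (fst _ _ ≫ g) * snd _ _
  have hφ' : ∀ h : Over.mk bK ⟶ G, lift (𝟙 _) h ≫ φ' = g * h := fun h => by
    show lift (𝟙 _) h ≫ (fst (Over.mk bK) G ≫ g * snd (Over.mk bK) G) = _
    rw [MonObj.comp_mul, lift_snd, ← Category.assoc, lift_fst, Category.id_comp]
  obtain ⟨h, m₁, m₂⟩ := GrpSchLib.RankOne.exists_point_mem D.reductive bK (snd _ _) φ' cm.left.opensRange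
    cm.left.opensRange 1 g⁻¹ (by rw [lift_snd]; exact hone) (by rw [hφ', mul_inv_cancel]; exact hone)
  rw [lift_snd] at m₁
  rw [hφ'] at m₂
  obtain ⟨wn, t, wp, hwn, hwp, rfl⟩ := hmem h m₁
  obtain ⟨wn', t', wp', hwn', hwp', he⟩ := hmem _ m₂
  let M := (tG D t : tb b K ⟶ G)
  let M' := (tG D t' : tb b K ⟶ G)
  have hM : ∀ t : tb b K ⟶ D.T, (lam D f).IsFixed (tG D t) := fixed_tG D f
  have e1 : wn'⁻¹ * (g * wn * g⁻¹) = M' * wp' * wp⁻¹ * (g * M)⁻¹ := by
    have h1 : g * wn * g⁻¹ = (g * (wn * M * wp)) * wp⁻¹ * (g * M)⁻¹ := by group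
    rw [h1, show g * (wn * M * wp) = wn' * M' * wp' from he]
    group
  have hX : wn'⁻¹ * (g * wn * g⁻¹) = 1 := eq_one_of_opposite D
    (e1 ▸ ((((hM t').hasLim _).mul _ (hwp'.hasLim _)).mul _ ((hwp.hasLim _).inv _)).mul _
      (((hg.mul (hM t)).hasLim _).inv _))
    ((hwn'.inv _).mul _ (hwn.conj_fixed (fixed_neg hg)))
  rw [e1] at hX
  have hfix : M'⁻¹ * (g * M) = wp' * wp⁻¹ := by
    have h1 : g * M = M' * wp' * wp⁻¹ := (mul_inv_eq_one.mp hX).symm
    rw [h1]; group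
  have hY : M'⁻¹ * (g * M) = 1 := Cochar.eq_one_of_fixed_of_limOne _ ((hM t').inv.mul (hg.mul (hM t)))
    (hfix ▸ hwp'.mul _ (hwp.inv _))
  refine ⟨t' * t⁻¹, ?_⟩
  rw [tG_mul, tG_inv, eq_mul_inv_iff_mul_eq]
  exact (inv_mul_eq_one.mp hY).symm

theorem exists_chr_eq (a : D.idx) (u : Kˣ) : ∃ t : tb b K ⟶ D.T, chr D (D.P.root a) t = u := by
  obtain ⟨z, hz⟩ := IsAlgClosed.exists_pow_nat_eq (u : K) (n := 2) (by norm_num)
  have hz0 : z ≠ 0 := fun h => u.ne_zero (by rw [← hz, h]; simp)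
  refine ⟨tpt D (coVal D (D.P.coroot a).toAddMonoidHom (Units.mk0 z hz0)), ?_⟩
  rw [chr_coVal, show (D.P.coroot a).toAddMonoidHom (D.P.root a) = (2 : ℤ) from
    (coroot_root a a).trans (D.P.pairing_same a)]
  exact Units.ext (by rw [show (2 : ℤ) = ((2 : ℕ) : ℤ) from rfl, zpow_natCast]; exact hz)

/-- The rank one structure of a root. -/
theorem exists_rank1 (base : D.P.Base) (a : D.idx) {n : 𝟙_ (Over S) ⟶ G} (hn : IsReflPt D a n) :
    ∃ R : Rank1 K (tb b K ⟶ G), R.p = ua D a ∧ R.m = ua D (D.P.reflectionPerm a a) ∧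
      R.T = torusSub D b K ∧ R.N = toUnit _ ≫ n := by
  let na := D.P.reflectionPerm a a
  let N : tb b K ⟶ G := toUnit _ ≫ n
  have hna : D.P.root na = -D.P.root a := Groth.Agent.RootData.root_neg D.P a
  have hTu : ∀ (r : D.idx) (t : tb b K ⟶ G), t ∈ torusSub D b K → ∀ x : K,
      ∃ x', t * ua D r x = ua D r x' * t ∧ (x ≠ 0 → x' ≠ 0) := by
    rintro r _ ⟨t, rfl⟩ x
    exact ⟨_, tG_mul_ua D t r x, fun hx => mul_ne_zero (Units.ne_zero _) hx⟩
  have hscale : ∀ (r : D.idx) (x y : K), x ≠ 0 → y ≠ 0 →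
      ∃ t ∈ torusSub D b K, t * ua D r x = ua D r y * t := fun r x y hx hy => by
    obtain ⟨t, ht⟩ := exists_chr_eq (b := b) r (Units.mk0 (y / x) (div_ne_zero hy hx))
    refine ⟨tG D t, tG_mem t, ?_⟩
    rw [tG_mul_ua, ht, Units.val_mk0, div_mul_cancel₀ _ hx]
  obtain ⟨f, hfa, hf⟩ := exists_form_ker a fun r h1 h2 => indep_of_base base h1 h2
  obtain ⟨φ, hφ⟩ := exists_form_base D.P base
  obtain ⟨y₁, x₁, t₁, y₂, hN⟩ := exists_levi a (fun r h1 h2 => indep_of_base base h1 h2) hfa hf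
    (g := N) (hn.fixed hfa)
  obtain ⟨e₁, he₁⟩ := exists_conj_refl (A := A) (b := b) base hn a
  obtain ⟨e₂, he₂⟩ := exists_conj_refl (A := A) (b := b) base hn na
  obtain ⟨d₁, hd₁⟩ := exists_conj_refl (A := A) (b := b) base hn.inv a
  obtain ⟨d₂, hd₂⟩ := exists_conj_refl (A := A) (b := b) base hn.inv na
  have hne : ∀ (e : Aˣ) (x : K), x ≠ 0 → algebraMap A K e * x ≠ 0 := fun e x hx =>
    mul_ne_zero (e.isUnit.map (algebraMap A K)).ne_zero hx
  have hflip : D.P.reflectionPerm a na = a := D.P.reflectionPerm_self a a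
  have hsep : ∀ c e : K, (ua D a c : tb b K ⟶ G) = ua D na e → c = 0 ∧ e = 0 := fun c e h => by
    have h2 : (lam D (D.P.coroot a).toAddMonoidHom).HasLimOne (ua D a c : tb b K ⟶ G) := hasLimOne_ua D
      (by show 0 < D.P.coroot a (D.P.root a); rw [coroot_root, D.P.pairing_same]; norm_num) c
    have h3 : (lam D (-(D.P.coroot a).toAddMonoidHom)).HasLimOne (ua D na e : tb b K ⟶ G) := hasLimOne_ua D
      (by show 0 < -(D.P.coroot a (D.P.root na)); rw [hna, map_neg, coroot_root, D.P.pairing_same]; norm_num) e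
    have h4 : (ua D a c : tb b K ⟶ G) = 1 := eq_one_of_opposite D (h2.hasLim _) (h ▸ h3)
    rw [h] at h4
    exact ⟨ua_injective D a ((h.trans h4).trans (ua_zero D a).symm), ua_injective D na (h4.trans (ua_zero D na).symm)⟩
  have hx₁ : x₁ ≠ 0 := fun h => by
    rw [h, ua_zero, _root_.mul_one] at hN
    have h1 := he₂ K 1
    rw [hflip, show (toUnit _ ≫ n : tb b K ⟶ G) = N from rfl, hN,
      show ∀ v w x z : tb b K ⟶ G, v * w * x * z * (v * w * x)⁻¹ = v * (w * (x * z * x⁻¹) * w⁻¹) * v⁻¹ from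
        fun v w x z => by group,
      ← ua_add, ← ua_neg, ← ua_add, add_right_comm, add_neg_cancel, _root_.zero_add, conj_ua, ← ua_neg, ← ua_add,
      ← ua_add] at h1
    exact hne e₂ 1 one_ne_zero (hsep _ _ h1.symm).1
  have hy₂ : y₂ ≠ 0 := fun h => by
    rw [h, ua_zero, _root_.mul_one] at hN
    have h1 := he₁ K 1
    rw [show (toUnit _ ≫ n : tb b K ⟶ G) = N from rfl, hN,
      show ∀ v w x z : tb b K ⟶ G, v * w * x * z * (v * w * x)⁻¹ = v * (w * (x * z * x⁻¹) * w⁻¹) * v⁻¹ from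
        fun v w x z => by group,
      conj_ua, ← ua_neg D a, ← ua_add, ← ua_add, add_right_comm, add_neg_cancel, _root_.zero_add, ← ua_neg D _ y₁] at h1
    have h2 : (ua D a ((chr D (D.P.root a) t₁ : K) * 1) : tb b K ⟶ G) =
        ua D (D.P.reflectionPerm a a) (-y₁ + algebraMap A K e₁ * 1 + y₁) := by
      rw [ua_add, ua_add, ← h1]
      simp only [ua_neg]
      group
    have h3 := (hsep _ _ h2).2
    rw [neg_add_cancel_comm] at h3
    exact hne e₁ 1 one_ne_zero h3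
  refine ⟨{
    p := ua D a
    m := ua D na
    T := torusSub D b K
    N := N
    p_add := ua_add D a
    m_add := ua_add D na
    T_p := hTu a
    T_m := hTu na
    N_T := ?_
    T_N := ?_
    p_N := fun x => ⟨_, ?_, fun hx => hne d₁ x hx⟩
    m_N := fun x => ⟨_, ?_, fun hx => hne d₂ x hx⟩
    N_sq := ?_
    scale := hscale a
    scale_m := hscale na
    decomp := ⟨y₁, x₁, tG D t₁, y₂, tG_mem t₁, hx₁, hy₂, hN⟩ }, rfl, rfl, rfl, rfl⟩
  · rintro _ ⟨t, rfl⟩
    obtain ⟨χ, rfl⟩ := tpt_surjective D t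
    exact ⟨_, tG_mem _, hn.tG_mul χ⟩
  · rintro _ ⟨t, rfl⟩
    obtain ⟨χ, rfl⟩ := tpt_surjective D t
    exact ⟨_, tG_mem _, (mul_inv_eq_iff_eq_mul.mp (hn.conj_tG χ))⟩
  · have h1 := hd₁ K x
    rw [GrpObj.comp_inv, _root_.inv_inv] at h1
    rw [← h1]
    show _ = N * (N⁻¹ * _ * N)
    group
  · have h1 := hd₂ K x
    rw [GrpObj.comp_inv, _root_.inv_inv, hflip] at h1
    rw [← h1]
    show _ = N * (N⁻¹ * _ * N)
    group
  · obtain ⟨t, ht⟩ := exists_torus_of_fixed (g := N * N) (fun x => (mem_posRoots_iff D.P base hφ x).2.2) (by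
      show (lam D φ).conj (tm b CL ≫ (N * N)) (Tu K) = tm b CL ≫ (N * N)
      rw [tm_mul, toUnit_map]
      show tG D (tpt D (coVal D φ (Tu K))) * (_ * _) * (tG D _)⁻¹ = _
      rw [← _root_.mul_assoc, hn.tG_mul, _root_.mul_assoc _ (tG D _), hn.tG_mul, ← _root_.mul_assoc]
      refine mul_inv_eq_iff_eq_mul.mpr (congrArg (_ * tG D ·) (congrArg (tpt D) (MonoidHom.ext fun m => ?_)))
      exact congrArg (coVal D φ (Tu K)) (reflHom_reflHom a _))
    exact ht ▸ tG_mem t

/-- A point of the Levi subgroup of a root lies in the cell of the root or in its translate. -/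
theorem levi_cases (base : D.P.Base) {a : D.idx} {f : D.M →+ ℤ} (hfa : f (D.P.root a) = 0)
    (hf : ∀ r, r ≠ a → D.P.root r ≠ -D.P.root a → f (D.P.root r) ≠ 0) (R : Rank1 K (tb b K ⟶ G))
    (hp : R.p = ua D a) (hm : R.m = ua D (D.P.reflectionPerm a a)) (hT : R.T = torusSub D b K)
    {g : tb b K ⟶ G} (hg : (lam D f).IsFixed g) :
    R.InCell g ∨ ∃ r t, t ∈ R.T ∧ g = R.N * R.p r * t := by
  obtain ⟨y₁, x, t, y₂, rfl⟩ := exists_levi a (fun r h1 h2 => indep_of_base base h1 h2) hfa hf hg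
  refine R.inCell_or ?_
  rw [← hp, ← hm]
  have h0 : R.InTwo (R.m y₁) := Or.inl ⟨y₁, 1, one_mem _, (_root_.mul_one _).symm⟩
  exact ((h0.mul_p R x).mul_T R (hT ▸ tG_mem t)).mul_m R y₂

/-- The cell of a root completed by the other root groups is in the big cell. -/
theorem inOmega_of_inCell {a : D.idx} {f f' : D.M →+ ℤ}
    (hpos : ∀ r, 0 < f (D.P.root r) → 0 < f' (D.P.root r)) (hneg : ∀ r, f (D.P.root r) < 0 → f' (D.P.root r) < 0)
    (ha : 0 < f' (D.P.root a)) (R : Rank1 K (tb b K ⟶ G)) (hp : R.p = ua D a)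
    (hm : R.m = ua D (D.P.reflectionPerm a a)) (hT : R.T = torusSub D b K) {vn c vp : tb b K ⟶ G}
    (hvn : (lam D (-f)).HasLimOne vn) (hvp : (lam D f).HasLimOne vp) (hc : R.InCell c) :
    InOmega D f' (vn * c * vp) := by
  obtain ⟨y, _, z, ht, rfl⟩ := hc
  rw [hT] at ht
  obtain ⟨t, rfl⟩ := ht
  obtain ⟨mp, lp, hlp⟩ := exists_posList D f
  obtain ⟨mn, ln, hln⟩ := exists_posList D (-f)
  obtain ⟨yn, rfl⟩ := exists_word hln hvn
  obtain ⟨yp, rfl⟩ := exists_word hlp hvp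
  refine ⟨word D ln yn * R.m y, t, R.p z * word D lp yp, ?_, ?_, by simp only [tGHom, MonoidHom.mk'_apply]; group⟩
  · rw [hm]
    refine (hasLimOne_word D (fun k => ?_) yn).mul _ (hasLimOne_ua D ?_ y)
    · have := hneg _ (by simpa using hln.pos D k)
      simpa using this
    · show 0 < -(f' (D.P.root _))
      rw [Groth.Agent.RootData.root_neg, map_neg, neg_neg]
      exact ha
  · rw [hp]
    exact (hasLimOne_ua D ha z).mul _ (hasLimOne_word D (fun k => hpos _ (hlp.pos D k)) yp)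

/-- A product lies in the cell or in its translate by a point inducing the reflection. -/
theorem cell_or_refl (base : D.P.Base) {a : D.idx} {n : 𝟙_ (Over S) ⟶ G} (hn : IsReflPt D a n)
    {f f' : D.M →+ ℤ} (hfa : f (D.P.root a) = 0)
    (hf : ∀ r, r ≠ a → D.P.root r ≠ -D.P.root a → f (D.P.root r) ≠ 0)
    (hpos : ∀ r, 0 < f (D.P.root r) → 0 < f' (D.P.root r)) (hneg : ∀ r, f (D.P.root r) < 0 → f' (D.P.root r) < 0)
    (ha : 0 < f' (D.P.root a)) {g : tb b K ⟶ G} {wn wp L : tb b K ⟶ G} (hwn : (lam D (-f)).HasLimOne wn)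
    (hwp : (lam D f).HasLimOne wp) (hL : (lam D f).IsFixed L) (hg : g = wn * L * wp) :
    InOmega D f' g ∨ InOmega D f' ((toUnit _ ≫ n)⁻¹ * g) := by
  obtain ⟨R, hp, hm, hT, hN⟩ := exists_rank1 (b := b) (K := K) base a hn
  rcases levi_cases base hfa hf R hp hm hT hL with hc | ⟨r, t, ht, hLe⟩
  · exact Or.inl (hg ▸ inOmega_of_inCell hpos hneg ha R hp hm hT hwn hwp hc)
  · refine Or.inr ?_
    have hc : R.InCell (R.p r * t) := by
      obtain ⟨x, hx, -⟩ := R.T_p t⁻¹ (inv_mem ht) r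
      refine ⟨0, t, x, ht, ?_⟩
      rw [R.m_zero, _root_.one_mul, show R.p r * t = t * (t⁻¹ * R.p r) * t by group, hx]
      group
    rw [hg, hLe, hN, show ∀ N v c w : tb b K ⟶ G, N⁻¹ * (v * (N * c * t) * w) = (N⁻¹ * v * N) * (c * t) * w from
      fun N v c w => by group]
    refine inOmega_of_inCell hpos hneg ha R hp hm hT ?_ hwp hc
    simpa using hwn.conj_fixed (fixed_neg (hn.fixed (b := b) (B := K) hfa).inv)

/-- Right translation by the opposite root group moves the cell into two translates of it. -/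
theorem cell_mul_root (base : D.P.Base) {a : D.idx} {n : 𝟙_ (Over S) ⟶ G} (hn : IsReflPt D a n)
    {f f' : D.M →+ ℤ} (hfa : f (D.P.root a) = 0)
    (hf : ∀ r, r ≠ a → D.P.root r ≠ -D.P.root a → f (D.P.root r) ≠ 0)
    (hpos : ∀ r, 0 < f (D.P.root r) → 0 < f' (D.P.root r)) (hneg : ∀ r, f (D.P.root r) < 0 → f' (D.P.root r) < 0)
    (ha : 0 < f' (D.P.root a)) {g : tb b K ⟶ G} {wn wp L : tb b K ⟶ G} (hwn : (lam D (-f)).HasLimOne wn)
    (hwp : (lam D f).HasLimOne wp) (hL : (lam D f).IsFixed L) (hg : g = wn * L * wp) {x : K} (hx : x ≠ 0) :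
    InOmega D f' g ∨ InOmega D f' ((ua D a x)⁻¹ * g) := by
  obtain ⟨R, hp, hm, hT, -⟩ := exists_rank1 (b := b) (K := K) base a hn
  rcases levi_cases base hfa hf R hp hm hT hL with hc | ⟨r, t, ht, hLe⟩
  · exact Or.inl (hg ▸ inOmega_of_inCell hpos hneg ha R hp hm hT hwn hwp hc)
  · refine Or.inr ?_
    have hc := R.inCell_p_mul (neg_ne_zero.mpr hx) r ht
    rw [← hLe, hp, ua_neg] at hc
    have e : (ua D a x)⁻¹ * g =
        ((ua D a x)⁻¹ * wn * ua D a x) * ((ua D a x)⁻¹ * L) * wp := by rw [hg]; group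
    rw [e]
    refine inOmega_of_inCell hpos hneg ha R hp hm hT ?_ hwp hc
    have := hwn.conj_fixed (fixed_neg ((fixed_ua D hfa (-x) : (lam D f).IsFixed (ua D a (-x) : tb b K ⟶ G))))
    rwa [ua_neg, _root_.inv_inv] at this

end Groth.Agent.RedCell22
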