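import Groth.Agent.RedCell22.SplitPts
import Groth.Agent.Red23Lib.Pinned.Tuple
import Groth.Prelude.Def_RedSub

/-!
# Ordered products of points of root groups
-/

set_option autoImplicit false
set_option linter.unusedSectionVars false

universe u

open CategoryTheory CategoryTheory.Limits AlgebraicGeometry MonoidalCategory CartesianMonoidalCategory
open MonObj GrpObj
open scoped LaurentPolynomial

noncomputable section

namespace Groth.Agent.RedCell22

open Red23Lib.Pinned (tuple proj tuple_proj tuple_ext comp_tuple tuple_prodMap)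

variable {S : Scheme.{u}} {A : Type u} [CommRing A] {b : Spec (CommRingCat.of A) ⟶ S}
variable {B C : Type u} [CommRing B] [Algebra A B] [CommRing C] [Algebra A C]
variable {G : Over S} [GrpObj G] (D : Red.SplitRed G) {m : ℕ}

/-- A tuple of ring elements as a point of a power of the additive group. -/
def powPt (x : Fin m → B) : tb b B ⟶ RedSub.pow (Red.Ga S) m := tuple fun k => gaPt (x k)

/-- The coordinates of a point of a power of the additive group. -/
def powCoord (p : tb b B ⟶ RedSub.pow (Red.Ga S) m) : Fin m → B :=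
  fun k => gs (Red.gaFn (p ≫ proj (Red.Ga S) k))

theorem powCoord_powPt (x : Fin m → B) : powCoord (powPt x : tb b B ⟶ RedSub.pow (Red.Ga S) m) = x := by
  funext k
  show gs (Red.gaFn (tuple _ ≫ proj _ k)) = x k
  rw [tuple_proj, gs_gaFn_gaPt]

theorem powPt_powCoord (p : tb b B ⟶ RedSub.pow (Red.Ga S) m) : powPt (powCoord p) = p :=
  tuple_ext fun k => by
    show tuple _ ≫ proj _ k = _
    rw [tuple_proj]
    exact gaPt_gaFn _

theorem powPt_map (φ : B →ₐ[A] C) (x : Fin m → B) :
    tm b φ ≫ (powPt x : tb b B ⟶ RedSub.pow (Red.Ga S) m) = powPt fun k => φ (x k) := by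
  show tm b φ ≫ tuple _ = tuple _
  rw [comp_tuple]
  exact congrArg tuple (funext fun k => gaPt_map φ (x k))

/-- The ordered product of root group elements. -/
def word (l : Fin m → D.idx) (x : Fin m → B) : tb b B ⟶ G := (List.ofFn fun k => ua D (l k) (x k)).prod

theorem powPt_prodMap (l : Fin m → D.idx) (x : Fin m → B) :
    (powPt x : tb b B ⟶ RedSub.pow (Red.Ga S) m) ≫ RedSub.prodMap (Red.Ga S) m (fun k => D.u (l k)) = word D l x :=
  tuple_prodMap _ _

theorem word_map (l : Fin m → D.idx) (φ : B →ₐ[A] C) (x : Fin m → B) :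
    tm b φ ≫ (word D l x : tb b B ⟶ G) = word D l (fun k => φ (x k)) := by
  rw [← powPt_prodMap, ← powPt_prodMap, ← Category.assoc, powPt_map]

theorem word_zero (l : Fin m → D.idx) : (word D l (fun _ => (0 : B)) : tb b B ⟶ G) = 1 :=
  List.prod_eq_one fun g hg => by
    obtain ⟨k, rfl⟩ := List.mem_ofFn.mp hg
    exact ua_zero D _

theorem ofFn_prod_single {H : Type u} [Monoid H] : ∀ {m : ℕ} (g : Fin m → H) (i : Fin m),
    (∀ k ≠ i, g k = 1) → (List.ofFn g).prod = g i
  | n + 1, g, i, h => by
    rw [List.ofFn_succ, List.prod_cons]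
    induction i using Fin.cases with
    | zero =>
      rw [List.prod_eq_one, _root_.mul_one]
      intro z hz
      obtain ⟨k, rfl⟩ := List.mem_ofFn.mp hz
      exact h _ (Fin.succ_ne_zero k)
    | succ i =>
      rw [h 0 (Fin.succ_ne_zero i).symm, _root_.one_mul]
      exact ofFn_prod_single (fun k => g k.succ) i fun k hk => h _ fun e => hk (Fin.succ_injective _ e)

theorem word_single (l : Fin m → D.idx) (i : Fin m) (x : B) :
    (word D l (Pi.single i x) : tb b B ⟶ G) = ua D (l i) x := by
  refine (ofFn_prod_single _ i fun k hk => ?_).trans ?_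
  · rw [Pi.single_eq_of_ne hk]
    exact ua_zero D _
  · show ua D (l i) ((Pi.single i x : Fin m → B) i) = _
    rw [Pi.single_eq_same]

theorem orb_word (f : D.M →+ ℤ) (l : Fin m → D.idx) (x : Fin m → B) :
    (lam D f).orb (word D l x : tb b B ⟶ G) =
      word D l (fun k => LaurentPolynomial.C (x k) * LaurentPolynomial.T (f (D.P.root (l k)))) := by
  let F : (tb b B ⟶ G) →* (tb b (B[T;T⁻¹]) ⟶ G) := MonoidHom.mk' (lam D f).orb (lam D f).orb_mul
  refine (map_list_prod F _).trans ?_
  rw [List.map_ofFn]
  exact congrArg List.prod (congrArg List.ofFn (funext fun k => orb_ua D f (l k) (x k)))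

variable [IsAffineHom G.hom]

theorem hasLimOne_word {f : D.M →+ ℤ} {l : Fin m → D.idx} (h : ∀ k, 0 < f (D.P.root (l k))) (x : Fin m → B) :
    (lam D f).HasLimOne (word D l x : tb b B ⟶ G) :=
  List.prod_induction (fun g => (lam D f).HasLimOne g) (fun _ _ => Cochar.HasLimOne.mul _)
    (Cochar.hasLimOne_one _) fun g hg => by
      obtain ⟨k, rfl⟩ := List.mem_ofFn.mp hg
      exact hasLimOne_ua D (h k) _

theorem fixed_word {f : D.M →+ ℤ} {l : Fin m → D.idx} (h : ∀ k, f (D.P.root (l k)) = 0) (x : Fin m → B) :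
    (lam D f).IsFixed (word D l x : tb b B ⟶ G) := by
  show (lam D f).orb _ = tm b CL ≫ _
  rw [orb_word, word_map]
  simp [h, CL_apply]

end Groth.Agent.RedCell22
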