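import Groth.Agent.RedCell22.Cotangent
import Groth.Agent.RedCell22.Word
import Mathlib.Algebra.MvPolynomial.Eval
import Mathlib.Data.Finsupp.Weight

/-!
# The points with limit one are the ordered products of the positive root groups

For a linear form `f` on the characters, the points `g` with `λ(t) g λ(t)⁻¹ → 1` are exactly, and uniquely, the
ordered products of the root groups of the roots with `f > 0`, taken in any order.
-/

set_option autoImplicit false
set_option linter.unusedSectionVars false

universe u

open CategoryTheory CategoryTheory.Limits AlgebraicGeometry MonoidalCategory CartesianMonoidalCategory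
open MonObj GrpObj
open scoped LaurentPolynomial

noncomputable section

namespace Groth.Agent.RedCell22

variable {S : Scheme.{u}} {A : Type u} [CommRing A] {b : Spec (CommRingCat.of A) ⟶ S}
variable {B : Type u} [CommRing B] [Algebra A B]
variable {G : Over S} [GrpObj G] (D : Red.SplitRed G) [IsAffineHom G.hom] {m : ℕ}

/-- An ordering of the roots on which a linear form is positive. -/
structure PosList (f : D.M →+ ℤ) (l : Fin m → D.idx) : Prop where
  inj : Function.Injective l
  mem_iff : ∀ a, a ∈ Set.range l ↔ 0 < f (D.P.root a)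

theorem PosList.pos {f : D.M →+ ℤ} {l : Fin m → D.idx} (h : PosList D f l) (k : Fin m) :
    0 < f (D.P.root (l k)) := (h.mem_iff _).mp ⟨k, rfl⟩

theorem exists_posList (f : D.M →+ ℤ) : ∃ (n : ℕ) (l : Fin n → D.idx), PosList D f l := by
  classical
  let e := Fintype.equivFin {a : D.idx // 0 < f (D.P.root a)}
  exact ⟨_, fun k => (e.symm k).1, Subtype.val_injective.comp e.symm.injective, fun a =>
    ⟨fun ⟨k, hk⟩ => hk ▸ (e.symm k).2, fun ha => ⟨e ⟨a, ha⟩, by simp⟩⟩⟩

/-- The universal product. -/
def uWord (l : Fin m → D.idx) : tb b (MvPolynomial (Fin m) A) ⟶ G := word D l MvPolynomial.X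

/-- The value of a function on the universal product. -/
def polyOf (l : Fin m → D.idx) (h : FunRing b G) : MvPolynomial (Fin m) A := ev b (uWord D l) h

theorem ev_word (l : Fin m → D.idx) (x : Fin m → B) (h : FunRing b G) :
    ev b (word D l x : tb b B ⟶ G) h = MvPolynomial.aeval x (polyOf D l h) := by
  have e : (word D l x : tb b B ⟶ G) = tm b (MvPolynomial.aeval x) ≫ uWord D l := by
    rw [uWord, word_map]
    simp
  rw [e, ev_comp]
  rfl

/-- The weight of a monomial. -/
abbrev wt (f : D.M →+ ℤ) (l : Fin m → D.idx) : (Fin m →₀ ℕ) →+ ℤ :=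
  Finsupp.weight fun k => f (D.P.root (l k))

/-- The substitution defining the action on the coordinates. -/
def psi (f : D.M →+ ℤ) (l : Fin m → D.idx) : MvPolynomial (Fin m) A →ₐ[A] (MvPolynomial (Fin m) A)[T;T⁻¹] :=
  MvPolynomial.aeval fun k => LaurentPolynomial.C (MvPolynomial.X k) * LaurentPolynomial.T (f (D.P.root (l k)))

theorem coeff_psi (f : D.M →+ ℤ) (l : Fin m → D.idx) (P : MvPolynomial (Fin m) A) :
    ∀ (j : ℤ) (e : Fin m →₀ ℕ),
      MvPolynomial.coeff e ((psi D f l P).coeff j) = if wt D f l e = j then MvPolynomial.coeff e P else 0 := by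
  classical
  induction P using MvPolynomial.induction_on with
  | C a =>
    intro j e
    rw [← MvPolynomial.algebraMap_eq, AlgHom.commutes, LaurentPolynomial.algebraMap_apply,
      LaurentPolynomial.C_apply]
    rcases eq_or_ne (0 : Fin m →₀ ℕ) e with rfl | he
    · rw [map_zero]
      rcases eq_or_ne (0 : ℤ) j with rfl | hj
      · simp
      · simp [hj, hj.symm]
    · rcases eq_or_ne (0 : ℤ) j with rfl | hj
      · simp [MvPolynomial.coeff_C, he]
      · simp [MvPolynomial.coeff_C, he, hj.symm]
  | add p q hp hq =>
    intro j e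
    rw [map_add, AddMonoidAlgebra.coeff_add, Finsupp.add_apply, MvPolynomial.coeff_add, hp, hq,
      MvPolynomial.coeff_add]
    split <;> simp
  | mul_X p i hp =>
    intro j e
    rw [map_mul, psi, MvPolynomial.aeval_X, ← LaurentPolynomial.single_eq_C_mul_T,
      AddMonoidAlgebra.coeff_mul_single_apply, MvPolynomial.coeff_mul_X', MvPolynomial.coeff_mul_X']
    by_cases hi : i ∈ e.support
    · rw [if_pos hi, if_pos hi]
      refine (hp _ _).trans (if_congr ?_ rfl rfl)
      have := Finsupp.weight_sub_single_add (w := fun k => f (D.P.root (l k))) (Finsupp.mem_support_iff.mp hi)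
      show Finsupp.weight _ _ = _ ↔ Finsupp.weight _ _ = _
      omega
    · rw [if_neg hi, if_neg hi, ite_self]

theorem orb_uWord (f : D.M →+ ℤ) (l : Fin m → D.idx) :
    (lam D f).orb (uWord D l : tb b _ ⟶ G) = tm b (psi D f l) ≫ uWord D l := by
  rw [uWord, orb_word, word_map]
  simp [psi]

/-- The value of a homogeneous function is a homogeneous polynomial. -/
theorem weight_of_coeff_ne_zero (f : D.M →+ ℤ) (l : Fin m → D.idx) (n : ℤ) (h : FunRing b G) (e : Fin m →₀ ℕ)
    (he : MvPolynomial.coeff e (polyOf D l ((lam D f).proj n h)) ≠ 0) : wt D f l e = n := by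
  by_contra hne
  have := Cochar.coeff_ev_orb (lam D f) (uWord D l : tb b _ ⟶ G) (wt D f l e) ((lam D f).proj n h)
  rw [orb_uWord, ev_comp, AlgHom.comp_apply, Cochar.proj_proj, if_neg hne, map_zero] at this
  have h' := congrArg (MvPolynomial.coeff e) this
  rw [coeff_psi, if_pos rfl, MvPolynomial.coeff_zero] at h'
  exact he h'

theorem fst_aeval_single (i : Fin m) (P : MvPolynomial (Fin m) A) :
    TrivSqZeroExt.fst (MvPolynomial.aeval (Pi.single i (DualNumber.eps : DualNumber A)) P) =
      MvPolynomial.coeff 0 P := by
  classical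
  induction P using MvPolynomial.induction_on with
  | C a => simp [TrivSqZeroExt.algebraMap_eq_inl]
  | add p q hp hq => simp [hp, hq]
  | mul_X p k hp =>
    rw [map_mul, MvPolynomial.aeval_X, TrivSqZeroExt.fst_mul, MvPolynomial.coeff_mul_X', if_neg (by simp)]
    rcases eq_or_ne k i with rfl | hk
    · simp
    · simp [Pi.single_eq_of_ne hk]

theorem snd_aeval_single (i : Fin m) (P : MvPolynomial (Fin m) A) :
    TrivSqZeroExt.snd (MvPolynomial.aeval (Pi.single i (DualNumber.eps : DualNumber A)) P) =
      MvPolynomial.coeff (Finsupp.single i 1) P := by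
  classical
  induction P using MvPolynomial.induction_on with
  | C a => simp [TrivSqZeroExt.algebraMap_eq_inl, MvPolynomial.coeff_C, Finsupp.single_eq_zero,
      eq_comm (a := (0 : Fin m →₀ ℕ))]
  | add p q hp hq => simp [hp, hq]
  | mul_X p k hp =>
    rw [map_mul, MvPolynomial.aeval_X, MvPolynomial.coeff_mul_X']
    rcases eq_or_ne k i with rfl | hk
    · simp [fst_aeval_single]
    · simp [Pi.single_eq_of_ne hk, hk]

/-- The linear coefficients of the value of a function are its tangent values. -/
theorem coeff_single_polyOf (l : Fin m → D.idx) (i : Fin m) (h : FunRing b G) :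
    MvPolynomial.coeff (Finsupp.single i 1) (polyOf D l h) = del D (.inl (l i)) h := by
  rw [← snd_aeval_single, ← ev_word, word_single]
  have hd : dl (ua D (l i) (DualNumber.eps : DualNumber A) : tb b _ ⟶ G) h =
      algebraMap A _ (del D (.inl (l i)) h) * DualNumber.eps :=
    dl_el D (.inl (l i)) (DualNumber.eps : DualNumber A) DualNumber.eps_mul_eps h
  rw [dl_apply, sub_eq_iff_eq_add] at hd
  rw [hd]
  simp [TrivSqZeroExt.algebraMap_eq_inl]

variable {D} {f : D.M →+ ℤ} {l : Fin m → D.idx}

/-- A weighted monomial containing a heavy variable is that variable. -/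
theorem eq_single_of_le (hl : PosList D f l) {e : Fin m →₀ ℕ} {i : Fin m} (hi : e i ≠ 0)
    (hle : wt D f l e ≤ f (D.P.root (l i))) : e = Finsupp.single i 1 := by
  classical
  have h := Finsupp.weight_sub_single_add (w := fun k => f (D.P.root (l k))) hi
  have h0 : wt D f l (e - Finsupp.single i 1) ≤ 0 := by
    show Finsupp.weight _ _ ≤ (0 : ℤ)
    change Finsupp.weight _ _ ≤ _ at hle
    omega
  have hz : e - Finsupp.single i 1 = 0 := by
    ext k
    by_contra hk
    have := Finsupp.le_weight_of_ne_zero (w := fun k => f (D.P.root (l k))) (fun k => (hl.pos D k).le) hk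
    exact absurd (hl.pos D k) (not_lt.mpr (this.trans h0))
  rw [← Finsupp.sub_add_single_one_cancel hi, hz, _root_.zero_add]

/-- Functions at the unit adapted to an ordering of the positive roots. -/
structure Coords (f : D.M →+ ℤ) (l : Fin m → D.idx) (v : Fin m → FunRing b G) : Prop where
  pos : PosList D f l
  homog : ∀ k, (lam D f).proj (f (D.P.root (l k))) (v k) = v k
  eps_eq : ∀ k, eps b G (v k) = 0
  del_eq : ∀ (k : Fin m) (j : TIdx D), (j = .inl (l k) → del D j (v k) = 1) ∧ (j ≠ .inl (l k) → del D j (v k) = 0)

theorem exists_coords (hl : PosList D f l) : ∃ v : Fin m → FunRing b G, Coords f l v := by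
  classical
  obtain ⟨w, -, hw⟩ := exists_dual D (b := b)
  refine ⟨fun k => (lam D f).proj (f (D.P.root (l k))) (w (.inl (l k))), hl,
    fun k => ?_, fun k => ?_, fun k j => ?_⟩
  · rw [Cochar.proj_proj, if_pos rfl]
  · rw [Cochar.eps_proj, if_neg (hl.pos D k).ne']
  · refine ⟨fun e => ?_, fun e => ?_⟩
    · subst e
      rw [del_proj, if_pos (show f (D.P.root (l k)) = deg D f (.inl (l k)) from rfl), hw, if_pos rfl]
    · rw [del_proj, hw, if_neg e, ite_self]

variable {v : Fin m → FunRing b G}

/-- The triangular part of a coordinate. -/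
def tri (l : Fin m → D.idx) (v : Fin m → FunRing b G) (k : Fin m) : MvPolynomial (Fin m) A :=
  polyOf D l (v k) - MvPolynomial.X k

theorem tri_congr (hv : Coords f l v) (k : Fin m) {x x' : Fin m → B}
    (h : ∀ i, f (D.P.root (l i)) < f (D.P.root (l k)) → x i = x' i) :
    MvPolynomial.aeval x (tri l v k) = MvPolynomial.aeval x' (tri l v k) := by
  classical
  rw [MvPolynomial.aeval_def, MvPolynomial.aeval_def]
  refine MvPolynomial.eval₂_congr _ _ _ fun {i c} hi hc => h i ?_
  by_contra hlt
  push Not at hlt
  rw [tri, MvPolynomial.coeff_sub, MvPolynomial.coeff_X] at hc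
  have hi' : c i ≠ 0 := Finsupp.mem_support_iff.mp hi
  have hsingle : c = Finsupp.single i 1 := by
    by_cases hP : MvPolynomial.coeff c (polyOf D l (v k)) = 0
    · by_cases he : Finsupp.single k 1 = c
      · have : i = k := by
          by_contra hik
          rw [← he, Finsupp.single_eq_of_ne hik] at hi'
          exact hi' rfl
        rw [this, he]
      · rw [hP, if_neg he, sub_zero] at hc
        exact absurd rfl hc
    · rw [← hv.homog k] at hP
      have := weight_of_coeff_ne_zero D f l _ _ _ hP
      exact eq_single_of_le hv.pos hi' (this.le.trans hlt)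
  subst hsingle
  rw [coeff_single_polyOf] at hc
  rcases eq_or_ne i k with rfl | hik
  · rw [(hv.del_eq i _).1 rfl, if_pos rfl, sub_self] at hc
    exact hc rfl
  · rw [(hv.del_eq k _).2 fun e => hik (hv.pos.inj (Sum.inl_injective e)),
      if_neg fun e => hik (Finsupp.single_left_injective one_ne_zero e).symm, sub_zero] at hc
    exact hc rfl

theorem ev_word_coord (x : Fin m → B) (k : Fin m) :
    ev b (word D l x : tb b B ⟶ G) (v k) = x k + MvPolynomial.aeval x (tri l v k) := by
  rw [ev_word, tri, map_sub, MvPolynomial.aeval_X, add_sub_cancel]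

/-- The coordinates separate the products. -/
theorem eq_of_coord_eq (hv : Coords f l v) {x x' : Fin m → B}
    (h : ∀ k, ev b (word D l x : tb b B ⟶ G) (v k) = ev b (word D l x' : tb b B ⟶ G) (v k)) : x = x' := by
  suffices ∀ N : ℕ, ∀ k, f (D.P.root (l k)) < N → x k = x' k by
    funext k
    exact this ((f (D.P.root (l k))).toNat + 1) k (by omega)
  intro N
  induction N with
  | zero => intro k hk; exact absurd (hv.pos.pos D k) (by omega)
  | succ N ih =>
    intro k hk
    have := h k
    rw [ev_word_coord, ev_word_coord, tri_congr hv k (fun i hi => ih i (by omega))] at this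
    exact add_right_cancel this

/-- Every tuple is the tuple of coordinates of a product. -/
theorem exists_coord_eq (hv : Coords f l v) (y : Fin m → B) :
    ∃ x : Fin m → B, ∀ k, ev b (word D l x : tb b B ⟶ G) (v k) = y k := by
  classical
  suffices ∀ N : ℕ, ∃ x : Fin m → B, ∀ k, f (D.P.root (l k)) < N → x k + MvPolynomial.aeval x (tri l v k) = y k by
    obtain ⟨x, hx⟩ := this (∑ k, (f (D.P.root (l k))).toNat + 1)
    refine ⟨x, fun k => (ev_word_coord x k).trans (hx k ?_)⟩
    have := Finset.single_le_sum (f := fun k => (f (D.P.root (l k))).toNat) (fun _ _ => Nat.zero_le _)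
      (Finset.mem_univ k)
    omega
  intro N
  induction N with
  | zero => exact ⟨0, fun k hk => absurd (hv.pos.pos D k) (by omega)⟩
  | succ N ih =>
    obtain ⟨x, hx⟩ := ih
    let x' : Fin m → B := fun k =>
      if f (D.P.root (l k)) = N then y k - MvPolynomial.aeval x (tri l v k) else x k
    refine ⟨x', fun k hk => ?_⟩
    have hsame : MvPolynomial.aeval x' (tri l v k) = MvPolynomial.aeval x (tri l v k) :=
      tri_congr hv k fun i hi => if_neg (by omega)
    rw [hsame]
    by_cases hkN : f (D.P.root (l k)) = N
    · rw [show x' k = _ from if_pos hkN, sub_add_cancel]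
    · rw [show x' k = _ from if_neg hkN]
      exact hx k (by omega)

/-- A point with limit one is determined by its coordinates. -/
theorem eq_of_hasLimOne (hv : Coords f l v) {g g' : tb b B ⟶ G} (hg : (lam D f).HasLimOne g)
    (hg' : (lam D f).HasLimOne g') (h : ∀ k, ev b g (v k) = ev b g' (v k)) : g = g' := by
  classical
  have hl := hv.pos
  obtain ⟨hlim, hz⟩ := (Cochar.hasLimOne_iff _ g).mp hg
  obtain ⟨hlim', hz'⟩ := (Cochar.hasLimOne_iff _ g').mp hg'
  suffices key : ∀ (n : ℕ) (q : FunRing b G),
      ev b g ((lam D f).proj (n : ℤ) q) = ev b g' ((lam D f).proj (n : ℤ) q) by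
    refine ev_injective b (AlgHom.ext fun q => ?_)
    conv_lhs => rw [← (lam D f).sum_proj q]
    conv_rhs => rw [← (lam D f).sum_proj q]
    rw [map_finsuppSum, map_finsuppSum]
    refine Finsupp.sum_congr fun n _ => ?_
    show ev b g ((lam D f).proj n q) = ev b g' ((lam D f).proj n q)
    rcases lt_or_ge n 0 with hn | hn
    · rw [(Cochar.hasLim_iff _ g).mp hlim n hn q, (Cochar.hasLim_iff _ g').mp hlim' n hn q]
    · lift n to ℕ using hn
      exact key n q
  intro n
  induction n using Nat.strong_induction_on with
  | _ n ih =>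
    intro q
    rcases Nat.eq_zero_or_pos n with rfl | hn
    · rw [Int.natCast_zero, hz, hz']
    let h₁ := (lam D f).proj (n : ℤ) q
    let c : Fin m → A := fun k => if f (D.P.root (l k)) = n then del D (.inl (l k)) h₁ else 0
    let h₂ := h₁ - ∑ k, c k • v k
    have heps : eps b G h₂ = 0 := by
      simp only [h₂, map_sub, map_sum, map_smul, hv.eps_eq, smul_zero, Finset.sum_const_zero, sub_zero]
      rw [Cochar.eps_proj, if_neg (by omega)]
    have hdel : ∀ j, del D j h₂ = 0 := by
      intro j
      simp only [h₂, map_sub, map_sum, map_smul]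
      rw [sub_eq_zero]
      by_cases hj : ∃ k, j = .inl (l k) ∧ f (D.P.root (l k)) = n
      · obtain ⟨k, rfl, hk⟩ := hj
        rw [Finset.sum_eq_single k (fun k' _ hk' => ?_) (by simp)]
        · rw [(hv.del_eq k _).1 rfl, smul_eq_mul, _root_.mul_one]
          exact (if_pos hk).symm
        · rw [(hv.del_eq k' _).2 fun e => hk' (hl.inj (Sum.inl_injective e)).symm, smul_zero]
      · rw [Finset.sum_eq_zero (fun k _ => ?_)]
        · rw [del_proj, if_neg]
          intro e
          rcases j with a | i
          · obtain ⟨k, rfl⟩ := (hl.mem_iff a).mpr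
              (show 0 < f (D.P.root a) by change (n : ℤ) = f (D.P.root a) at e; omega)
            exact hj ⟨k, rfl, e.symm⟩
          · change (n : ℤ) = 0 at e
            omega
        · by_cases hk : f (D.P.root (l k)) = n
          · rw [(hv.del_eq k j).2 fun e => hj ⟨k, e, hk⟩, smul_zero]
          · simp [c, hk]
    have hfix : (lam D f).proj (n : ℤ) h₂ = h₂ := by
      simp only [h₂, map_sub, map_sum, map_smul]
      congr 1
      · exact (Cochar.proj_proj _ _ _ _).trans (if_pos rfl)
      · refine Finset.sum_congr rfl fun k _ => ?_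
        by_cases hk : f (D.P.root (l k)) = n
        · rw [← hk, hv.homog k]
        · simp [c, hk]
    have hsq : ∀ p ∈ (aug b G) ^ 2,
        ev b g ((lam D f).proj (n : ℤ) p) = ev b g' ((lam D f).proj (n : ℤ) p) := by
      intro p hp
      rw [pow_two] at hp
      refine Submodule.mul_induction_on hp (fun p hp q hq => ?_) (fun p q hp hq => by
        rw [map_add, map_add, map_add, hp, hq])
      obtain ⟨H, hH, -⟩ := hg
      obtain ⟨H', hH', -⟩ := hg'
      have e : ∀ (g : tb b B ⟶ G) (H : tb b (Polynomial B) ⟶ G),
          tm b ((Polynomial.toLaurentAlg (R := B)).restrictScalars A) ≫ H = (lam D f).orb g →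
          ∀ (i : ℕ) (r : FunRing b G), ev b g ((lam D f).proj (i : ℤ) r) = (ev b H r).coeff i := by
        intro g H hH i r
        rw [← Cochar.coeff_ev_orb, ← hH, ev_comp]
        exact toLaurent_coeff_nat _ i
      rw [e g H hH, e g' H' hH', map_mul, map_mul, Polynomial.coeff_mul, Polynomial.coeff_mul]
      refine Finset.sum_congr rfl fun ij hij => ?_
      rw [Finset.HasAntidiagonal.mem_antidiagonal] at hij
      have z : ∀ r ∈ aug b G, (ev b H r).coeff 0 = 0 ∧ (ev b H' r).coeff 0 = 0 := fun r hr => by
        rw [← e g H hH, ← e g' H' hH', Int.natCast_zero, hz, hz', RingHom.mem_ker.mp hr, map_zero]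
        exact ⟨rfl, rfl⟩
      rcases Nat.eq_zero_or_pos ij.1 with h1 | h1
      · rw [h1, (z p hp).1, (z p hp).2, zero_mul, zero_mul]
      rcases Nat.eq_zero_or_pos ij.2 with h2 | h2
      · rw [h2, (z q hq).1, (z q hq).2, mul_zero, mul_zero]
      rw [← e g H hH, ← e g' H' hH', ← e g H hH, ← e g' H' hH', ih ij.1 (by omega), ih ij.2 (by omega)]
    have h2eq : ev b g h₂ = ev b g' h₂ := by
      rw [← hfix]
      exact hsq h₂ (mem_sq_of_del D heps hdel)
    simp only [h₂, map_sub, map_sum, map_smul, h] at h2eq
    exact sub_left_injective h2eq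

theorem word_injective (hl : PosList D f l) :
    Function.Injective (word D l : (Fin m → B) → (tb b B ⟶ G)) := by
  intro x x' h
  obtain ⟨v, hv⟩ := exists_coords (b := b) hl
  exact eq_of_coord_eq hv fun k => by rw [h]

/-- Every point with limit one is a product of the positive root groups, in any order. -/
theorem exists_word (hl : PosList D f l) {g : tb b B ⟶ G} (hg : (lam D f).HasLimOne g) :
    ∃ x : Fin m → B, word D l x = g := by
  obtain ⟨v, hv⟩ := exists_coords (b := b) hl
  obtain ⟨x, hx⟩ := exists_coord_eq hv fun k => ev b g (v k)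
  exact ⟨x, eq_of_hasLimOne hv (hasLimOne_word D (hl.pos D) x) hg hx⟩

theorem hasLimOne_iff_word (hl : PosList D f l) (g : tb b B ⟶ G) :
    (lam D f).HasLimOne g ↔ ∃ x : Fin m → B, word D l x = g :=
  ⟨exists_word hl, fun ⟨x, hx⟩ => hx ▸ hasLimOne_word D (hl.pos D) x⟩

/-- On the universal product every function is reached. -/
theorem ev_uWord_surjective (hl : PosList D f l) :
    Function.Surjective (ev b (uWord D l : tb b (MvPolynomial (Fin m) A) ⟶ G)) := by
  classical
  obtain ⟨v, hv⟩ := exists_coords (b := b) hl
  let R := (ev b (uWord D l : tb b (MvPolynomial (Fin m) A) ⟶ G)).range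
  have hX : ∀ (N : ℕ) (k : Fin m), f (D.P.root (l k)) < N → MvPolynomial.X k ∈ R := by
    intro N
    induction N with
    | zero => intro k hk; exact absurd (hl.pos D k) (by omega)
    | succ N ih =>
      intro k hk
      let π : Fin m → MvPolynomial (Fin m) A := fun i =>
        if f (D.P.root (l i)) < f (D.P.root (l k)) then MvPolynomial.X i else 0
      have hπ : MvPolynomial.aeval π (tri l v k) = tri l v k := by
        rw [tri_congr hv k (x' := MvPolynomial.X) fun i hi => if_pos hi, MvPolynomial.aeval_X_left_apply]
      have hmem : ∀ P : MvPolynomial (Fin m) A, MvPolynomial.aeval π P ∈ R := by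
        intro P
        induction P using MvPolynomial.induction_on with
        | C a => rw [← MvPolynomial.algebraMap_eq, AlgHom.commutes]; exact R.algebraMap_mem a
        | add p q hp hq => rw [map_add]; exact add_mem hp hq
        | mul_X p i hp =>
          rw [map_mul, MvPolynomial.aeval_X]
          refine mul_mem hp ?_
          by_cases hi : f (D.P.root (l i)) < f (D.P.root (l k))
          · rw [show π i = _ from if_pos hi]; exact ih i (by omega)
          · rw [show π i = _ from if_neg hi]; exact zero_mem _
      have h1 : polyOf D l (v k) ∈ R := ⟨v k, rfl⟩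
      have h2 := hmem (tri l v k)
      rw [hπ] at h2
      simpa [tri] using sub_mem h1 h2
  intro P
  show P ∈ R
  induction P using MvPolynomial.induction_on with
  | C a => rw [← MvPolynomial.algebraMap_eq]; exact R.algebraMap_mem a
  | add p q hp hq => exact add_mem hp hq
  | mul_X p i hp => exact mul_mem hp (hX ((f (D.P.root (l i))).toNat + 1) i (by omega))

end Groth.Agent.RedCell22
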