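import Groth.Agent.RedCell22.Orders

/-!
# The big cell meets the normaliser of the torus in the torus
-/

set_option autoImplicit false
set_option linter.unusedSectionVars false

universe u

open CategoryTheory CategoryTheory.Limits AlgebraicGeometry MonoidalCategory CartesianMonoidalCategory
open MonObj GrpObj
open scoped LaurentPolynomial

noncomputable section

namespace Groth.Agent.RedCell22

variable {S : Scheme.{u}} {A : Type u} [CommRing A] {b : Spec (CommRingCat.of A) ⟶ S}
variable {G : Over S} [GrpObj G] {D : Red.SplitRed G} {n m : ℕ}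

theorem eq_zero_of_T_mul {k : ℤ} (hk : k ≠ 0) {x : A}
    (h : LaurentPolynomial.T k * LaurentPolynomial.C x = LaurentPolynomial.C x) : x = 0 := by
  have := congrArg (fun p : A[T;T⁻¹] => p.coeff 0) h
  rw [_root_.mul_comm, ← LaurentPolynomial.single_eq_C_mul_T, AddMonoidAlgebra.coeff_single,
    LaurentPolynomial.C_apply, if_pos rfl, Finsupp.single_eq_of_ne hk.symm] at this
  exact this.symm

variable [IsAffineHom G.hom] {f : D.M →+ ℤ} {l : Fin n → D.idx} {l' : Fin m → D.idx}

/-- A point of the cell conjugating a regular one-parameter subgroup into the torus lies in the torus. -/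
theorem cellWord_eq_torus (hl : PosList D (-f) l) (hl' : PosList D f l') {y : Fin n → A} {t : tb b A ⟶ D.T}
    {x : Fin m → A}
    (h : ∃ t' : tb b (A[T;T⁻¹]) ⟶ D.T,
      (tm b CL ≫ cellWord D l l' y t x) * tG D (tpt D (coVal D f (Tu A))) * (tm b CL ≫ cellWord D l l' y t x)⁻¹ =
        tG D t') :
    cellWord D l l' y t x = tG D t := by
  obtain ⟨t', ht'⟩ := h
  let τ : tb b (A[T;T⁻¹]) ⟶ D.T := tpt D (coVal D f (Tu A))
  let t₁ : tb b (A[T;T⁻¹]) ⟶ D.T := tm b CL ≫ t
  let y₁ : Fin n → A[T;T⁻¹] := fun k => CL (A := A) (y k)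
  let x₁ : Fin m → A[T;T⁻¹] := fun k => CL (A := A) (x k)
  have hg : (tm b CL ≫ cellWord D l l' y t x : tb b _ ⟶ G) = cellWord D l l' y₁ t₁ x₁ := by
    rw [← cellPt_cellMap, ← Category.assoc, cellPt_map, cellPt_cellMap]
  rw [hg, mul_inv_eq_iff_eq_mul] at ht'
  have e1 : cellWord D l l' y₁ t₁ x₁ * tG D τ =
      cellWord D l l' y₁ (t₁ * τ) fun k => (chr D (D.P.root (l' k)) τ⁻¹ : A[T;T⁻¹]) * x₁ k := by
    rw [cellWord, cellWord, ← conj_word, tG_mul, tG_inv, _root_.inv_inv]
    simp [_root_.mul_assoc]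
  have e2 : tG D t' * cellWord D l l' y₁ t₁ x₁ =
      cellWord D l l' (fun k => (chr D (D.P.root (l k)) t' : A[T;T⁻¹]) * y₁ k) (t' * t₁) x₁ := by
    rw [cellWord, cellWord, ← conj_word, tG_mul]
    simp [_root_.mul_assoc]
  obtain ⟨hy, ht, hx⟩ := cellWord_injective hl hl' (e1.symm.trans (ht'.trans e2))
  have hτ : t' = τ := by
    rw [torus_comm D t₁ τ] at ht
    exact (mul_right_cancel ht).symm
  have hx0 : x = fun _ => 0 := funext fun k => by
    have := congrFun hx k
    have hc : (chr D (D.P.root (l' k)) τ⁻¹ : A[T;T⁻¹]) = LaurentPolynomial.T (-f (D.P.root (l' k))) := by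
      have hinv : chr D (D.P.root (l' k)) τ⁻¹ = (chr D (D.P.root (l' k)) τ)⁻¹ :=
        map_inv (MonoidHom.mk' (chr D (D.P.root (l' k))) (chr_mul D _)) τ
      rw [hinv, chr_coVal, ← zpow_neg, Tu_zpow]
    rw [hc] at this
    exact eq_zero_of_T_mul (by have := hl'.pos D k; omega) this
  have hy0 : y = fun _ => 0 := funext fun k => by
    have := congrFun hy k
    rw [hτ, chr_coVal, Tu_zpow] at this
    exact eq_zero_of_T_mul (by have := hl.pos D k; simp only [AddMonoidHom.neg_apply] at this; omega) this.symm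
  rw [cellWord, hx0, hy0, word_zero, word_zero, _root_.one_mul, _root_.mul_one]

end Groth.Agent.RedCell22
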