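import Groth.Agent.RedCell22.Tangent
import Mathlib.Algebra.Polynomial.Roots

/-!
# The tangent vectors of the root groups and the torus are independent, hence their duals exist
-/

set_option autoImplicit false
set_option linter.unusedSectionVars false
set_option linter.style.haveILetI false

universe u

open CategoryTheory CategoryTheory.Limits AlgebraicGeometry MonoidalCategory CartesianMonoidalCategory
open MonObj GrpObj

noncomputable section

namespace Groth.Agent.RedCell22

/-- Finitely many non-zero vectors of a finite free abelian group avoid the kernel of some linear form. -/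
theorem exists_form_ne_zero {M : Type} [AddCommGroup M] [Module.Free ℤ M] [Module.Finite ℤ M] {Idx : Type}
    [Finite Idx] (v : Idx → M) (hv : ∀ i, v i ≠ 0) : ∃ f : M →+ ℤ, ∀ i, f (v i) ≠ 0 := by
  classical
  haveI := Fintype.ofFinite Idx
  let e := (Module.Free.chooseBasis ℤ M).reindex (Fintype.equivFin _)
  let p : Idx → Polynomial ℤ := fun i => ∑ k : Fin _, Polynomial.monomial (k : ℕ) (e.repr (v i) k)
  have hp : ∀ i, p i ≠ 0 := fun i hi => hv i (e.repr.injective (by
    rw [map_zero]
    refine Finsupp.ext fun k => ?_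
    have := congrArg (fun q => Polynomial.coeff q (k : ℕ)) hi
    simpa [p, Polynomial.finsetSum_coeff, Polynomial.coeff_monomial, Fin.val_inj] using this))
  have hprod : ∏ i, p i ≠ 0 := Finset.prod_ne_zero_iff.mpr fun i _ => hp i
  obtain ⟨N, hN⟩ : ∃ N : ℤ, (∏ i, p i).eval N ≠ 0 := by
    by_contra hne
    push Not at hne
    exact hprod (Polynomial.funext fun N => by rw [hne N, Polynomial.eval_zero])
  refine ⟨(∑ k : Fin _, (N ^ (k : ℕ)) • e.coord k).toAddMonoidHom, fun i => ?_⟩
  rw [Polynomial.eval_prod, Finset.prod_ne_zero_iff] at hN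
  have := hN i (Finset.mem_univ i)
  simpa [p, Polynomial.eval_finsetSum, Module.Basis.coord_apply, mul_comm] using this

variable {S : Scheme.{u}} {A : Type u} [CommRing A] {b : Spec (CommRingCat.of A) ⟶ S}
variable {B : Type u} [CommRing B] [Algebra A B]
variable {G : Over S} [GrpObj G] (D : Red.SplitRed G)

/-- A linear form separating the roots and zero. -/
theorem exists_separating :
    ∃ f : D.M →+ ℤ, (∀ a, f (D.P.root a) ≠ 0) ∧ ∀ a a', f (D.P.root a) = f (D.P.root a') → a = a' := by
  classical
  let V := D.idx ⊕ {p : D.idx × D.idx // p.1 ≠ p.2}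
  let v : V → D.M := Sum.elim (fun a => D.P.root a) fun p => D.P.root p.1.1 - D.P.root p.1.2
  obtain ⟨f, hf⟩ := exists_form_ne_zero v (by
    rintro (a | p)
    · exact D.P.ne_zero a
    · exact sub_ne_zero.mpr fun h => p.2 (D.P.root.injective h))
  refine ⟨f, fun a => hf (.inl a), fun a a' h => ?_⟩
  by_contra hne
  exact hf (.inr ⟨(a, a'), hne⟩) (by simp [v, h])

/-- The product of infinitesimal torus points as one point. -/
def torusInf (c : Module.Free.ChooseBasisIndex ℤ D.M → B) (hc : ∀ i, c i * c i = 0) : tb b B ⟶ G :=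
  tG D (tpt D (∏ i, coVal D (coordFn D i) (sqUnit (c i) (hc i))))

theorem chr_torusInf (c : Module.Free.ChooseBasisIndex ℤ D.M → B) (hc : ∀ i, c i * c i = 0) (k) :
    chr D (Module.Free.chooseBasis ℤ D.M k)
      (tpt D (∏ i, coVal D (coordFn D i) (sqUnit (c i) (hc i))) : tb b B ⟶ D.T) = sqUnit (c k) (hc k) := by
  rw [chr_tpt, MonoidHom.finsetProd_apply]
  simp only [coVal_apply]
  rw [Finset.prod_eq_single k]
  · simp [coordFn]
  · intro i _ hi
    simp [coordFn, Finsupp.single_eq_of_ne hi]
  · simp

variable [IsAffineHom G.hom]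

theorem dl_torusInf {I : Ideal B} (hI : I ^ 2 = ⊥) (c : Module.Free.ChooseBasisIndex ℤ D.M → B)
    (hcI : ∀ i, c i ∈ I) (hc : ∀ i, c i * c i = 0) (g : FunRing b G) :
    Inf I (torusInf D c hc : tb b B ⟶ G) ∧
      dl (torusInf D c hc : tb b B ⟶ G) g = ∑ i, algebraMap A B (del D (.inr i) g) * c i := by
  classical
  let F : (Multiplicative D.M →* Bˣ) →* (tb b B ⟶ G) := (tGHom D).comp (tHom D)
  suffices ∀ s : Finset _, Inf I (F (∏ i ∈ s, coVal D (coordFn D i) (sqUnit (c i) (hc i)))) ∧
      dl (F (∏ i ∈ s, coVal D (coordFn D i) (sqUnit (c i) (hc i)))) g =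
        ∑ i ∈ s, algebraMap A B (del D (.inr i) g) * c i from this Finset.univ
  intro s
  induction s using Finset.induction with
  | empty => rw [Finset.prod_empty, map_one]; exact ⟨inf_one I, by simp [dl_one]⟩
  | insert i s hi ih =>
    rw [Finset.prod_insert hi, map_mul, Finset.sum_insert hi]
    have h1 : Inf I (el D (.inr i) (c i) (hc i) : tb b B ⟶ G) := inf_el D _ (hcI i) _
    refine ⟨h1.mul_mem ih.1, ?_⟩
    refine (dl_mul hI h1 ih.1 g).trans ?_
    rw [ih.2, dl_el]

theorem span_eps_sq (K : Type u) [CommRing K] : (Ideal.span {(DualNumber.eps : DualNumber K)}) ^ 2 = ⊥ := by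
  rw [Ideal.span_singleton_pow, DualNumber.eps_pow_two, Ideal.span_singleton_eq_bot]

/-- The tangent functionals stay independent over every field. -/
theorem del_independent {K : Type u} [Field K] [Algebra A K] (c : TIdx D → K)
    (h : ∀ g : FunRing b G, ∑ j, c j * algebraMap A K (del D j g) = 0) : c = 0 := by
  obtain ⟨f, hf0, hfinj⟩ := exists_separating D
  have hroot : ∀ a, c (.inl a) = 0 := by
    intro a
    have h' : ∀ g : FunRing b G, c (.inl a) * algebraMap A K (del D (.inl a) g) = 0 := fun g => by
      have := h ((lam D f).proj (f (D.P.root a)) g)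
      rw [Finset.sum_eq_single (Sum.inl a)] at this
      · rwa [del_proj, if_pos (show f (D.P.root a) = deg D f (.inl a) from rfl)] at this
      · rintro (a' | i) - hj <;> rw [del_proj, if_neg, map_zero, mul_zero]
        · exact fun e => hj (congrArg Sum.inl (hfinj a a' e).symm)
        · exact hf0 a
      · simp
    let x : DualNumber K := TrivSqZeroExt.inr (c (.inl a))
    have hx : x * x = 0 := TrivSqZeroExt.inr_mul_inr _ _ _
    have : (ua D a x : tb b _ ⟶ G) = ua D a 0 := by
      rw [ua_zero]
      refine eq_of_dl fun g => ?_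
      refine (dl_el D (.inl a) x hx g).trans ?_
      rw [dl_one, IsScalarTower.algebraMap_apply A K (DualNumber K)]
      show TrivSqZeroExt.inl _ * TrivSqZeroExt.inr _ = _
      rw [TrivSqZeroExt.inl_mul_inr, smul_eq_mul, _root_.mul_comm]
      exact (congrArg _ (h' g)).trans (TrivSqZeroExt.inr_zero _)
    simpa [x] using congrArg TrivSqZeroExt.snd (ua_injective D a this)
  have htor : ∀ k, c (.inr k) = 0 := by
    intro k
    let x : Module.Free.ChooseBasisIndex ℤ D.M → DualNumber K := fun i => TrivSqZeroExt.inr (c (.inr i))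
    have hx : ∀ i, x i * x i = 0 := fun i => TrivSqZeroExt.inr_mul_inr _ _ _
    have hxI : ∀ i, x i ∈ Ideal.span {(DualNumber.eps : DualNumber K)} := fun i =>
      Ideal.mem_span_singleton'.mpr ⟨TrivSqZeroExt.inl (c (.inr i)), by
        simp only [x, DualNumber.eps, TrivSqZeroExt.inl_mul_inr, smul_eq_mul, _root_.mul_one]⟩
    have h1 : (torusInf D x hx : tb b _ ⟶ G) = tG D 1 := by
      rw [tG_one]
      refine eq_of_dl fun g => ?_
      rw [(dl_torusInf D (span_eps_sq K) x hxI hx g).2, dl_one]
      have := h g
      rw [Fintype.sum_sum_type] at this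
      simp only [hroot, zero_mul, Finset.sum_const_zero, _root_.zero_add] at this
      refine TrivSqZeroExt.ext ?_ ?_
      · simp [x, TrivSqZeroExt.fst_sum]
      · rw [TrivSqZeroExt.snd_sum, TrivSqZeroExt.snd_zero, ← this]
        refine Finset.sum_congr rfl fun i _ => ?_
        rw [IsScalarTower.algebraMap_apply A K (DualNumber K), _root_.mul_comm]
        simp [x, TrivSqZeroExt.algebraMap_eq_inl, _root_.mul_comm]
    have h2 := congrArg (chr D (Module.Free.chooseBasis ℤ D.M k)) (tG_injective D h1)
    have hone : chr D (Module.Free.chooseBasis ℤ D.M k) (1 : tb b (DualNumber K) ⟶ D.T) = 1 := by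
      have := chr_mul D (b := b) (B := DualNumber K) (Module.Free.chooseBasis ℤ D.M k) 1 1
      rw [_root_.one_mul] at this
      exact mul_eq_left.mp this.symm
    rw [chr_torusInf D x hx k, hone] at h2
    simpa [sqUnit, x] using congrArg (fun z => TrivSqZeroExt.snd (Units.val z)) h2
  funext j
  cases j with
  | inl a => exact hroot a
  | inr k => exact htor k

open scoped Classical in
/-- The duals of the tangent vectors. -/
theorem exists_dual : ∃ w : TIdx D → FunRing b G, (∀ j, eps b G (w j) = 0) ∧
    ∀ i j, del D i (w j) = if i = j then 1 else 0 := by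
  classical
  let Θ : FunRing b G →ₗ[A] (TIdx D → A) := LinearMap.pi fun j => del D j
  have hΘ : LinearMap.range Θ = ⊤ := by
    by_contra hne
    let Q := (TIdx D → A) ⧸ LinearMap.range Θ
    have hann : (⊤ : Submodule A Q).annihilator ≠ ⊤ := by
      intro htop
      refine hne (eq_top_iff.mpr fun x _ => ?_)
      have := Submodule.mem_annihilator.mp (htop.ge (Submodule.mem_top (x := (1 : A)))) _
        (Submodule.mem_top (x := Submodule.Quotient.mk x))
      rw [one_smul] at this
      exact (Submodule.Quotient.mk_eq_zero _).mp this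
    obtain ⟨m, hm, hle⟩ := Ideal.exists_le_maximal _ hann
    letI := Ideal.Quotient.field m
    have hsurj : ∀ x : TIdx D → A, ∃ g, ∀ j, Θ g j - x j ∈ m := by
      let Θm : FunRing b G →ₗ[A] (TIdx D → A ⧸ m) := LinearMap.pi fun j => (Algebra.linearMap A (A ⧸ m)).comp (del D j)
      let W : Submodule (A ⧸ m) (TIdx D → A ⧸ m) :=
        { (LinearMap.range Θm).toAddSubmonoid with
          smul_mem' := fun c v hv => by
            obtain ⟨a, rfl⟩ := Ideal.Quotient.mk_surjective c
            exact (LinearMap.range Θm).smul_mem a hv }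
      have hW : W = ⊤ := by
        by_contra hlt
        obtain ⟨φ, hφ0, hφ⟩ := Submodule.exists_le_ker_of_lt_top _ (lt_top_iff_ne_top.mpr hlt)
        have hc := del_independent D (b := b) (fun j => φ (Pi.single j 1)) fun g => by
          have := hφ (show Θm g ∈ W from ⟨g, rfl⟩)
          rw [LinearMap.mem_ker] at this
          rw [← this]
          conv_rhs => rw [← Finset.univ_sum_single (Θm g), map_sum]
          refine Finset.sum_congr rfl fun i _ => ?_
          rw [show (Pi.single i (Θm g i) : TIdx D → A ⧸ m) = Θm g i • Pi.single i 1 by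
            rw [← Pi.single_smul, smul_eq_mul, _root_.mul_one], map_smul, smul_eq_mul, _root_.mul_comm]
          rfl
        exact hφ0 ((Pi.basisFun (A ⧸ m) (TIdx D)).ext fun j => by
          simpa [Pi.basisFun_apply] using congrFun hc j)
      intro x
      obtain ⟨g, hg⟩ := hW.ge (Submodule.mem_top (x := fun j => Ideal.Quotient.mk m (x j)))
      exact ⟨g, fun j => Ideal.Quotient.eq.mp (congrFun hg j)⟩
    have hmQ : (⊤ : Submodule A Q) ≤ m • ⊤ := by
      rintro q -
      obtain ⟨x, rfl⟩ := Submodule.Quotient.mk_surjective _ q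
      obtain ⟨g, hg⟩ := hsurj x
      have e : Submodule.Quotient.mk (p := LinearMap.range Θ) x =
          Submodule.Quotient.mk (∑ j, (x j - Θ g j) • (Pi.single j 1 : TIdx D → A)) := by
        refine (Submodule.Quotient.eq _).mpr ⟨g, funext fun k => ?_⟩
        rw [Pi.sub_apply, Finset.sum_apply, Finset.sum_eq_single k (fun j _ hj => by simp [hj.symm]) (by simp)]
        simp
      rw [e, ← Submodule.mkQ_apply, map_sum]
      refine Submodule.sum_mem _ fun j _ => ?_
      rw [map_smul]
      refine Submodule.smul_mem_smul ?_ Submodule.mem_top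
      rw [← neg_sub]
      exact m.neg_mem (hg j)
    obtain ⟨r, hr1, hr⟩ := Submodule.exists_sub_one_mem_and_smul_eq_zero_of_fg_of_le_smul m ⊤
      Module.Finite.fg_top hmQ
    have hrm : r ∈ m := hle (Submodule.mem_annihilator.mpr hr)
    exact hm.ne_top ((Ideal.eq_top_iff_one _).mpr (by simpa using m.sub_mem hrm hr1))
  have : ∀ j, ∃ g, Θ g = Pi.single j 1 := fun j => LinearMap.range_eq_top.mp hΘ _
  choose w hw using this
  refine ⟨fun j => w j - algebraMap A _ (eps b G (w j)), fun j => by simp, fun i j => ?_⟩
  rw [map_sub, del_algebraMap, sub_zero, show del D i (w j) = Θ (w j) i from rfl, hw, Pi.single_apply]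

end Groth.Agent.RedCell22
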