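import Groth.Agent.RedCell22.Pts
import Mathlib.AlgebraicGeometry.Morphisms.ClosedImmersion
import Mathlib.AlgebraicGeometry.Morphisms.Etale

/-!
# Morphisms of affine schemes over a base through their ring-valued points
-/

set_option autoImplicit false
set_option linter.unusedSectionVars false
set_option linter.style.haveILetI false

universe u

open CategoryTheory CategoryTheory.Limits AlgebraicGeometry MonoidalCategory CartesianMonoidalCategory

noncomputable section

namespace Groth.Agent.RedCell22

variable {S : Scheme.{u}} {A : Type u} [CommRing A] (b : Spec (CommRingCat.of A) ⟶ S)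
variable {B : Type u} [CommRing B] [Algebra A B]
variable {X Y G : Over S}

/-- The base change of a morphism. -/
def pbMap (W : Y ⟶ G) : pullback Y.hom b ⟶ pullback G.hom b :=
  pullback.lift (pullback.fst _ _ ≫ W.left) (pullback.snd _ _) (by
    rw [Category.assoc, Over.w W, pullback.condition])

theorem pbMap_isPullback (W : Y ⟶ G) :
    IsPullback (pullback.fst Y.hom b) (pbMap b W) W.left (pullback.fst G.hom b) := by
  refine IsPullback.of_bot (v₂₁ := pullback.snd G.hom b) (v₂₂ := G.hom) (h₃₁ := b) ?_ ?_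
    (IsPullback.of_hasPullback G.hom b)
  · rw [Over.w W, show pbMap b W ≫ pullback.snd G.hom b = pullback.snd Y.hom b from pullback.lift_snd _ _ _]
    exact IsPullback.of_hasPullback Y.hom b
  · exact (pullback.lift_fst _ _ _).symm

theorem toBC_pbMap (W : Y ⟶ G) (p : tb b B ⟶ Y) : toBC b p ≫ pbMap b W = toBC b (p ≫ W) := by
  apply pullback.hom_ext
  · rw [toBC_fst, Category.assoc, pbMap, pullback.lift_fst, ← Category.assoc, toBC_fst]
    rfl
  · rw [toBC_snd, Category.assoc, pbMap, pullback.lift_snd, toBC_snd]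

/-- A property which is local on the target may be checked after base change to affine open pieces of the base. -/
theorem of_pbMap (P : MorphismProperty Scheme.{u}) [IsZariskiLocalAtTarget P] (W : Y ⟶ G)
    (h : ∀ (A : Type u) [CommRing A] (b : Spec (CommRingCat.of A) ⟶ S) [IsOpenImmersion b], P (pbMap b W)) :
    P W.left := by
  have key : ∀ (A : Type u) [CommRing A] (b : Spec (CommRingCat.of A) ⟶ S) [IsOpenImmersion b],
      P (pullback.snd W.left (pullback.fst G.hom b)) := fun A _ b _ => by
    rw [← (pbMap_isPullback b W).isoPullback_inv_snd]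
    exact (P.cancel_left_of_respectsIso _ _).mpr (h A b)
  exact IsZariskiLocalAtTarget.of_openCover (S.affineCover.pullback₁ G.hom) fun i => @key _ _ (S.affineCover.f i) (S.affineCover.map_prop i)

/-- A ring-valued point of a scheme, as a test. -/
def testMap {A : Type u} [CommRing A] (f : Spec (CommRingCat.of A) ⟶ X.left) : tb (f ≫ X.hom) A ⟶ X :=
  Over.homMk f (by
    show f ≫ X.hom = Spec.map (CommRingCat.ofHom (algebraMap A A)) ≫ f ≫ X.hom
    rw [Algebra.algebraMap_self, CommRingCat.ofHom_id, Spec.map_id, Category.id_comp])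

/-- Morphisms agree if they agree on every ring-valued point. -/
theorem hom_ext_of_tests {f f' : X ⟶ Y}
    (h : ∀ (A : Type u) [CommRing A] (b : Spec (CommRingCat.of A) ⟶ S) (φ : tb b A ⟶ X), φ ≫ f = φ ≫ f') :
    f = f' := by
  ext1
  refine X.left.affineCover.hom_ext _ _ fun i => ?_
  exact congrArg CommaMorphism.left (h _ _ (testMap (X.left.affineCover.f i)))

/-- A morphism injective on ring-valued points is a monomorphism. -/
theorem mono_of_tests (W : Y ⟶ G)
    (h : ∀ (A : Type u) [CommRing A] (b : Spec (CommRingCat.of A) ⟶ S) (p p' : tb b A ⟶ Y), p ≫ W = p' ≫ W → p = p') :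
    Mono W :=
  ⟨fun f f' hf => hom_ext_of_tests fun A _ b φ => h A b _ _ (by rw [Category.assoc, hf, Category.assoc])⟩

/-- A morphism which locally factors through a monomorphism factors through it. -/
theorem exists_lift_of_tests (W : Y ⟶ G) [Mono W] (g : X ⟶ G)
    (h : ∀ (A : Type u) [CommRing A] (b : Spec (CommRingCat.of A) ⟶ S) (φ : tb b A ⟶ X),
      ∃ p : tb b A ⟶ Y, p ≫ W = φ ≫ g) : ∃ p : X ⟶ Y, p ≫ W = g := by
  let 𝒰 := X.left.affineCover
  choose p hp using fun i => h _ _ (testMap (𝒰.f i))
  let pl : ∀ i, 𝒰.X i ⟶ Y.left := fun i => (p i).left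
  have hpl : ∀ i, pl i ≫ W.left = 𝒰.f i ≫ g.left := fun i => congrArg CommaMorphism.left (hp i)
  have hc : ∀ i j, pullback.fst (𝒰.f i) (𝒰.f j) ≫ pl i = pullback.snd (𝒰.f i) (𝒰.f j) ≫ pl j := by
    intro i j
    rw [← cancel_mono W.left, Category.assoc, hpl, Category.assoc, hpl, pullback.condition_assoc]
  let q := 𝒰.glueMorphisms pl hc
  have hq : q ≫ W.left = g.left := 𝒰.hom_ext _ _ fun i => by
    rw [← Category.assoc, Scheme.Cover.ι_glueMorphisms, hpl]
  refine ⟨Over.homMk q ?_, by ext1; exact hq⟩
  rw [← Over.w W, ← Category.assoc, hq, Over.w g]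

/-- Two morphisms with mutual factorisations through monomorphisms have isomorphic sources. -/
theorem exists_iso_of_mono {Y' : Over S} (W : Y ⟶ G) (W' : Y' ⟶ G) [Mono W] [Mono W'] (p : Y ⟶ Y') (hp : p ≫ W' = W)
    (p' : Y' ⟶ Y) (hp' : p' ≫ W = W') : ∃ e : Y ≅ Y', e.hom ≫ W' = W :=
  ⟨⟨p, p', by rw [← cancel_mono W, Category.assoc, hp', hp, Category.id_comp],
    by rw [← cancel_mono W', Category.assoc, hp, hp', Category.id_comp]⟩, hp⟩

variable [IsAffineHom Y.hom] [IsAffineHom G.hom]

theorem toBC_univ : toBC b (univ b : tb b (FunRing b Y) ⟶ Y) = (pullback Y.hom b).isoSpec.inv := by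
  apply pullback.hom_ext
  · rw [toBC_fst]
    show Spec.map (CommRingCat.ofHom (AlgHom.id A (FunRing b Y)).toRingHom) ≫ _ = _
    erw [Spec.map_id, Category.id_comp]
  · rw [toBC_snd]
    refine ext_of_isAffine (CommRingCat.hom_ext (RingHom.ext fun x => ?_))
    simp only [Scheme.Hom.comp_appTop, CommRingCat.comp_apply]
    refine (Scheme.ΓSpecIso (CommRingCat.of (FunRing b Y))).commRingCatIsoToRingEquiv.injective ?_
    obtain ⟨a, rfl⟩ := (Scheme.ΓSpecIso (CommRingCat.of A)).commRingCatIsoToRingEquiv.symm.surjective x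
    rw [isoSpec_inv_appTop_apply]
    refine (gsi_map _ _).trans ?_
    show algebraMap A (FunRing b Y) ((Scheme.ΓSpecIso _).hom ((Scheme.ΓSpecIso _).inv a)) =
      (Scheme.ΓSpecIso _).hom ((Scheme.ΓSpecIso _).inv (algebraMap A (FunRing b Y) a))
    erw [Iso.inv_hom_id_apply, Iso.inv_hom_id_apply]

/-- The map on functions of a morphism. -/
def mapFun (W : Y ⟶ G) : FunRing b G →ₐ[A] FunRing b Y := ev b (univ b ≫ W)

theorem ev_comp_map (W : Y ⟶ G) (p : tb b B ⟶ Y) : ev b (p ≫ W) = (ev b p).comp (mapFun b W) := by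
  conv_lhs => rw [eq_tm_univ b p, Category.assoc]
  rw [ev_comp]
  rfl

theorem mapFun_eq (W : Y ⟶ G) (f : FunRing b G) : mapFun b W f = (pbMap b W).appTop f := by
  show ev b (univ b ≫ W) f = _
  rw [ev_apply, ← toBC_pbMap, toBC_univ, Scheme.Hom.comp_appTop, CommRingCat.comp_apply, isoSpec_inv_appTop_apply]
  exact Iso.inv_hom_id_apply _ _

theorem mapFun_toRingHom (W : Y ⟶ G) : (mapFun b W).toRingHom = (pbMap b W).appTop.hom :=
  RingHom.ext (mapFun_eq b W)

/-- A morphism of affine schemes over a base is a closed immersion when it is locally surjective on functions. -/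
theorem isClosedImmersion_of_mapFun (W : Y ⟶ G)
    (h : ∀ (A : Type u) [CommRing A] (b : Spec (CommRingCat.of A) ⟶ S), Function.Surjective (mapFun b W)) :
    IsClosedImmersion W.left :=
  of_pbMap @IsClosedImmersion W fun A _ b _ => IsClosedImmersion.of_surjective_of_isAffine _ fun x => by
    obtain ⟨y, hy⟩ := h A b x
    exact ⟨y, (mapFun_eq b W y).symm.trans hy⟩

/-- A morphism of affine schemes over a base is étale when it is locally étale on functions. -/
theorem etale_of_mapFun (W : Y ⟶ G)
    (h : ∀ (A : Type u) [CommRing A] (b : Spec (CommRingCat.of A) ⟶ S), (mapFun b W).toRingHom.Etale) :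
    Etale W.left :=
  haveI : IsZariskiLocalAtTarget @Etale := HasRingHomProperty.instIsZariskiLocalAtTarget (P := @Etale)
  of_pbMap @Etale W fun A _ b _ => (HasRingHomProperty.iff_of_isAffine (P := @Etale)).mpr
    (mapFun_toRingHom b W ▸ h A b)

end Groth.Agent.RedCell22
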