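import Groth.Agent.RedCell22.Isolate
import Groth.Agent.Red23Lib.Pinned.Conj

/-!
# Subgroups containing the simple root groups contain the positive ones
-/

set_option autoImplicit false
set_option linter.unusedSectionVars false
set_option linter.style.haveILetI false

universe u

open CategoryTheory CategoryTheory.Limits AlgebraicGeometry MonoidalCategory CartesianMonoidalCategory
open MonObj GrpObj

noncomputable section

namespace Groth.Agent.RedCell22

variable {S : Scheme.{u}} {G H : Over S} [GrpObj G] [GrpObj H] [IsAffineHom G.hom] {D : Red.SplitRed G} {h : H ⟶ G}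
variable [IsMonHom h] [Mono h] {A : Type u} [CommRing A] {b : Spec (CommRingCat.of A) ⟶ S}

theorem pairing_eq_of_root {a c r : D.idx} {i : ℤ} (hr : D.P.root r = i • D.P.root a + D.P.root c) :
    D.P.pairing r a = 2 * i + D.P.pairing c a := by
  rw [← coroot_root r a, hr, map_add, map_zsmul, coroot_root, coroot_root, D.P.pairing_same, smul_eq_mul]
  ring

/-- The torus-stable part of a subgroup containing the simple root groups contains the positive ones. -/
theorem inCore_pos (base : D.P.Base) (hsimple : ∀ a ∈ base.support, ∃ v : Red.Ga S ⟶ H, v ≫ h = D.u a) :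
    ∀ rb ∈ RedSub.posRoots D.P base, ∀ (B : Type u) [CommRing B] [Algebra A B] (y : B),
      InCore D h (ua D rb y : tb b B ⟶ G) := by
  classical
  obtain ⟨f, hf⟩ := exists_form_base D.P base
  have hpos : ∀ r, r ∈ RedSub.posRoots D.P base ↔ 0 < f (D.P.root r) := fun r => (mem_posRoots_iff D.P base hf r).1
  have hred : ∀ a r : D.idx, r ≠ a → D.P.root r ≠ -D.P.root a → Indep D.P a r := fun _ _ h1 h2 =>
    indep_of_base base h1 h2
  intro rb
  induction hn : (f (D.P.root rb)).toNat using Nat.strong_induction_on generalizing rb with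
  | _ n ih =>
    intro hrb
    by_cases hsb : rb ∈ base.support
    · obtain ⟨v, hv⟩ := hsimple rb hsb
      exact fun B _ _ y => inCore_ua hv y
    obtain ⟨a, ha, -, hpa⟩ := (Groth.Agent.RootData.Simple.of_base base).exists_simple_pos hrb
    replace hpa : 0 < D.P.pairing rb a := by
      have e : D.P.pairingIn ℤ rb a = D.P.pairing rb a := by simpa using D.P.algebraMap_pairingIn ℤ rb a
      rw [← e]; exact hpa
    have hfb := (hpos rb).mp hrb
    have hfa : 0 < f (D.P.root a) := hf a ha
    have hap : a ∈ RedSub.posRoots D.P base := (hpos a).mpr hfa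
    have hne : rb ≠ a := fun e => hsb (e ▸ ha)
    have hneg : D.P.root rb ≠ -D.P.root a := fun e => by rw [e, map_neg] at hfb; linarith
    have hind := hred a rb hne hneg
    have hbound := hind.pairing_bound.2.2.2.2
    obtain ⟨k, hk⟩ := Int.eq_ofNat_of_zero_le hpa.le
    let c₀ := D.P.reflectionPerm a rb
    have hc₀ : D.P.root c₀ = -(k : ℤ) • D.P.root a + D.P.root rb := by
      rw [show c₀ = D.P.reflectionPerm a rb from rfl, D.P.root_reflectionPerm, D.P.reflection_apply_root, hk, neg_smul]
      abel
    have hc₀p : c₀ ∈ RedSub.posRoots D.P base := Red23Lib.Pinned.refl_pos base ha hrb hne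
    have hfc₀ := (hpos c₀).mp hc₀p
    have hfc₀' : f (D.P.root c₀) = f (D.P.root rb) - k * f (D.P.root a) := by
      rw [hc₀, map_add, map_zsmul, smul_eq_mul]; ring
    have hpc₀ : D.P.pairing c₀ a = -(k : ℤ) := by rw [pairing_eq_of_root hc₀, hk]; ring
    have hk0 : 0 < k := by exact_mod_cast hk ▸ hpa
    have hfk : f (D.P.root a) ≤ (k : ℤ) * f (D.P.root a) :=
      le_mul_of_one_le_left hfa.le (by exact_mod_cast hk0)
    have hindc : Indep D.P a c₀ :=
      hind.of_root (i := 1) (j := 0) (i' := -(k : ℤ)) (j' := 1) (by simp) (by rw [one_smul]; exact hc₀) (by norm_num)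
    have hcore : ∀ r ∈ RedSub.posRoots D.P base, f (D.P.root r) < f (D.P.root rb) →
        ∀ (B : Type u) [CommRing B] [Algebra A B] (y : B), InCore D h (ua D r y : tb b B ⟶ G) := fun r hr hlt =>
      ih _ (by have := (hpos r).mp hr; omega) r rfl hr
    have haC : ∀ (B : Type u) [CommRing B] [Algebra A B] (y : B), InCore D h (ua D a y : tb b B ⟶ G) := by
      obtain ⟨v, hv⟩ := hsimple a ha
      exact fun B _ _ y => inCore_ua hv y
    have finish : ∀ (r : D.idx) (i : ℤ), Indep D.P a r → 0 < i → D.P.root rb = i • D.P.root a + D.P.root r →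
        r ∈ RedSub.posRoots D.P base → f (D.P.root r) < f (D.P.root rb) →
        (∀ (q : ℕ) (d : Fin q → D.idx) (C : Fin q → A) (l : Fin q), RedSub.Enumerates (commSet D a r) d →
          (word D d C : tb b A ⟶ G) = ua D a 1 * ua D r 1 * (ua D a 1)⁻¹ * (ua D r 1)⁻¹ → d l = rb → IsUnit (C l)) →
        ∀ (B : Type u) [CommRing B] [Algebra A B] (y : B), InCore D h (ua D rb y : tb b B ⟶ G) := by
      intro r i hindr hi hr hrp hlt hu
      have hmem : rb ∈ commSet D a r := ⟨i, 1, ⟨hi, zero_lt_one⟩, by rw [hr, one_smul]⟩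
      obtain ⟨q, d, hd⟩ := exists_enumerates (commSet D a r)
      obtain ⟨C, P, Q, -, hC⟩ := exists_comm hindr hd b
      obtain ⟨l, hl⟩ : rb ∈ Set.range d := hd.2.symm ▸ hmem
      have hC1 : (word D d C : tb b A ⟶ G) = ua D a 1 * ua D r 1 * (ua D a 1)⁻¹ * (ua D r 1)⁻¹ := by
        simpa using hC A 1 1
      have hL := lead_comm hindr haC (hcore r hrp hlt) hd hC1 (l := l) (i := i) (by rw [hl, hr])
        (hu q d C l hd hC1 hl)
      rw [hl] at hL
      refine hL.inCore (isClosedSet_commSet hindr) (indec_cone hindr (fun _ _ h => h.2) hr) hmem fun x hx hxne =>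
        hred x rb hxne.symm fun e => ?_
      obtain ⟨i', j', ⟨hi', hj'⟩, hx'⟩ := hx
      have h1 := congrArg f e
      have h2 := (hpos r).mp hrp
      rw [map_neg, hx', map_add, map_zsmul, map_zsmul, smul_eq_mul, smul_eq_mul] at h1
      nlinarith
    by_cases hbot : ∀ (r : D.idx) (i : ℤ), i < 0 → D.P.root r ≠ i • D.P.root a + D.P.root c₀
    · refine finish c₀ k hindc (by exact_mod_cast hk0) (by rw [hc₀, neg_smul]; abel) hc₀p (by linarith) ?_
      intro q d C l hd hC hl
      exact isUnit_comm_top (fun r => hred a r) hindc hk0 hpc₀ hbot hd hC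
        (by rw [hl, hc₀, neg_smul]; abel)
    · push Not at hbot
      obtain ⟨r, i, hi, hr⟩ := hbot
      have hindr : Indep D.P a r :=
        hindc.of_root (i := 1) (j := 0) (i' := i) (j' := 1) (by simp) (by rw [one_smul]; exact hr) (by norm_num)
      have hpr : D.P.pairing r a = 2 * i + -(k : ℤ) := by rw [pairing_eq_of_root hr, hpc₀]
      have hbr := hindr.pairing_bound
      have hi1 : i = -1 := by have := hbr.2.2.2.1; omega
      have hk1 : k = 1 := by have := hbr.2.2.2.1; omega
      subst hi1 hk1
      have hpr3 : D.P.pairing r a = -3 := by rw [hpr]; norm_num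
      have hpar : D.P.pairing a r = -1 := by
        have h1 := hbr.2.1
        have h2 := hbr.1
        have h3 := hbr.2.2.1
        rw [hpr3] at h1 h2 h3
        have : D.P.pairing a r ≠ 0 := fun e => absurd (h3.mpr e) (by norm_num)
        omega
      have hrrb : D.P.root rb = (2 : ℤ) • D.P.root a + D.P.root r := by
        rw [hr, hc₀]; simp only [Nat.cast_one, neg_smul, one_smul, two_smul]; abel
      have hfr : f (D.P.root r) = f (D.P.root rb) - 2 * f (D.P.root a) := by
        rw [hrrb, map_add, map_zsmul, smul_eq_mul]; ring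
      let top := D.P.reflectionPerm a r
      have htop : D.P.root top = (3 : ℤ) • D.P.root a + D.P.root r := by
        rw [show top = D.P.reflectionPerm a r from rfl, D.P.root_reflectionPerm, D.P.reflection_apply_root, hpr3,
          neg_smul, sub_neg_eq_add]
        abel
      have htopp : top ∈ RedSub.posRoots D.P base := (hpos top).mpr (by
        rw [htop, map_add, map_zsmul, smul_eq_mul, hfr]; linarith)
      have htopa : top ≠ a := fun e => by
        have := hindr (2 : ℤ) 1 (by
          have h1 := htop
          rw [e] at h1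
          rw [one_smul]
          have h2 : (3 : ℤ) • D.P.root a + D.P.root r - D.P.root a = 0 := by rw [← h1, sub_self]
          rw [← h2, show (3 : ℤ) = 2 + 1 by norm_num, add_smul, one_smul]
          abel)
        omega
      have hrp : r ∈ RedSub.posRoots D.P base := by
        have := Red23Lib.Pinned.refl_pos base ha htopp htopa
        rwa [show top = D.P.reflectionPerm a r from rfl, RootPairing.reflectionPerm_self] at this
      refine finish r 2 hindr two_pos hrrb hrp (by linarith) ?_
      intro q d C m hd hC hm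
      obtain ⟨l, hl⟩ : top ∈ Set.range d :=
        hd.2.symm ▸ ⟨3, 1, ⟨by norm_num, zero_lt_one⟩, by rw [htop, one_smul]⟩
      let na := D.P.reflectionPerm a a
      have hna : D.P.root na = -D.P.root a := by
        rw [show na = D.P.reflectionPerm a a from rfl, D.P.root_reflectionPerm, D.P.reflection_apply_self]
      have hindt : Indep D.P top na :=
        hindr.of_root (i := 3) (j := 1) (i' := -1) (j' := 0) (by rw [htop, one_smul]) (by rw [hna]; simp) (by norm_num)
      have hptn : D.P.pairing na top = -((1 : ℕ) : ℤ) := by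
        rw [show na = D.P.reflectionPerm a a from rfl, D.P.pairing_reflectionPerm_self_left,
          show top = D.P.reflectionPerm a r from rfl, D.P.pairing_reflectionPerm,
          D.P.pairing_reflectionPerm_self_left, hpar]
        norm_num
      have hbot' : ∀ (x : D.idx) (j : ℤ), j < 0 → D.P.root x ≠ j • D.P.root top + D.P.root na := by
        intro x j hj e
        have e' : D.P.root x = (3 * j - 1) • D.P.root a + j • D.P.root r := by
          rw [e, htop, hna, smul_add, smul_smul, sub_smul, one_smul, _root_.mul_comm j 3]; abel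
        have hix : Indep D.P a x := hindr.of_root (i := 1) (j := 0) (i' := 3 * j - 1) (j' := j) (by simp) e' (by simpa using hj.ne)
        have h1 : D.P.pairing x a = (3 * j - 1) * 2 + j * -3 := by
          rw [← coroot_root x a, e', map_add, map_zsmul, map_zsmul, coroot_root, coroot_root, D.P.pairing_same, hpr3,
            smul_eq_mul, smul_eq_mul]
        have := hix.pairing_bound.2.2.2.1
        omega
      have hbroot : D.P.root rb = ((1 : ℕ) : ℤ) • D.P.root top + D.P.root na := by
        rw [Nat.cast_one, one_smul, htop, hna, hrrb, show (3 : ℤ) = 2 + 1 by norm_num, add_smul, one_smul]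
        abel
      obtain ⟨q₂, d₂, hd₂⟩ := exists_enumerates (commSet D top na)
      obtain ⟨C₂, P₂, Q₂, -, hC₂⟩ := exists_comm hindt hd₂ b
      obtain ⟨C₃, P₃, Q₃, -, hC₃⟩ := exists_comm hindt.symm (commSet_swap (D := D) top na ▸ hd₂) b
      obtain ⟨l₂, hl₂⟩ : rb ∈ Set.range d₂ :=
        hd₂.2.symm ▸ ⟨1, 1, ⟨zero_lt_one, zero_lt_one⟩, by simpa using hbroot⟩
      have hC₂1 : (word D d₂ C₂ : tb b A ⟶ G) = ua D top 1 * ua D na 1 * (ua D top 1)⁻¹ * (ua D na 1)⁻¹ := by
        simpa using hC₂ A 1 1
      have hC₃1 : (word D d₂ C₃ : tb b A ⟶ G) = ua D na 1 * ua D top 1 * (ua D na 1)⁻¹ * (ua D top 1)⁻¹ := by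
        simpa using hC₃ A 1 1
      have hu₂ : IsUnit (C₂ l₂) := isUnit_comm_top (fun x => hred top x) hindt one_pos hptn hbot' hd₂ hC₂1
        (by rw [hl₂, hbroot])
      have hsum : (0 : A) = C₃ l₂ + C₂ l₂ :=
        coord_add (b := b) (B := A) (Ψ' := commSet D top na) (z := fun _ => (0 : A)) (isClosedSet_commSet hindt) hd₂
          (indec_cone hindt (fun _ _ h => h.2) (i₀ := 1) (by rw [hl₂, hbroot]; simp))
          (fun j hj => absurd ((Set.ext_iff.mp hd₂.2 _).mp ⟨j, rfl⟩) hj)
          (fun j hj => absurd ((Set.ext_iff.mp hd₂.2 _).mp ⟨j, rfl⟩) hj)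
          (by rw [word_zero, hC₂1, hC₃1]; group)
      have hu₃ : IsUnit (C₃ l₂) := by
        rw [show C₃ l₂ = -C₂ l₂ by linear_combination -hsum]; exact hu₂.neg
      refine isUnit_of_forall_algClosed fun K _ _ _ => ?_
      refine (top_ne_zero (K := K) (fun x => hred a x) hindr (k := 3) (by norm_num) hpr3 ?_ hd hC
        (l := l) (by rw [hl, htop]; rfl)).2 q₂ d₂ C₃ l₂ m ?_ ?_ (by rw [hm, hrrb]; norm_num) (hl₂.trans hm.symm)
        (by norm_num) (hu₃.map (algebraMap A K)).ne_zero
      · intro x j hj e
        have hix : Indep D.P a x := hindr.of_root (i := 1) (j := 0) (i' := j) (j' := 1) (by simp) (by rw [one_smul]; exact e) (by norm_num)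
        have h1 := pairing_eq_of_root e
        have := hix.pairing_bound.2.2.2.1
        omega
      · rw [hl, commSet_swap]; exact hd₂
      · rw [hl]; exact hC₃1

/-- A subgroup containing the simple root homomorphisms contains the positive ones. -/
theorem exists_lift_posRoot (base : D.P.Base) (hsimple : ∀ a ∈ base.support, ∃ v : Red.Ga S ⟶ H, v ≫ h = D.u a)
    {rb : D.idx} (hrb : rb ∈ RedSub.posRoots D.P base) : ∃ v : Red.Ga S ⟶ H, v ≫ h = D.u rb :=
  exists_lift_of_tests h (D.u rb) fun A _ b φ => by
    obtain ⟨p, hp⟩ := (inCore_pos (b := b) base hsimple rb hrb A (gs (Red.gaFn φ))).inSub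
    exact ⟨p, hp.trans (by rw [ua, gaPt_gaFn])⟩

end Groth.Agent.RedCell22
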