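import Groth.Agent.RedCell22.Form
import Mathlib.LinearAlgebra.RootSystem.Finite.Lemmas

/-!
# Closed sets of roots without opposite roots
-/

set_option autoImplicit false

universe u

noncomputable section

namespace Groth.Agent.RedCell22

variable {idx M N : Type} [Finite idx] [AddCommGroup M] [AddCommGroup N] [Module.Free ℤ M]
  (P : RootPairing idx ℤ M N) (Ψ : Set idx)

/-- A set of roots closed under the sums which are roots, without opposite roots. -/
structure IsClosedSet : Prop where
  add_mem : ∀ a b c : idx, a ∈ Ψ → b ∈ Ψ → P.root a + P.root b = P.root c → c ∈ Ψ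
  no_opp : ∀ a b : idx, a ∈ Ψ → P.root b = -P.root a → b ∉ Ψ

variable {P Ψ}

theorem add_root_mem {a b : idx} (h : P.pairing a b < 0) (h' : P.root a ≠ -P.root b) :
    P.root a + P.root b ∈ Set.range P.root := by
  haveI : IsAddTorsionFree M := .of_isTorsionFree ℤ M
  refine RootPairing.root_add_root_mem_of_pairingIn_neg P ?_ h'
  rwa [← P.algebraMap_pairingIn ℤ, Algebra.algebraMap_self, RingHom.id_apply] at h

theorem sub_root_mem {a b : idx} (h : 0 < P.pairing a b) (h' : a ≠ b) :
    P.root a - P.root b ∈ Set.range P.root := by
  haveI : IsAddTorsionFree M := .of_isTorsionFree ℤ M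
  refine RootPairing.root_sub_root_mem_of_pairingIn_pos P ?_ h'
  rwa [← P.algebraMap_pairingIn ℤ, Algebra.algebraMap_self, RingHom.id_apply] at h

omit [Finite idx] [Module.Free ℤ M] in
theorem toLinearMap_list_sum (L : List idx) (g : idx) :
    P.toLinearMap (L.map P.root).sum (P.coroot g) = (L.map fun a => P.pairing a g).sum := by
  induction L with
  | nil => simp
  | cons a L ih =>
    rw [List.map_cons, List.sum_cons, List.map_cons, List.sum_cons, map_add, LinearMap.add_apply, ih,
      P.root_coroot_eq_pairing]

theorem IsClosedSet.sum_ne_zero (h : IsClosedSet P Ψ) :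
    ∀ (k : ℕ) (L : List idx), L.length = k → L ≠ [] → (∀ a ∈ L, a ∈ Ψ) → (L.map P.root).sum ≠ 0 := by
  classical
  intro k
  induction k using Nat.strong_induction_on with
  | _ k ih =>
    intro L hLk hL hmem hsum
    match L, hL with
    | a :: L', _ =>
      rw [List.map_cons, List.sum_cons] at hsum
      have hneg : (L'.map fun b => P.pairing b a).sum = -2 := by
        have := congrArg (fun x => P.toLinearMap x (P.coroot a)) hsum
        simp only [map_add, LinearMap.add_apply, toLinearMap_list_sum, map_zero, LinearMap.zero_apply,
          P.root_coroot_eq_pairing, P.pairing_same] at this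
        linarith
      obtain ⟨b, hb, hlt⟩ : ∃ b ∈ L', P.pairing b a < 0 := by
        by_contra hcon
        push Not at hcon
        have : 0 ≤ (L'.map fun b => P.pairing b a).sum := List.sum_nonneg (by simpa using hcon)
        omega
      have hab : P.root b ≠ -P.root a := fun e => h.no_opp a b (hmem a (by simp)) e (hmem b (by simp [hb]))
      obtain ⟨c, hc⟩ := add_root_mem hlt hab
      have hcΨ : c ∈ Ψ := h.add_mem b a c (hmem b (by simp [hb])) (hmem a (by simp)) hc.symm
      refine ih (c :: L'.erase b).length ?_ (c :: L'.erase b) rfl (List.cons_ne_nil _ _) ?_ ?_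
      · rw [← hLk, List.length_cons, List.length_cons, List.length_erase_of_mem hb]
        have := List.length_pos_of_mem hb
        omega
      · intro x hx
        rcases List.mem_cons.mp hx with rfl | hx
        · exact hcΨ
        · exact hmem x (List.mem_cons_of_mem _ (List.mem_of_mem_erase hx))
      · rw [List.map_cons, List.sum_cons, hc, ← hsum, ((List.perm_cons_erase hb).map P.root).sum_eq,
          List.map_cons, List.sum_cons]
        abel

/-- A root which is a sum of elements of a closed set lies in it. -/
theorem IsClosedSet.mem_of_sum_eq (h : IsClosedSet P Ψ) :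
    ∀ (k : ℕ) (L : List idx), L.length = k → (∀ a ∈ L, a ∈ Ψ) → ∀ c, (L.map P.root).sum = P.root c → c ∈ Ψ := by
  classical
  intro k
  induction k using Nat.strong_induction_on with
  | _ k ih =>
    intro L hLk hmem c hsum
    have hpos : (L.map fun b => P.pairing b c).sum = 2 := by
      rw [← toLinearMap_list_sum, hsum, P.root_coroot_eq_pairing, P.pairing_same]
    obtain ⟨b, hb, hlt⟩ : ∃ b ∈ L, 0 < P.pairing b c := by
      by_contra hcon
      push Not at hcon
      have : (L.map fun b => P.pairing b c).sum ≤ 0 := by
        simpa using List.sum_le_card_nsmul (L.map fun b => P.pairing b c) 0 (by simpa using hcon)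
      omega
    rcases eq_or_ne b c with rfl | hbc
    · exact hmem b hb
    obtain ⟨d, hd⟩ := sub_root_mem hlt hbc
    have hsum' : ((L.erase b).map P.root).sum = P.root c - P.root b := by
      rw [← hsum, ((List.perm_cons_erase hb).map P.root).sum_eq, List.map_cons, List.sum_cons]
      abel
    let d' := P.reflectionPerm d d
    have hd' : P.root d' = P.root c - P.root b := by
      rw [P.root_reflectionPerm, P.reflection_apply_self, hd]
      abel
    have hd'Ψ : d' ∈ Ψ := ih (L.erase b).length (by
        rw [← hLk, List.length_erase_of_mem hb]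
        have := List.length_pos_of_mem hb
        omega)
      _ rfl (fun x hx => hmem x (List.mem_of_mem_erase hx)) d' (hsum'.trans hd'.symm)
    exact h.add_mem d' b c hd'Ψ (hmem b hb) (by rw [hd']; abel)

variable [Fintype idx]

/-- A root which is a non-negative combination of elements of a closed set lies in it. -/
theorem IsClosedSet.mem_of_combination (h : IsClosedSet P Ψ) (c : idx) (μ : idx → ℕ)
    (hμ : ∀ a, μ a ≠ 0 → a ∈ Ψ) (hsum : ∑ a, μ a • P.root a = P.root c) : c ∈ Ψ := by
  classical
  let L : List idx := Finset.univ.toList.flatMap fun a => List.replicate (μ a) a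
  refine h.mem_of_sum_eq L.length L rfl (fun a ha => ?_) c ?_
  · obtain ⟨x, -, hx⟩ := List.mem_flatMap.mp ha
    obtain ⟨hne, rfl⟩ := List.mem_replicate.mp hx
    exact hμ a hne
  · rw [← hsum, List.map_flatMap, List.flatMap_def, List.sum_flatten, List.map_map, ← Finset.sum_map_toList]
    simp

/-- A closed set without opposite roots is positive for some linear form. -/
theorem IsClosedSet.exists_form (h : IsClosedSet P Ψ) : ∃ f : M →+ ℤ, ∀ a ∈ Ψ, 0 < f (P.root a) := by
  classical
  let e := (Fintype.equivFin Ψ).symm
  obtain ⟨f, hf⟩ := exists_form_pos (fun i => P.root (e i).1) fun c hc => by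
    by_contra hne
    let L : List idx := Finset.univ.toList.flatMap fun i => List.replicate (c i) (e i).1
    refine h.sum_ne_zero L.length L rfl ?_ (fun a ha => ?_) ?_
    · intro hnil
      refine hne (funext fun i => ?_)
      by_contra hi
      have : (e i).1 ∈ L := List.mem_flatMap.mpr ⟨i, by simp, List.mem_replicate.mpr ⟨hi, rfl⟩⟩
      rw [hnil] at this
      exact List.not_mem_nil this
    · obtain ⟨x, -, hx⟩ := List.mem_flatMap.mp ha
      obtain ⟨-, rfl⟩ := List.mem_replicate.mp hx
      exact (e x).2
    · rw [← hc, List.map_flatMap, List.flatMap_def, List.sum_flatten, List.map_map, ← Finset.sum_map_toList]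
      simp
  exact ⟨f, fun a ha => by simpa using hf (e.symm ⟨a, ha⟩)⟩

end Groth.Agent.RedCell22
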