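import Groth.Agent.RedCell22.Weights
import Groth.Agent.RedCell22.ClosedSet
import Groth.Agent.GrpSchLib.MonoSubgroup

/-!
# The root groups of a closed set without opposite roots span a closed subgroup, in any order
-/

set_option autoImplicit false
set_option linter.unusedSectionVars false
set_option linter.style.haveILetI false

universe u

open CategoryTheory CategoryTheory.Limits AlgebraicGeometry MonoidalCategory CartesianMonoidalCategory
open MonObj GrpObj

noncomputable section

namespace Groth.Agent.RedCell22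

variable {S : Scheme.{u}} {A : Type u} [CommRing A] {b : Spec (CommRingCat.of A) ⟶ S}
variable {B : Type u} [CommRing B] [Algebra A B]
variable {G : Over S} [GrpObj G] {D : Red.SplitRed G} {n m p q : ℕ} {Ψ : Set D.idx}

theorem word_append (e : Fin p → D.idx) (e' : Fin q → D.idx) (x : Fin p → B) (y : Fin q → B) :
    (word D (Fin.append e e') (Fin.append x y) : tb b B ⟶ G) = word D e x * word D e' y := by
  rw [word, word, word, ← List.prod_append, ← List.ofFn_fin_append]
  congr 2
  funext k
  refine Fin.addCases (fun i => ?_) (fun i => ?_) k <;> simp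

/-- Monomials in variables with weights in a closed set have as weights roots of the set only. -/
theorem IsClosedSet.weight_mem (h : IsClosedSet D.P Ψ) {V : Type} (σ : V → D.idx) (hσ : ∀ v, σ v ∈ Ψ)
    (e : V →₀ ℕ) (c : D.idx) (he : Finsupp.weight (fun v => D.P.root (σ v)) e = D.P.root c) : c ∈ Ψ := by
  classical
  refine h.mem_of_combination c (fun a => ∑ v ∈ e.support with σ v = a, e v) (fun a ha => ?_) ?_
  · obtain ⟨v, hv, -⟩ := Finset.exists_ne_zero_of_sum_ne_zero ha
    rw [← (Finset.mem_filter.mp hv).2]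
    exact hσ v
  · rw [← he, Finsupp.weight_apply, Finsupp.sum, ← Finset.sum_fiberwise e.support σ]
    refine Finset.sum_congr rfl fun a _ => ?_
    rw [Finset.sum_smul]
    exact Finset.sum_congr rfl fun v hv => by rw [(Finset.mem_filter.mp hv).2]

/-- A positive ordering starting with the given roots of the set. -/
theorem exists_extend {f : D.M →+ ℤ} (hf : ∀ a ∈ Ψ, 0 < f (D.P.root a)) {e : Fin p → D.idx}
    (he : RedSub.Enumerates Ψ e) : ∃ (q : ℕ) (e' : Fin q → D.idx), PosList D f (Fin.append e e') := by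
  classical
  let g := Fintype.equivFin {a : D.idx // 0 < f (D.P.root a) ∧ a ∉ Ψ}
  refine ⟨_, fun k => (g.symm k).1, ⟨?_, fun a => ⟨?_, fun ha => ?_⟩⟩⟩
  · intro i j
    refine Fin.addCases (fun i' => ?_) (fun i' => ?_) i <;> refine Fin.addCases (fun j' => ?_) (fun j' => ?_) j <;>
      simp only [Fin.append_left, Fin.append_right]
    · exact fun h => congrArg _ (he.1 h)
    · exact fun h => absurd ((Set.ext_iff.mp he.2 (g.symm j').1).mp ⟨i', h⟩) (g.symm j').2.2
    · exact fun h => absurd ((Set.ext_iff.mp he.2 (g.symm i').1).mp ⟨j', h.symm⟩) (g.symm i').2.2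
    · exact fun h => congrArg _ (g.symm.injective (Subtype.ext h))
  · rintro ⟨k, rfl⟩
    refine Fin.addCases (fun i => ?_) (fun i => ?_) k
    · rw [Fin.append_left]; exact hf _ ((Set.ext_iff.mp he.2 _).mp ⟨i, rfl⟩)
    · rw [Fin.append_right]; exact (g.symm i).2.1
  · by_cases hΨ : a ∈ Ψ
    · obtain ⟨i, rfl⟩ : a ∈ Set.range e := he.2.symm ▸ hΨ
      exact ⟨Fin.castAdd _ i, Fin.append_left _ _ _⟩
    · exact ⟨Fin.natAdd _ (g ⟨a, ha, hΨ⟩), by rw [Fin.append_right]; simp⟩

variable [IsAffineHom G.hom]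

/-- An equivariant point with limit one whose weights come from the closed set is a product over the set. -/
theorem exists_word_of_equivariant (h : IsClosedSet D.P Ψ) {f : D.M →+ ℤ} (hf : ∀ a ∈ Ψ, 0 < f (D.P.root a))
    {e : Fin p → D.idx} (he : RedSub.Enumerates Ψ e) {V : Type} (σ : V → D.idx) (hσ : ∀ v, σ v ∈ Ψ)
    {g : tb b (MvPolynomial V A) ⟶ G} (hg : Equivariant D (fun v => D.P.root (σ v)) g)
    (hlim : (lam D f).HasLimOne g) : ∃ y : Fin p → MvPolynomial V A, word D e y = g := by
  obtain ⟨q, e', hl⟩ := exists_extend hf he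
  obtain ⟨z, hz⟩ := exists_word hl hlim
  refine ⟨fun i => z (Fin.castAdd q i), ?_⟩
  have h0 : ∀ j, z (Fin.natAdd p j) = 0 := fun j => by
    refine coord_eq_zero hl (Ψ := Ψ) (ω := fun v => D.P.root (σ v)) (hz.symm ▸ hg) (h.weight_mem σ hσ) _ ?_
    rw [Fin.append_right]
    intro hmem
    obtain ⟨i, hi⟩ : e' j ∈ Set.range e := he.2.symm ▸ hmem
    have := hl.inj (show Fin.append e e' (Fin.castAdd q i) = Fin.append e e' (Fin.natAdd p j) by simp [hi])
    simp [Fin.ext_iff] at this
    omega
  rw [← hz]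
  have hsplit : z = Fin.append (fun i => z (Fin.castAdd q i)) (fun _ => 0) := funext fun k =>
    Fin.addCases (fun i => by simp) (fun j => by simp [h0]) k
  conv_rhs => rw [hsplit, word_append, word_zero, _root_.mul_one]

/-- Any product of root group elements of a closed set is a product over an enumeration of the set. -/
theorem exists_word_of_word (h : IsClosedSet D.P Ψ) {e : Fin p → D.idx} (he : RedSub.Enumerates Ψ e)
    (d : Fin n → D.idx) (hd : ∀ k, d k ∈ Ψ) (x : Fin n → B) :
    (∃ y : Fin p → B, (word D e y : tb b B ⟶ G) = word D d x) ∧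
      ∃ y : Fin p → B, (word D e y : tb b B ⟶ G) = (word D d x)⁻¹ := by
  obtain ⟨f, hf⟩ := h.exists_form
  have hW : Equivariant D (fun v => D.P.root (d v))
      (word D d MvPolynomial.X : tb b (MvPolynomial (Fin n) A) ⟶ G) :=
    equivariant_word_X d id fun _ => rfl
  have hL : (lam D f).HasLimOne (word D d MvPolynomial.X : tb b (MvPolynomial (Fin n) A) ⟶ G) :=
    hasLimOne_word D (fun k => hf _ (hd k)) _
  have e0 : tm b (MvPolynomial.aeval x) ≫ (word D d MvPolynomial.X : tb b (MvPolynomial (Fin n) A) ⟶ G) =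
      word D d x := by
    rw [word_map]
    simp
  constructor
  · obtain ⟨y, hy⟩ := exists_word_of_equivariant h hf he d hd hW hL
    exact ⟨fun k => MvPolynomial.aeval x (y k), by rw [← word_map, hy, e0]⟩
  · obtain ⟨y, hy⟩ := exists_word_of_equivariant h hf he d hd hW.inv (hL.inv _)
    exact ⟨fun k => MvPolynomial.aeval x (y k), by rw [← word_map, hy, tm_inv, e0]⟩

theorem word_injective_of_closed (h : IsClosedSet D.P Ψ) {e : Fin p → D.idx} (he : RedSub.Enumerates Ψ e) :
    Function.Injective (word D e : (Fin p → B) → (tb b B ⟶ G)) := by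
  obtain ⟨f, hf⟩ := h.exists_form
  obtain ⟨q, e', hl⟩ := exists_extend hf he
  intro x x' hxx
  have h2 : (word D (Fin.append e e') (Fin.append x 0) : tb b B ⟶ G) = word D (Fin.append e e') (Fin.append x' 0) := by
    rw [word_append, word_append, hxx]
  funext i
  simpa using congrFun (word_injective hl h2) (Fin.castAdd q i)

theorem mono_prodMap_of_closed (h : IsClosedSet D.P Ψ) {e : Fin p → D.idx} (he : RedSub.Enumerates Ψ e) :
    Mono (RedSub.prodMap (Red.Ga S) p fun k => D.u (e k)) :=
  mono_of_tests _ fun A _ b p p' hpp => by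
    rw [← powPt_powCoord p, ← powPt_powCoord p', powPt_prodMap, powPt_prodMap] at hpp
    rw [← powPt_powCoord p, ← powPt_powCoord p', word_injective_of_closed h he hpp]

theorem isClosedImmersion_prodMap_of_closed (h : IsClosedSet D.P Ψ) {e : Fin p → D.idx}
    (he : RedSub.Enumerates Ψ e) : IsClosedImmersion (RedSub.prodMap (Red.Ga S) p fun k => D.u (e k)).left := by
  obtain ⟨f, hf⟩ := h.exists_form
  obtain ⟨q, e', hl⟩ := exists_extend hf he
  refine isClosedImmersion_prodMap_of_surjective e fun A _ b P => ?_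
  let π : MvPolynomial (Fin (p + q)) A →ₐ[A] MvPolynomial (Fin p) A :=
    MvPolynomial.aeval (Fin.append MvPolynomial.X 0)
  let inc : MvPolynomial (Fin p) A →ₐ[A] MvPolynomial (Fin (p + q)) A := MvPolynomial.rename (Fin.castAdd q)
  obtain ⟨r, hr⟩ := ev_uWord_surjective hl (b := b) (inc P)
  refine ⟨r, ?_⟩
  have e1 : tm b π ≫ (uWord D (Fin.append e e') : tb b _ ⟶ G) = uWord D e := by
    rw [uWord, word_map]
    simp only [π, MvPolynomial.aeval_X]
    rw [word_append]
    exact (congrArg (_ * ·) (word_zero D e')).trans (_root_.mul_one _)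
  rw [← e1, ev_comp, AlgHom.comp_apply, hr]
  show π (inc P) = P
  rw [MvPolynomial.aeval_rename]
  simp [Function.comp_def]

/-- The subgroup spanned by the root groups of a closed set. -/
theorem exists_grpObj_of_closed (h : IsClosedSet D.P Ψ) {e : Fin p → D.idx} (he : RedSub.Enumerates Ψ e) :
    ∃ _ : GrpObj (RedSub.pow (Red.Ga S) p), IsMonHom (RedSub.prodMap (Red.Ga S) p fun k => D.u (e k)) := by
  haveI := mono_prodMap_of_closed h he
  let W := RedSub.prodMap (Red.Ga S) p fun k => D.u (e k)
  have hd : ∀ k, e k ∈ Ψ := fun k => he.2 ▸ ⟨k, rfl⟩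
  obtain ⟨η', hη⟩ := exists_lift_of_tests W (1 : 𝟙_ (Over S) ⟶ G) fun A _ b φ =>
    ⟨powPt fun _ => 0, by rw [powPt_prodMap, word_zero, MonObj.comp_one]⟩
  obtain ⟨μ', hμ⟩ := exists_lift_of_tests W ((fst _ _ ≫ W) * (snd _ _ ≫ W)) fun A _ b φ => by
    obtain ⟨⟨y, hy⟩, -⟩ := exists_word_of_word (b := b) h he (Fin.append e e)
      (Fin.addCases (fun i => by rw [Fin.append_left]; exact hd i) fun i => by rw [Fin.append_right]; exact hd i)
      (Fin.append (powCoord (φ ≫ fst _ _)) (powCoord (φ ≫ snd _ _)))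
    refine ⟨powPt y, ?_⟩
    rw [powPt_prodMap, hy, word_append, ← powPt_prodMap, ← powPt_prodMap, powPt_powCoord, powPt_powCoord,
      MonObj.comp_mul, Category.assoc, Category.assoc]
  obtain ⟨ι', hι⟩ := exists_lift_of_tests W W⁻¹ fun A _ b φ => by
    obtain ⟨-, y, hy⟩ := exists_word_of_word (b := b) h he e hd (powCoord φ)
    refine ⟨powPt y, ?_⟩
    rw [powPt_prodMap, hy, ← powPt_prodMap, powPt_powCoord, GrpObj.comp_inv]
  exact GrpSchLib.exists_grpObj_of_mono W η' (hη.trans (by rfl)) μ' hμ ι' hι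

/-- The products over two enumerations agree. -/
theorem exists_iso_prodMap (h : IsClosedSet D.P Ψ) {e : Fin p → D.idx} (he : RedSub.Enumerates Ψ e)
    {d : Fin n → D.idx} (hd : RedSub.Enumerates Ψ d) :
    ∃ ψ : RedSub.pow (Red.Ga S) n ≅ RedSub.pow (Red.Ga S) p,
      ψ.hom ≫ RedSub.prodMap (Red.Ga S) p (fun k => D.u (e k)) = RedSub.prodMap (Red.Ga S) n fun k => D.u (d k) := by
  haveI := mono_prodMap_of_closed h he
  haveI := mono_prodMap_of_closed h hd
  have key : ∀ {n p : ℕ} {e : Fin p → D.idx} {d : Fin n → D.idx}, RedSub.Enumerates Ψ e → RedSub.Enumerates Ψ d →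
      ∃ j : RedSub.pow (Red.Ga S) n ⟶ RedSub.pow (Red.Ga S) p,
        j ≫ RedSub.prodMap (Red.Ga S) p (fun k => D.u (e k)) = RedSub.prodMap (Red.Ga S) n fun k => D.u (d k) := by
    intro n p e d he hd
    haveI := mono_prodMap_of_closed h he
    exact exists_lift_of_tests _ _ fun A _ b φ => by
      obtain ⟨⟨y, hy⟩, -⟩ := exists_word_of_word (b := b) h he d (fun k => hd.2 ▸ ⟨k, rfl⟩) (powCoord φ)
      exact ⟨powPt y, by rw [powPt_prodMap, hy, ← powPt_prodMap, powPt_powCoord]⟩
  obtain ⟨j, hj⟩ := key he hd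
  obtain ⟨j', hj'⟩ := key hd he
  exact exists_iso_of_mono _ _ j hj j' hj'

end Groth.Agent.RedCell22
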