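import Groth.Agent.RedCell22.ClosedSet
import Groth.Agent.Red23Lib.Pinned.RootsTwo
import Mathlib.LinearAlgebra.RootSystem.Reduced

/-!
# Pairs of independent roots
-/

set_option autoImplicit false
set_option linter.unusedSectionVars false

noncomputable section

namespace Groth.Agent.RedCell22

open Groth.Agent.RootData

variable {idx M N : Type} [Fintype idx] [AddCommGroup M] [AddCommGroup N] [Module.Free ℤ M]
  {P : RootPairing idx ℤ M N}

/-- Two roots without a linear relation. -/
def Indep (P : RootPairing idx ℤ M N) (a c : idx) : Prop :=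
  ∀ i j : ℤ, i • P.root a + j • P.root c = 0 → i = 0 ∧ j = 0

theorem Indep.symm {a c : idx} (h : Indep P a c) : Indep P c a := fun i j e =>
  (h j i (by rw [← e]; exact add_comm _ _)).symm

theorem Indep.eq {a c : idx} (h : Indep P a c) {i j i' j' : ℤ}
    (e : i • P.root a + j • P.root c = i' • P.root a + j' • P.root c) : i = i' ∧ j = j' := by
  have h0 := h (i - i') (j - j') (by
    rw [sub_smul, sub_smul, ← sub_eq_zero.mpr e]
    abel)
  exact ⟨sub_eq_zero.mp h0.1, sub_eq_zero.mp h0.2⟩

theorem Indep.of_root {a c a' c' : idx} {i j i' j' : ℤ} (h : Indep P a c)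
    (ha : P.root a' = i • P.root a + j • P.root c) (hc : P.root c' = i' • P.root a + j' • P.root c)
    (hdet : i * j' - i' * j ≠ 0) : Indep P a' c' := fun p q e => by
  have h0 := h (p * i + q * i') (p * j + q * j') (by
    rw [← e, ha, hc, smul_add, smul_add, smul_smul, smul_smul, smul_smul, smul_smul, add_smul, add_smul]
    abel)
  have h1 : p * (i * j' - i' * j) = 0 := by linear_combination j' * h0.1 - i' * h0.2
  have h2 : q * (i * j' - i' * j) = 0 := by linear_combination i * h0.2 - j * h0.1
  exact ⟨(mul_eq_zero.mp h1).resolve_right hdet, (mul_eq_zero.mp h2).resolve_right hdet⟩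

/-- With a base, roots which are neither equal nor opposite are independent. -/
theorem indep_of_base (b : P.Base) {a c : idx} (hne : c ≠ a) (hneg : P.root c ≠ -P.root a) : Indep P a c := by
  haveI : IsAddTorsionFree M := .of_isTorsionFree ℤ M
  intro i j e
  by_cases hj : j = 0
  · subst hj
    rw [zero_smul, add_zero] at e
    exact ⟨(smul_eq_zero.mp e).resolve_right (P.ne_zero a), rfl⟩
  exfalso
  have hc := Red23Lib.Pinned.isIndiv_of_base b
  rcases proportional_cases (P := P) (i := a) (j := c) (m := -i) hj
      (by rw [neg_smul]; exact neg_eq_of_add_eq_zero_right e) with E | E | E | E | E | E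
  · exact hne (P.root.injective E)
  · exact hneg E
  · exact hc c a E.symm
  · refine hc c (P.reflectionPerm a a) ?_
    rw [Groth.Agent.RootData.root_neg, E, smul_neg, neg_smul]
  · exact hc a c E.symm
  · refine hc a (P.reflectionPerm c c) ?_
    rw [Groth.Agent.RootData.root_neg, E, smul_neg, neg_smul]

/-- The Cartan integers of independent roots. -/
theorem Indep.pairing_bound {a c : idx} (h : Indep P a c) :
    0 ≤ P.pairing c a * P.pairing a c ∧ P.pairing c a * P.pairing a c ≤ 3 ∧
      (P.pairing c a = 0 ↔ P.pairing a c = 0) ∧ -3 ≤ P.pairing c a ∧ P.pairing c a ≤ 3 := by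
  haveI : IsAddTorsionFree M := .of_isTorsionFree ℤ M
  have h4 : P.coxeterWeight c a ≠ 4 :=
    P.coxeterWeight_ne_four_of_linearIndependent (LinearIndependent.pair_iff.mpr fun s t e => h.symm s t e)
  have hm := P.pairingIn_pairingIn_mem_set_of_isCrystallographic c a
  have e1 : ∀ i j, P.pairingIn ℤ i j = P.pairing i j := fun i j => by
    simpa using P.algebraMap_pairingIn ℤ i j
  rw [e1, e1] at hm
  rw [RootPairing.coxeterWeight] at h4
  simp only [Set.mem_insert_iff, Set.mem_singleton_iff, Prod.mk.injEq] at hm
  rcases hm with h | h | h | h | h | h | h | h | h | h | h | h | h | h | h | h | h <;>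
    rw [h.1, h.2] at h4 ⊢ <;> first | (norm_num; done) | (norm_num at h4)

end Groth.Agent.RedCell22
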