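import Groth.Agent.RedCell22.Cell
import Groth.Agent.RedCell22.ClosedWord
import Groth.Agent.RedCell22.Pairs
import Groth.Agent.GrpSchLib.RankOneDense

/-!
# The Levi subgroup of a root over an algebraically closed field
-/

set_option autoImplicit false
set_option linter.unusedSectionVars false
set_option linter.style.haveILetI false

universe u

open CategoryTheory CategoryTheory.Limits AlgebraicGeometry MonoidalCategory CartesianMonoidalCategory
open MonObj GrpObj

noncomputable section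

namespace Groth.Agent.RedCell22

variable {S : Scheme.{u}} {A : Type u} [CommRing A] {b : Spec (CommRingCat.of A) ⟶ S}
variable {B : Type u} [CommRing B] [Algebra A B] {G : Over S} [GrpObj G] {D : Red.SplitRed G}

theorem coroot_root (i j : D.idx) : D.P.coroot j (D.P.root i) = D.P.pairing i j := by
  rw [← D.P.root_coroot_eq_pairing, D.pairing_eq]
  rfl

/-- A form vanishing at a root and at no other root. -/
theorem exists_form_ker (a : D.idx)
    (hred : ∀ r, r ≠ a → D.P.root r ≠ -D.P.root a → Indep D.P a r) :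
    ∃ f : D.M →+ ℤ, f (D.P.root a) = 0 ∧ ∀ r, r ≠ a → D.P.root r ≠ -D.P.root a → f (D.P.root r) ≠ 0 := by
  classical
  let T := Finset.univ.filter fun r => r ≠ a ∧ D.P.root r ≠ -D.P.root a
  suffices h : ∀ T' ⊆ T, ∃ f : D.M →+ ℤ, f (D.P.root a) = 0 ∧ ∀ r ∈ T', f (D.P.root r) ≠ 0 by
    obtain ⟨f, hf, hT⟩ := h T subset_rfl
    exact ⟨f, hf, fun r h1 h2 => hT r (Finset.mem_filter.mpr ⟨Finset.mem_univ r, h1, h2⟩)⟩
  intro T'
  induction T' using Finset.induction with
  | empty => exact fun _ => ⟨0, by simp, by simp⟩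
  | insert r T' hr ih =>
    intro hsub
    obtain ⟨f, hf, hT⟩ := ih (fun x hx => hsub (Finset.mem_insert_of_mem hx))
    let l : D.M →+ ℤ := (2 : ℤ) • (D.P.coroot r).toAddMonoidHom - D.P.pairing a r • (D.P.coroot a).toAddMonoidHom
    have hl : ∀ x, l (D.P.root x) = 2 * D.P.pairing x r - D.P.pairing a r * D.P.pairing x a := fun x => by
      simp [l, coroot_root]
    let K : ℤ := 1 + ∑ x, |l (D.P.root x)|
    have hK : ∀ x, |l (D.P.root x)| < K := fun x => by
      have := Finset.single_le_sum (f := fun x => |l (D.P.root x)|) (fun x _ => abs_nonneg _) (Finset.mem_univ x)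
      linarith
    refine ⟨K • f + l, by rw [AddMonoidHom.add_apply, AddMonoidHom.smul_apply, hf, hl, D.P.pairing_same]; ring, fun x hx => ?_⟩
    rw [AddMonoidHom.add_apply, AddMonoidHom.smul_apply, smul_eq_mul]
    intro h0
    have hfx : f (D.P.root x) = 0 := by
      by_contra hne
      have h1 := hK x
      rw [show l (D.P.root x) = -(K * f (D.P.root x)) by linarith, abs_neg, abs_mul] at h1
      have hKpos : 0 < K := lt_of_le_of_lt (abs_nonneg _) (hK x)
      rw [abs_of_pos hKpos] at h1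
      have := Int.one_le_abs hne
      nlinarith
    rcases Finset.mem_insert.mp hx with rfl | hx'
    · rw [hfx, hl, D.P.pairing_same] at h0
      obtain ⟨h1, h2⟩ := (Finset.mem_filter.mp (hsub hx)).2
      have := (hred x h1 h2).pairing_bound.2.1
      linarith
    · exact hT x hx' hfx

theorem Cochar.IsFixed.mul {c : Cochar b G} {g g' : tb b B ⟶ G} (hg : c.IsFixed g) (hg' : c.IsFixed g') :
    c.IsFixed (g * g') := by
  rw [Cochar.IsFixed, Cochar.orb_mul, hg, hg', tm_mul]

theorem Cochar.IsFixed.inv {c : Cochar b G} {g : tb b B ⟶ G} (hg : c.IsFixed g) : c.IsFixed g⁻¹ := by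
  rw [Cochar.IsFixed, Cochar.orb_inv, hg, tm_inv]

theorem Cochar.HasLimOne.conj_fixed {c : Cochar b G} {g w : tb b B ⟶ G} (hg : c.IsFixed g) (hw : c.HasLimOne w) :
    c.HasLimOne (g * w * g⁻¹) := by
  obtain ⟨h, hh, h0⟩ := hw
  let k : B →ₐ[A] Polynomial B := (Polynomial.CAlgHom (R := B)).restrictScalars A
  have e1 : ((Polynomial.toLaurentAlg (R := B)).restrictScalars A).comp k = CL :=
    AlgHom.ext fun x => Polynomial.toLaurent_C x
  refine ⟨(tm b k ≫ g) * h * (tm b k ≫ g)⁻¹, ?_, ?_⟩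
  · rw [tm_mul, tm_mul, tm_inv, hh, Cochar.orb_mul, Cochar.orb_mul, Cochar.orb_inv, hg, ← Category.assoc, tm_comp, e1]
  · rw [tm_mul, tm_mul, tm_inv, h0, _root_.mul_one, mul_inv_cancel]

theorem fixed_neg [IsAffineHom G.hom] {f : D.M →+ ℤ} {g : tb b B ⟶ G} (hg : (lam D f).IsFixed g) :
    (lam D (-f)).IsFixed g :=
  (Cochar.isFixed_iff _ g).mpr fun n hn q => by
    rw [ev_proj_neg]
    exact (Cochar.isFixed_iff _ g).mp hg (-n) (neg_ne_zero.mpr hn) q

theorem word_append_one {n : ℕ} (l : Fin n → D.idx) (r : D.idx) (y : Fin (n + 1) → B) :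
    (word D (Fin.append l (fun _ : Fin 1 => r)) y : tb b B ⟶ G) =
      word D l (fun k => y (Fin.castAdd 1 k)) * ua D r (y (Fin.natAdd n 0)) := by
  have e : y = Fin.append (fun k => y (Fin.castAdd 1 k)) (fun _ : Fin 1 => y (Fin.natAdd n 0)) := funext fun k =>
    Fin.addCases (fun k => by simp) (fun j => by rw [Fin.append_right, Subsingleton.elim j 0]) k
  conv_lhs => rw [e, word_append]
  rw [show (word D (fun _ : Fin 1 => r) (fun _ => y (Fin.natAdd n 0)) : tb b B ⟶ G) = ua D r _ from by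
    rw [word, List.ofFn_succ, List.ofFn_zero, List.prod_singleton]]

theorem word_one_append {n : ℕ} (l : Fin n → D.idx) (r : D.idx) (y : Fin (1 + n) → B) :
    (word D (Fin.append (fun _ : Fin 1 => r) l) y : tb b B ⟶ G) =
      ua D r (y (Fin.castAdd n 0)) * word D l (fun k => y (Fin.natAdd 1 k)) := by
  have e : y = Fin.append (fun _ : Fin 1 => y (Fin.castAdd n 0)) (fun k => y (Fin.natAdd 1 k)) := funext fun k =>
    Fin.addCases (fun j => by rw [Fin.append_left, Subsingleton.elim j 0]) (fun j => by simp) k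
  conv_lhs => rw [e, word_append]
  rw [show (word D (fun _ : Fin 1 => r) (fun _ => y (Fin.castAdd n 0)) : tb b B ⟶ G) = ua D r _ from by
    rw [word, List.ofFn_succ, List.ofFn_zero, List.prod_singleton]]

section Field

variable {K : Type u} [Field K] [IsAlgClosed K] [Algebra A K] [IsAffineHom G.hom]

/-- A point of the Levi subgroup of a root is a product of elements of its two root groups and the torus. -/
theorem exists_levi (a : D.idx) (hred : ∀ r, r ≠ a → D.P.root r ≠ -D.P.root a → Indep D.P a r)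
    {f : D.M →+ ℤ} (hfa : f (D.P.root a) = 0) (hf : ∀ r, r ≠ a → D.P.root r ≠ -D.P.root a → f (D.P.root r) ≠ 0)
    {g : tb b K ⟶ G} (hg : (lam D f).IsFixed g) :
    ∃ (y₁ x : K) (t : tb b K ⟶ D.T) (y₂ : K),
      g = ua D (D.P.reflectionPerm a a) y₁ * ua D a x * tG D t * ua D (D.P.reflectionPerm a a) y₂ := by
  classical
  let na := D.P.reflectionPerm a a
  have hna : D.P.root na = -D.P.root a := by
    rw [D.P.root_reflectionPerm, D.P.reflection_apply_self]
  let g₀ : D.M →+ ℤ := (D.P.coroot a).toAddMonoidHom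
  have hg₀ : g₀ (D.P.root a) = 2 := by simp [g₀, coroot_root]
  let Kc : ℤ := 1 + ∑ x, |g₀ (D.P.root x)|
  let f' : D.M →+ ℤ := Kc • f + g₀
  have hK : ∀ x, |g₀ (D.P.root x)| < Kc := fun x => by
    have := Finset.single_le_sum (f := fun x => |g₀ (D.P.root x)|) (fun x _ => abs_nonneg _) (Finset.mem_univ x)
    linarith
  have hf' : ∀ x, f' (D.P.root x) = Kc * f (D.P.root x) + g₀ (D.P.root x) := fun x => by simp [f']
  have hpos : ∀ x, 0 < f' (D.P.root x) ↔ x = a ∨ 0 < f (D.P.root x) := fun x => by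
    have h1 := abs_lt.mp (hK x)
    by_cases h2 : x = a
    · subst h2; simp [hf', hfa, hg₀]
    by_cases h3 : D.P.root x = -D.P.root a
    · simp [hf', h3, map_neg, hfa, hg₀, h2]
    · have h4 := hf x h2 h3
      simp only [h2, false_or, hf']
      constructor <;> intro h5 <;> rcases lt_or_gt_of_ne h4 with h6 | h6 <;> nlinarith
  have hneg : ∀ x, f' (D.P.root x) < 0 ↔ x = na ∨ f (D.P.root x) < 0 := fun x => by
    have h1 := abs_lt.mp (hK x)
    by_cases h3 : D.P.root x = -D.P.root a
    · have : x = na := D.P.root.injective (h3.trans hna.symm)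
      subst this
      simp [hf', hna, map_neg, hfa, hg₀]
    have h3' : x ≠ na := fun h => h3 (h ▸ hna)
    by_cases h2 : x = a
    · subst h2; simp [hf', hfa, hg₀, h3']
    · have h4 := hf x h2 h3
      simp only [h3', false_or, hf']
      constructor <;> intro h5 <;> rcases lt_or_gt_of_ne h4 with h6 | h6 <;> nlinarith
  have hreg : ∀ x, f' (D.P.root x) ≠ 0 := fun x h0 => by
    by_cases h2 : x = a
    · exact absurd ((hpos x).mpr (Or.inl h2)) (by omega)
    by_cases h3 : D.P.root x = -D.P.root a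
    · exact absurd ((hneg x).mpr (Or.inl (D.P.root.injective (h3.trans hna.symm)))) (by omega)
    rcases lt_or_gt_of_ne (hf x h2 h3) with h6 | h6
    · exact absurd ((hneg x).mpr (Or.inr h6)) (by omega)
    · exact absurd ((hpos x).mpr (Or.inr h6)) (by omega)
  obtain ⟨m, lp, hlp⟩ := exists_posList D f
  obtain ⟨n, ln, hln⟩ := exists_posList D (-f)
  have hl' : PosList D f' (Fin.append (fun _ : Fin 1 => a) lp) := by
    refine ⟨Fin.append_injective_iff.mpr ⟨Function.injective_of_subsingleton _, hlp.inj, fun _ j h => ?_⟩,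
      fun x => ⟨?_, fun hx => ?_⟩⟩
    · have := hlp.pos D j
      rw [← h, hfa] at this
      exact lt_irrefl _ this
    · rintro ⟨k, rfl⟩
      refine Fin.addCases (fun j => ?_) (fun j => ?_) k
      · rw [Fin.append_left]; exact (hpos _).mpr (Or.inl rfl)
      · rw [Fin.append_right]; exact (hpos _).mpr (Or.inr (hlp.pos D j))
    · rcases (hpos x).mp hx with rfl | h
      · exact ⟨Fin.castAdd m 0, by simp⟩
      · obtain ⟨j, rfl⟩ := (hlp.mem_iff x).mpr h
        exact ⟨Fin.natAdd 1 j, by simp⟩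
  have hl : PosList D (-f') (Fin.append ln (fun _ : Fin 1 => na)) := by
    refine ⟨Fin.append_injective_iff.mpr ⟨hln.inj, Function.injective_of_subsingleton _, fun j _ h => ?_⟩,
      fun x => ⟨?_, fun hx => ?_⟩⟩
    · have := hln.pos D j
      rw [AddMonoidHom.neg_apply, h, hna, map_neg, hfa] at this
      simp at this
    · rintro ⟨k, rfl⟩
      rw [AddMonoidHom.neg_apply, neg_pos]
      refine Fin.addCases (fun j => ?_) (fun j => ?_) k
      · rw [Fin.append_left]; exact (hneg _).mpr (Or.inr (by simpa using hln.pos D j))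
      · rw [Fin.append_right]; exact (hneg _).mpr (Or.inl rfl)
    · rw [AddMonoidHom.neg_apply, neg_pos] at hx
      rcases (hneg x).mp hx with rfl | h
      · exact ⟨Fin.natAdd n 0, by simp⟩
      · obtain ⟨j, rfl⟩ := (hln.mem_iff x).mpr (by simpa using h)
        exact ⟨Fin.castAdd 1 j, by simp⟩
  haveI := isOpenImmersion_cell hl hl' hreg
  let cm := RedSub.cellMap D (Fin.append ln (fun _ : Fin 1 => na)) (Fin.append (fun _ : Fin 1 => a) lp)
  let bK : Spec (CommRingCat.of K) ⟶ S := Spec.map (CommRingCat.ofHom (algebraMap A K)) ≫ b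
  have hone : (1 : tb b K ⟶ G).left (IsLocalRing.closedPoint K) ∈ cm.left.opensRange := by
    have h1 : cellPt D (fun _ => (0 : K)) (1 : tb b K ⟶ D.T) (fun _ => 0) ≫ cm = 1 := by
      rw [cellPt_cellMap, cellWord, word_zero, word_zero, tG_one, _root_.one_mul, _root_.one_mul]
    rw [← h1]
    exact ⟨_, rfl⟩
  have hmem : ∀ h : tb b K ⟶ G, h.left (IsLocalRing.closedPoint K) ∈ cm.left.opensRange →
      ∃ (wn : tb b K ⟶ G) (y x : K) (t : tb b K ⟶ D.T) (wp : tb b K ⟶ G), (lam D (-f)).HasLimOne wn ∧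
        (lam D f).HasLimOne wp ∧ h = wn * (ua D na y * tG D t * ua D a x) * wp := by
    intro h hh
    have hr : Set.range h.left ⊆ Set.range cm.left := by
      rintro _ ⟨z, rfl⟩
      obtain rfl : z = IsLocalRing.closedPoint K := Subsingleton.elim (α := Spec (CommRingCat.of K)) _ _
      exact hh
    let p : tb b K ⟶ CellSrc D (n + 1) (1 + m) :=
      Over.homMk (IsOpenImmersion.lift cm.left h.left hr) (by rw [← Over.w cm, IsOpenImmersion.lift_fac_assoc, Over.w])
    have hp : p ≫ cm = h := Over.OverMorphism.ext (IsOpenImmersion.lift_fac _ _ _)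
    obtain ⟨y, t, x, hpe⟩ := exists_cellPt D p
    refine ⟨word D ln (fun k => y (Fin.castAdd 1 k)), y (Fin.natAdd n 0), x (Fin.castAdd m 0), t,
      word D lp (fun k => x (Fin.natAdd 1 k)), hasLimOne_word D (hln.pos D) _, hasLimOne_word D (hlp.pos D) _, ?_⟩
    rw [← hp, hpe, cellPt_cellMap, cellWord, word_append_one, word_one_append]
    simp [_root_.mul_assoc]
  let φ' : Over.mk bK ⊗ G ⟶ G := (fst _ _ ≫ g) * snd _ _
  have hφ' : ∀ h : Over.mk bK ⟶ G, lift (𝟙 _) h ≫ φ' = g * h := fun h => by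
    show lift (𝟙 _) h ≫ (fst (Over.mk bK) G ≫ g * snd (Over.mk bK) G) = _
    rw [MonObj.comp_mul, lift_snd, ← Category.assoc, lift_fst, Category.id_comp]
  obtain ⟨h, m₁, m₂⟩ := GrpSchLib.RankOne.exists_point_mem D.reductive bK (snd _ _) φ' cm.left.opensRange
    cm.left.opensRange 1 g⁻¹ (by rw [lift_snd]; exact hone) (by rw [hφ', mul_inv_cancel]; exact hone)
  rw [lift_snd] at m₁
  rw [hφ'] at m₂
  obtain ⟨wn, y, x, t, wp, hwn, hwp, rfl⟩ := hmem h m₁
  obtain ⟨wn', y', x', t', wp', hwn', hwp', he⟩ := hmem _ m₂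
  have hfna : f (D.P.root na) = 0 := by rw [hna, map_neg, hfa, neg_zero]
  have hM : ∀ (y x : K) (t : tb b K ⟶ D.T), (lam D f).IsFixed (ua D na y * tG D t * ua D a x : tb b K ⟶ G) :=
    fun y x t => ((fixed_ua D hfna y).mul (fixed_tG D f t)).mul (fixed_ua D hfa x)
  let M := (ua D na y * tG D t * ua D a x : tb b K ⟶ G)
  let M' := (ua D na y' * tG D t' * ua D a x' : tb b K ⟶ G)
  have e1 : wn'⁻¹ * (g * wn * g⁻¹) = M' * wp' * wp⁻¹ * (g * M)⁻¹ := by
    have h1 : g * wn * g⁻¹ = (g * (wn * M * wp)) * wp⁻¹ * (g * M)⁻¹ := by group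
    rw [h1, show g * (wn * M * wp) = wn' * M' * wp' from he]
    group
  have hX : wn'⁻¹ * (g * wn * g⁻¹) = 1 := eq_one_of_opposite D
    (e1 ▸ ((((hM y' x' t').hasLim _).mul _ (hwp'.hasLim _)).mul _ ((hwp.hasLim _).inv _)).mul _
      (((hg.mul (hM y x t)).hasLim _).inv _))
    ((hwn'.inv _).mul _ (hwn.conj_fixed (fixed_neg hg)))
  rw [e1] at hX
  have hfix : M'⁻¹ * (g * M) = wp' * wp⁻¹ := by
    have h1 : g * M = M' * wp' * wp⁻¹ := (mul_inv_eq_one.mp hX).symm
    rw [h1]; group
  have hY : M'⁻¹ * (g * M) = 1 := Cochar.eq_one_of_fixed_of_limOne _ ((hM y' x' t').inv.mul (hg.mul (hM y x t)))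
    (hfix ▸ hwp'.mul _ (hwp.inv _))
  refine ⟨y', (chr D (D.P.root a) t' : K) * (x' - x), t' * t⁻¹, -y, ?_⟩
  have hgM : g = M' * M⁻¹ := by
    rw [eq_mul_inv_iff_mul_eq]
    exact (inv_mul_eq_one.mp hY).symm
  rw [hgM, ua_neg, tG_mul, tG_inv, sub_eq_add_neg x' x,
    ← _root_.mul_assoc (_ * ua D a _) (tG D t')]
  show ua D na y' * tG D t' * ua D a x' * (ua D na y * tG D t * ua D a x)⁻¹ = _
  rw [_root_.mul_assoc (ua D (D.P.reflectionPerm a a) y') (ua D a _) (tG D t'), ← tG_mul_ua, ua_add, ua_neg]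
  group
  rfl

end Field

end Groth.Agent.RedCell22
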