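import Groth.Agent.RedCell22.CommLaw
import Groth.Agent.RedCell22.Levi

/-!
# The linear action of a Levi subgroup on a string of roots
-/

set_option autoImplicit false
set_option linter.unusedSectionVars false
set_option linter.style.haveILetI false

universe u

open CategoryTheory CategoryTheory.Limits AlgebraicGeometry MonoidalCategory CartesianMonoidalCategory
open MonObj GrpObj


noncomputable section

namespace Groth.Agent.RedCell22

variable {S : Scheme.{u}} {G : Over S} [GrpObj G] {D : Red.SplitRed G} {A : Type u} [CommRing A]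
variable {b : Spec (CommRingCat.of A) ⟶ S} {B : Type u} [CommRing B] [Algebra A B] {p : ℕ}

/-- The reflection attached to a root, on characters. -/
def reflHom (D : Red.SplitRed G) (a : D.idx) : D.M →+ D.M := (D.P.reflection a).toLinearMap.toAddMonoidHom

theorem reflHom_apply (a : D.idx) (m : D.M) : reflHom D a m = m - D.P.coroot a m • D.P.root a := by
  show D.P.reflection a m = _
  rw [RootPairing.reflection_apply]
  congr 2
  show D.P.toLinearMap m (D.P.coroot a) = _
  rw [D.pairing_eq]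
  rfl

/-- A point inducing a reflection on the torus. -/
def IsReflPt (D : Red.SplitRed G) (a : D.idx) (n : 𝟙_ (Over S) ⟶ G) : Prop :=
  ∀ (X : Over S) (t : X ⟶ D.T), (toUnit X ≫ n) * (t ≫ D.i) * (toUnit X ≫ n)⁻¹ =
    t ≫ D.split.hom.hom.hom ≫ Red.DSmap S (D.P.reflection a).toLinearMap.toAddMonoidHom ≫ D.split.inv.hom.hom ≫ D.i

theorem IsReflPt.conj_tG {a : D.idx} {n : 𝟙_ (Over S) ⟶ G} (hn : IsReflPt D a n) (χ : Multiplicative D.M →* Bˣ) :
    ((toUnit _ ≫ n) * tG D (tpt D χ) * (toUnit _ ≫ n)⁻¹ : tb b B ⟶ G) =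
      tG D (tpt D (χ.comp (AddMonoidHom.toMultiplicative (reflHom D a)))) := by
  have h : D.split.inv.hom.hom ≫ D.split.hom.hom.hom = 𝟙 _ := congrArg (fun z => z.hom.hom) D.split.inv_hom_id
  refine (hn _ _).trans ?_
  simp only [tG, tpt, reflHom, Category.assoc, reassoc_of% h, ← dsPt_DSmap]

theorem IsReflPt.fixed {a : D.idx} {n : 𝟙_ (Over S) ⟶ G} (hn : IsReflPt D a n) {f : D.M →+ ℤ}
    (hf : f (D.P.root a) = 0) : (lam D f).IsFixed (toUnit (tb b B) ≫ n) := by
  have h1 : tm b (CL : B →ₐ[A] LaurentPolynomial B) ≫ toUnit (tb b B) ≫ n = toUnit (tb b (LaurentPolynomial B)) ≫ n := by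
    rw [← Category.assoc, toUnit_unique (tm b CL ≫ toUnit (tb b B)) (toUnit _)]
  show (lam D f).conj (tm b CL ≫ toUnit (tb b B) ≫ n) (Tu B) = tm b CL ≫ toUnit (tb b B) ≫ n
  rw [h1]
  have h2 := hn.conj_tG (b := b) (coVal D f (Tu B))
  rw [show (coVal D f (Tu B)).comp (AddMonoidHom.toMultiplicative (reflHom D a)) = coVal D f (Tu B) from
    MonoidHom.ext fun m => by
      show coVal D f (Tu B) (Multiplicative.ofAdd (reflHom D a (Multiplicative.toAdd m))) = _
      rw [coVal_apply, reflHom_apply, map_sub, map_zsmul, hf, smul_zero, sub_zero, ← coVal_apply, ofAdd_toAdd]] at h2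
  show tG D (tpt D (coVal D f (Tu B))) * (toUnit _ ≫ n) * (tG D (tpt D (coVal D f (Tu B))))⁻¹ = _
  rw [mul_inv_eq_iff_eq_mul]
  exact (mul_inv_eq_iff_eq_mul.mp h2).symm

variable [IsAffineHom G.hom] {Ψ : Set D.idx} {E : Fin p → D.idx}

/-- Coordinates of a product at an indecomposable root. -/
theorem exists_coord_prod (h : IsClosedSet D.P Ψ) (he : RedSub.Enumerates Ψ E) :
    ∀ {n : ℕ} (g : Fin n → (tb b B ⟶ G)) (Z : Fin n → Fin p → B), (∀ l, word D E (Z l) = g l) →
      ∃ z : Fin p → B, word D E z = (List.ofFn g).prod ∧ ∀ k, Indec D Ψ (E k) → z k = ∑ l, Z l k := by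
  have hall : ∀ (x : Fin p → B) i, E i ∉ Ψ → x i = 0 := fun x i hi =>
    absurd ((Set.ext_iff.mp he.2 _).mp ⟨i, rfl⟩) hi
  have hmem : ∀ i, E i ∈ Ψ := fun i => (Set.ext_iff.mp he.2 _).mp ⟨i, rfl⟩
  intro n
  induction n with
  | zero => exact fun g Z _ => ⟨fun _ => 0, by rw [word_zero, List.ofFn_zero, List.prod_nil], fun k _ => by simp⟩
  | succ n ih =>
    intro g Z hZ
    obtain ⟨y, hy, hyk⟩ := ih (fun l => g l.succ) (fun l => Z l.succ) fun l => hZ l.succ
    obtain ⟨z, hz⟩ := (exists_word_of_word (b := b) h he (Fin.append E E)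
      (fun k => Fin.addCases (fun i => by rw [Fin.append_left]; exact hmem i)
        (fun i => by rw [Fin.append_right]; exact hmem i) k) (Fin.append (Z 0) y)).1
    rw [word_append] at hz
    refine ⟨z, by rw [hz, hZ, hy, List.ofFn_succ, List.prod_cons], fun k hk => ?_⟩
    rw [coord_add h he hk (hall _) (hall _) hz, hyk k hk, Fin.sum_univ_succ]

/-- The half plane of a string. -/
def upper (_ j : ℤ) : Prop := 0 < j

theorem isClosedSet_upper {a c : D.idx} (hind : Indep D.P a c) : IsClosedSet D.P (cone D a c upper) :=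
  isClosedSet_cone hind (fun i j i' j' h h' => add_pos (α := ℤ) h h') fun i j h h' => by
    simp only [upper] at h h'
    omega

/-- A point whose conjugation acts linearly on the first level of a string. -/
def Op (E : Fin p → D.idx) (J : Fin p → ℤ) (g : tb b B ⟶ G) (M : Fin p → Fin p → B) : Prop :=
  (∀ k l, J k = 1 → J l ≠ 1 → M k l = 0) ∧
    ∀ v : Fin p → B, ∃ z : Fin p → B, word D E z = g * word D E v * g⁻¹ ∧ ∀ k, J k = 1 → z k = ∑ l, M k l * v l

variable {J : Fin p → ℤ} {g g' : tb b B ⟶ G} {M M' : Fin p → Fin p → B}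

theorem Op.mul (h : Op E J g M) (h' : Op E J g' M') : Op E J (g * g') fun k l => ∑ m, M k m * M' m l := by
  classical
  refine ⟨fun k l hk hl => Finset.sum_eq_zero fun m _ => ?_, fun v => ?_⟩
  · by_cases hm : J m = 1
    · rw [h'.1 m l hm hl, mul_zero]
    · rw [h.1 k m hk hm, zero_mul]
  obtain ⟨z', hz', hzk'⟩ := h'.2 v
  obtain ⟨z, hz, hzk⟩ := h.2 z'
  refine ⟨z, by rw [hz, hz']; group, fun k hk => ?_⟩
  calc z k = ∑ m, M k m * z' m := hzk k hk
    _ = ∑ m, ∑ l, M k m * M' m l * v l := Finset.sum_congr rfl fun m _ => by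
      by_cases hm : J m = 1
      · rw [hzk' m hm, Finset.mul_sum]; simp [_root_.mul_assoc]
      · simp [h.1 k m hk hm]
    _ = _ := by rw [Finset.sum_comm]; simp [Finset.sum_mul]

theorem op_tG (t : tb b B ⟶ D.T) :
    Op E J (tG D t : tb b B ⟶ G) fun k l => if k = l then (chr D (D.P.root (E k)) t : B) else 0 := by
  refine ⟨fun k l hk hl => if_neg fun h => hl (by subst h; exact hk), fun v => ⟨_, (conj_word D t E v).symm, fun k _ => ?_⟩⟩
  simp

/-- The action of a root group on the first level. -/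
theorem exists_op_root {a c : D.idx} (hind : Indep D.P a c) (hE : RedSub.Enumerates (cone D a c upper) E)
    {I J : Fin p → ℤ} (hIJ : ∀ k, D.P.root (E k) = I k • D.P.root a + J k • D.P.root c)
    {σ : D.idx} {ε : ℤ} (hε : ε * ε = 1) (hσ : D.P.root σ = ε • D.P.root a) (s : B) :
    ∃ M : Fin p → Fin p → B, Op E J (ua D σ s : tb b B ⟶ G) M ∧
      (∀ k l, J k = 1 → ε * (I k - I l) < 0 → M k l = 0) ∧ (∀ k, J k = 1 → M k k = 1) ∧
      ∀ (k l : Fin p) (q : ℕ) (d : Fin q → D.idx) (C : Fin q → A) (n : ℕ) (i : Fin q),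
        J k = 1 → J l = 1 → RedSub.Enumerates (commSet D σ (E l)) d →
        (word D d C : tb b A ⟶ G) = ua D σ 1 * ua D (E l) 1 * (ua D σ 1)⁻¹ * (ua D (E l) 1)⁻¹ →
        d i = E k → (n : ℤ) = ε * (I k - I l) → 0 < n → M k l = algebraMap A B (C i) * s ^ n := by
  classical
  have hΨ := isClosedSet_upper hind
  have hJ : ∀ k, 0 < J k := fun k => by
    obtain ⟨i, j, hR, hr⟩ := ((Set.ext_iff.mp hE.2 _).mp ⟨k, rfl⟩ : E k ∈ cone D a c upper)
    rw [hIJ] at hr
    rw [(hind.eq hr).2]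
    exact hR
  have hindec : ∀ k, J k = 1 → Indec D (cone D a c upper) (E k) := fun k hk =>
    indec_cone hind (fun _ _ h => h) (i₀ := I k) (by rw [hIJ k, hk, one_smul])
  have hε0 : ε ≠ 0 := fun h => by simp [h] at hε
  have hsr : ∀ l, Indep D.P σ (E l) := fun l =>
    hind.of_root (i := ε) (j := 0) (i' := I l) (j' := J l) (by rw [hσ, zero_smul, add_zero]) (hIJ l)
      (by rw [mul_zero, sub_zero]; exact mul_ne_zero hε0 (hJ l).ne')
  -- the coordinates of one conjugate, through any enumeration of the commutator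
  have hval : ∀ (l : Fin p) (q : ℕ) (d : Fin q → D.idx), RedSub.Enumerates (commSet D σ (E l)) d →
      ∃ (C : Fin q → A) (P Q : Fin q → ℕ),
        (∀ i, 0 < P i ∧ 0 < Q i ∧ D.P.root (d i) = (P i : ℤ) • D.P.root σ + (Q i : ℤ) • D.P.root (E l)) ∧
        (word D d C : tb b A ⟶ G) = ua D σ 1 * ua D (E l) 1 * (ua D σ 1)⁻¹ * (ua D (E l) 1)⁻¹ ∧
        ∀ w : B, ∃ z : Fin p → B, (word D E z : tb b B ⟶ G) = ua D σ s * ua D (E l) w * (ua D σ s)⁻¹ ∧ ∀ k, J k = 1 →
          z k = (∑ i, if d i = E k then algebraMap A B (C i) * s ^ P i * w ^ Q i else 0) + if l = k then w else 0 := by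
    intro l q d hd
    obtain ⟨C, P, Q, hPQ, hC⟩ := exists_comm (hsr l) hd b
    refine ⟨C, P, Q, hPQ, by simpa using hC A 1 1, fun w => ?_⟩
    have hdΨ : ∀ i, d i ∈ cone D a c upper := fun i => by
      refine ⟨(P i : ℤ) * ε + (Q i : ℤ) * I l, (Q i : ℤ) * J l, mul_pos (by exact_mod_cast (hPQ i).2.1) (hJ l), ?_⟩
      rw [(hPQ i).2.2, hσ, hIJ l, smul_add, smul_smul, smul_smul, smul_smul, add_smul]
      abel
    have hlist : ∀ i, Fin.append d (fun _ : Fin 1 => E l) i ∈ cone D a c upper := fun i =>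
      Fin.addCases (fun i => by rw [Fin.append_left]; exact hdΨ i)
        (fun i => by rw [Fin.append_right]; exact (Set.ext_iff.mp hE.2 _).mp ⟨l, rfl⟩) i
    let x : Fin (q + 1) → B := Fin.append (fun i => (algebraMap A B (C i) : B) * s ^ P i * w ^ Q i) (fun _ => w)
    obtain ⟨z, hz⟩ := (exists_word_of_word (b := b) hΨ hE _ hlist x).1
    refine ⟨z, ?_, fun k hk => ?_⟩
    · rw [hz, word_append, hC B s w, word_one]
      group
    · rw [coord_word hΨ hE (hindec k hk) _ hlist x z hz, Fin.sum_univ_add]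
      simp [x, hE.1.eq_iff]
  choose q₀ d₀ hd₀ using fun l => exists_enumerates (commSet D σ (E l))
  choose C₀ P₀ Q₀ hPQ₀ hC₀ hz₀ using fun l => hval l (q₀ l) (d₀ l) (hd₀ l)
  have hlevel : ∀ k l i (P Q : ℕ) (r : D.idx), r = E k → J k = 1 → i = l → 0 < P → 0 < Q →
      D.P.root r = (P : ℤ) • D.P.root σ + (Q : ℤ) • D.P.root (E i) → (Q = 1 ∧ J l = 1 ∧ (P : ℤ) = ε * (I k - I l)) := by
    rintro k l i P Q r rfl hk rfl hP hQ hr
    rw [hIJ k, hk, hσ, hIJ i, smul_add, smul_smul, smul_smul, smul_smul, ← add_assoc, ← add_smul] at hr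
    obtain ⟨h1, h2⟩ := hind.eq hr
    have h3 : (Q : ℤ) = 1 := Int.eq_one_of_mul_eq_one_right (Int.natCast_nonneg _) h2.symm
    rw [h3, _root_.one_mul] at h1 h2
    refine ⟨by exact_mod_cast h3, h2.symm, ?_⟩
    rw [h1, add_sub_cancel_right, _root_.mul_comm (P : ℤ) ε, ← _root_.mul_assoc, hε, _root_.one_mul]
  let M : Fin p → Fin p → B := fun k l =>
    (∑ i, if d₀ l i = E k then algebraMap A B (C₀ l i) * s ^ P₀ l i else 0) + if l = k then 1 else 0
  refine ⟨M, ⟨fun k l hk hl => ?_, fun v => ?_⟩, fun k l hk hlt => ?_, fun k hk => ?_, ?_⟩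
  · simp only [M]
    rw [if_neg fun h => hl (by subst h; exact hk), add_zero]
    refine Finset.sum_eq_zero fun i _ => if_neg fun h => hl ?_
    exact (hlevel k l l _ _ _ h hk rfl (hPQ₀ l i).1 (hPQ₀ l i).2.1 (hPQ₀ l i).2.2).2.1
  · choose Z hZ hZk using fun l => hz₀ l (v l)
    obtain ⟨z, hz, hzk⟩ := exists_coord_prod hΨ hE (fun l => ua D σ s * ua D (E l) (v l) * (ua D σ s)⁻¹) Z hZ
    refine ⟨z, hz.trans ?_, fun k hk => ?_⟩
    · refine Eq.trans ?_ (map_list_prod (MulAut.conj (ua D σ s : tb b B ⟶ G)).toMonoidHom _).symm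
      rw [List.map_ofFn]
      rfl
    · rw [hzk k (hindec k hk)]
      refine Finset.sum_congr rfl fun l _ => ?_
      rw [hZk l k hk]
      simp only [M, add_mul, Finset.sum_mul, ite_mul, zero_mul, _root_.one_mul]
      congr 1
      refine Finset.sum_congr rfl fun i _ => if_ctx_congr Iff.rfl (fun h => ?_) fun _ => rfl
      rw [(hlevel k l l _ _ _ h hk rfl (hPQ₀ l i).1 (hPQ₀ l i).2.1 (hPQ₀ l i).2.2).1, pow_one]
  · simp only [M]
    rw [if_neg fun h => by subst h; simp at hlt, add_zero]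
    refine Finset.sum_eq_zero fun i _ => if_neg fun h => ?_
    have := (hlevel k l l _ _ _ h hk rfl (hPQ₀ l i).1 (hPQ₀ l i).2.1 (hPQ₀ l i).2.2).2.2
    have : (0 : ℤ) < P₀ l i := by exact_mod_cast (hPQ₀ l i).1
    omega
  · simp only [M]
    rw [if_true, Finset.sum_eq_zero fun i _ => if_neg fun h => ?_, zero_add]
    have := (hlevel k k k _ _ _ h hk rfl (hPQ₀ k i).1 (hPQ₀ k i).2.1 (hPQ₀ k i).2.2).2.2
    have : (0 : ℤ) < P₀ k i := by exact_mod_cast (hPQ₀ k i).1
    simp at *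
    omega
  · intro k l q d C n i hk hl hd hC hdi hn hn0
    obtain ⟨C', P, Q, hPQ, hC', hz'⟩ := hval l q d hd
    obtain rfl : C' = C := word_injective_of_closed (isClosedSet_commSet (hsr l)) hd (hC'.trans hC.symm)
    obtain ⟨z, hz, hzk⟩ := hz' 1
    obtain ⟨z₁, hz₁, hzk₁⟩ := hz₀ l 1
    have hsum := hzk k hk
    rw [word_injective_of_closed hΨ hE (hz.trans hz₁.symm), hzk₁ k hk] at hsum
    simp only [one_pow, _root_.mul_one] at hsum
    simp only [M]
    rw [hsum]
    have hkl : l ≠ k := fun h => by subst h; simp at hn; omega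
    rw [if_neg hkl, add_zero, Finset.sum_eq_single i (fun i' _ hne => if_neg fun h => hne (hd.1 (h.trans hdi.symm)))
      (fun h => absurd (Finset.mem_univ i) h), if_pos hdi]
    have h1 := (hlevel k l l _ _ _ hdi hk rfl (hPQ i).1 (hPQ i).2.1 (hPQ i).2.2).2.2
    rw [show P i = n by omega]

end Groth.Agent.RedCell22
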