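import Groth.Agent.RedCell22.Tail

/-!
# Global functions given on affine tests
-/

set_option autoImplicit false
set_option linter.unusedSectionVars false

universe u

open CategoryTheory CategoryTheory.Limits AlgebraicGeometry MonoidalCategory CartesianMonoidalCategory
open MonObj GrpObj

noncomputable section

namespace Groth.Agent.RedCell22

open GrpSchLib

variable {S : Scheme.{u}} {A : Type u} [CommRing A] {b : Spec (CommRingCat.of A) ⟶ S}

/-- The restriction of global functions to a test. -/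
def glob (b : Spec (CommRingCat.of A) ⟶ S) : Γ(S, ⊤) →+* A :=
  (Scheme.ΓSpecIso (CommRingCat.of A)).hom.hom.comp b.appTop.hom

theorem glob_map {A' : Type u} [CommRing A'] (φ : A →+* A') {b' : Spec (CommRingCat.of A') ⟶ S}
    (h : Spec.map (CommRingCat.ofHom φ) ≫ b = b') (c₀ : Γ(S, ⊤)) : φ (glob b c₀) = glob b' c₀ := by
  subst h
  show _ = (Scheme.ΓSpecIso _).hom ((Spec.map (CommRingCat.ofHom φ) ≫ b).appTop c₀)
  rw [Scheme.Hom.comp_appTop, CommRingCat.comp_apply, gsi_map]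
  rfl

theorem tb_hom (b : Spec (CommRingCat.of A) ⟶ S) : (tb b A).hom = b := by
  show Spec.map (CommRingCat.ofHom (algebraMap A A)) ≫ b = b
  rw [Algebra.algebraMap_self, CommRingCat.ofHom_id, Spec.map_id, Category.id_comp]

theorem gs_appTop_hom {X : Over S} (φ : tb b A ⟶ X) (c₀ : Γ(S, ⊤)) :
    gs (φ.left.appTop (X.hom.appTop c₀)) = glob b c₀ := by
  show _ = (Scheme.ΓSpecIso _).hom (b.appTop c₀)
  rw [← CommRingCat.comp_apply, ← Scheme.Hom.comp_appTop]
  erw [Over.w φ]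
  rw [tb_hom]
  rfl

theorem gs_gaFn_eval {V : Type} {X : Over S} (φ : tb b A ⟶ X) (x : V → (X ⟶ Red.Ga S))
    (Q : MvPolynomial V Γ(S, ⊤)) :
    gs (φ.left.appTop (MvPolynomial.eval₂ X.hom.appTop.hom (fun i => Red.gaFn (x i)) Q)) =
      MvPolynomial.aeval (fun i => gs (Red.gaFn (φ ≫ x i))) (MvPolynomial.map (glob b) Q) := by
  induction Q using MvPolynomial.induction_on with
  | C a =>
    simp
    exact gs_appTop_hom φ a
  | add p q hp hq => simp only [map_add, MvPolynomial.eval₂_add, hp, hq]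
  | mul_X p i hp =>
    simp only [map_mul, MvPolynomial.eval₂_mul, MvPolynomial.eval₂_X, MvPolynomial.map_X, MvPolynomial.aeval_X, hp,
      GaPts.gaFn_comp]

/-- Tests separate global functions. -/
theorem glob_ext {c₀ c'₀ : Γ(S, ⊤)}
    (h : ∀ (A : Type u) [CommRing A] (b : Spec (CommRingCat.of A) ⟶ S), glob b c₀ = glob b c'₀) : c₀ = c'₀ := by
  have e : (GaPts.ptOfFn c₀ : 𝟙_ (Over S) ⟶ Red.Ga S) = GaPts.ptOfFn c'₀ :=
    hom_ext_of_tests fun A _ b φ => GaPts.gaFn_injective (gs.injective (by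
      show gs (Red.gaFn _) = gs (Red.gaFn _)
      rw [GaPts.gaFn_comp, GaPts.gaFn_comp, GaPts.gaFn_ptOfFn, GaPts.gaFn_ptOfFn]
      have h1 := gs_appTop_hom φ c₀
      have h2 := gs_appTop_hom φ c'₀
      have e0 : ∀ z : Γ(S, ⊤), (𝟙_ (Over S)).hom.appTop z = z := fun z => by
        show (𝟙 S : S ⟶ S).appTop z = z
        simp
      rw [e0] at h1 h2
      rw [h1, h2, h A b]))
  have := congrArg Red.gaFn e
  rwa [GaPts.gaFn_ptOfFn, GaPts.gaFn_ptOfFn] at this

/-- A compatible family of functions on the tests is a global function. -/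
theorem exists_glob (c : ∀ (A : Type u) [CommRing A], (Spec (CommRingCat.of A) ⟶ S) → A)
    (hc : ∀ (A A' : Type u) [CommRing A] [CommRing A'] (φ : A →+* A') (b : Spec (CommRingCat.of A) ⟶ S)
      (b' : Spec (CommRingCat.of A') ⟶ S), Spec.map (CommRingCat.ofHom φ) ≫ b = b' → φ (c A b) = c A' b') :
    ∃ c₀ : Γ(S, ⊤), ∀ (A : Type u) [CommRing A] (b : Spec (CommRingCat.of A) ⟶ S), glob b c₀ = c A b := by
  let pt' : ∀ (A : Type u) [CommRing A] (b : Spec (CommRingCat.of A) ⟶ S),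
      Spec (CommRingCat.of A) ⟶ (Red.Ga S).left :=
    fun A _ b => (gaPt (c A b) : tb b A ⟶ Red.Ga S).left
  have key : ∀ (A A' : Type u) [CommRing A] [CommRing A'] (φ : A →+* A') (b : Spec (CommRingCat.of A) ⟶ S)
      (b' : Spec (CommRingCat.of A') ⟶ S), Spec.map (CommRingCat.ofHom φ) ≫ b = b' →
        Spec.map (CommRingCat.ofHom φ) ≫ pt' A b = pt' A' b' := by
    intro A A' _ _ φ b b' hb
    let h : tb b' A' ⟶ tb b A := Over.homMk (Spec.map (CommRingCat.ofHom φ)) (by rw [tb_hom, tb_hom]; exact hb)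
    suffices e : h ≫ (gaPt (c A b) : tb b A ⟶ Red.Ga S) = gaPt (c A' b') from congrArg CommaMorphism.left e
    refine GaPts.gaFn_injective (gs.injective ?_)
    show gs (Red.gaFn _) = gs (Red.gaFn _)
    rw [GaPts.gaFn_comp, gs_gaFn_gaPt, ← hc A A' φ b b' hb]
    show (Scheme.ΓSpecIso (CommRingCat.of A')).hom
      ((Spec.map (CommRingCat.ofHom φ)).appTop (Red.gaFn (gaPt (c A b) : tb b A ⟶ Red.Ga S))) = _
    rw [gsi_map]
    exact congrArg φ (gs_gaFn_gaPt (b := b) (S := S) (c A b))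
  have pair : ∀ (R A A' : Type u) [CommRing R] [CommRing A] [CommRing A']
      (f : Spec (CommRingCat.of R) ⟶ Spec (CommRingCat.of A)) (f' : Spec (CommRingCat.of R) ⟶ Spec (CommRingCat.of A'))
      (b : Spec (CommRingCat.of A) ⟶ S) (b' : Spec (CommRingCat.of A') ⟶ S),
      f ≫ b = f' ≫ b' → f ≫ pt' A b = f' ≫ pt' A' b' := by
    intro R A A' _ _ _ f f' b b' hb
    obtain ⟨φ, rfl⟩ : ∃ φ : A →+* R, Spec.map (CommRingCat.ofHom φ) = f :=
      ⟨(Spec.preimage f).hom, by rw [CommRingCat.ofHom_hom, Spec.map_preimage]⟩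
    obtain ⟨φ', rfl⟩ : ∃ φ' : A' →+* R, Spec.map (CommRingCat.ofHom φ') = f' :=
      ⟨(Spec.preimage f').hom, by rw [CommRingCat.ofHom_hom, Spec.map_preimage]⟩
    rw [key A R φ b _ rfl, key A' R φ' b' _ hb.symm]
  let 𝒰 := S.affineCover
  let g : ∀ i, 𝒰.X i ⟶ (Red.Ga S).left := fun i => pt' _ (𝒰.f i)
  have hg : ∀ i j, pullback.fst (𝒰.f i) (𝒰.f j) ≫ g i = pullback.snd (𝒰.f i) (𝒰.f j) ≫ g j := by
    intro i j
    refine (pullback (𝒰.f i) (𝒰.f j)).affineCover.hom_ext _ _ fun k => ?_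
    rw [← Category.assoc, ← Category.assoc]
    exact pair _ _ _ _ _ (𝒰.f i) (𝒰.f j) ((Category.assoc _ _ _).trans ((congrArg (_ ≫ ·) pullback.condition).trans (Category.assoc _ _ _).symm))
  let q := 𝒰.glueMorphisms g hg
  have hq : ∀ (A : Type u) [CommRing A] (b : Spec (CommRingCat.of A) ⟶ S), b ≫ q = pt' A b := by
    intro A _ b
    refine Scheme.Cover.hom_ext (𝒰.pullback₁ b) _ _ fun i => ?_
    refine (pullback b (𝒰.f i)).affineCover.hom_ext _ _ fun k => ?_
    let s := (pullback b (𝒰.f i)).affineCover.f k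
    show s ≫ pullback.fst b (𝒰.f i) ≫ b ≫ q = s ≫ pullback.fst b (𝒰.f i) ≫ pt' A b
    have eg : 𝒰.f i ≫ q = g i := Scheme.Cover.ι_glueMorphisms 𝒰 g hg i
    rw [pullback.condition_assoc]
    erw [eg]
    refine (Category.assoc _ _ _).symm.trans (Eq.trans ?_ (Category.assoc _ _ _))
    exact pair _ _ _ _ _ (𝒰.f i) b ((Category.assoc _ _ _).trans ((congrArg (s ≫ ·) (pullback.condition (f := b) (g := 𝒰.f i)).symm).trans (Category.assoc _ _ _).symm))
  have hqS : q ≫ (Red.Ga S).hom = 𝟙 S := 𝒰.hom_ext _ _ fun i => by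
    rw [Scheme.Cover.ι_glueMorphisms_assoc, Category.comp_id]
    exact (Over.w (gaPt (c _ (𝒰.f i)) : tb (𝒰.f i) _ ⟶ Red.Ga S)).trans (tb_hom _)
  let σ : 𝟙_ (Over S) ⟶ Red.Ga S := Over.homMk q hqS
  refine ⟨Red.gaFn σ, fun A _ b => ?_⟩
  let φ : tb b A ⟶ 𝟙_ (Over S) := Over.homMk b (by rw [tb_hom]; exact Category.comp_id b)
  have e : φ ≫ σ = gaPt (c A b) := Over.OverMorphism.ext (hq A b)
  have := congrArg (fun z => gs (Red.gaFn z)) e
  rw [GaPts.gaFn_comp, gs_gaFn_gaPt] at this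
  exact this

end Groth.Agent.RedCell22
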