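import Groth.Agent.RedCell22.SimpleForm
import Groth.Agent.RedCell22.Orders
import Groth.Agent.GrpSchLib.RankOneBig
import Mathlib.AlgebraicGeometry.Sites.Fpqc

/-!
# Extending a multiplicative morphism from the big cell to the group
-/

set_option autoImplicit false
set_option linter.unusedSectionVars false
set_option linter.style.haveILetI false

universe u

open CategoryTheory CategoryTheory.Limits AlgebraicGeometry MonoidalCategory CartesianMonoidalCategory
open MonObj GrpObj

noncomputable section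

namespace Groth.Agent.RedCell22

variable {S : Scheme.{u}} {G : Over S} [GrpObj G]

/-- Finitely many translates of a neighbourhood of the unit meet in every geometric fibre. -/
theorem exists_point_mem_all (hG : Red.IsReductive G) {K : Type u} [Field K] [IsAlgClosed K]
    (b : Spec (CommRingCat.of K) ⟶ S) (U : G.left.Opens)
    (h1 : (1 : Over.mk b ⟶ G).left (IsLocalRing.closedPoint K) ∈ U) (L : List (Over.mk b ⟶ G)) :
    ∃ h : Over.mk b ⟶ G, ∀ g ∈ L, (g * h).left (IsLocalRing.closedPoint K) ∈ U := by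
  let Z : Scheme.{u} := (Over.mk b ⊗ G).left
  let f : Z ⟶ Spec (CommRingCat.of K) := (fst (Over.mk b) G).left
  haveI : Smooth G.hom := hG.2.1
  haveI : LocallyOfFiniteType f := inferInstanceAs (LocallyOfFiniteType (pullback.fst b G.hom))
  haveI := GrpSchLib.RankOne.irreducible_fibre hG b
  haveI : IrreducibleSpace ↥Z :=
    (pullbackSymmetry b G.hom).hom.homeomorph.irreducibleSpace_iff.mpr inferInstance
  haveI : JacobsonSpace ↥Z := LocallyOfFiniteType.jacobsonSpace f
  let φ : (Over.mk b ⟶ G) → ((Over.mk b ⊗ G) ⟶ G) := fun g => (fst _ _ ≫ g) * snd _ _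
  have hφ : ∀ g h, lift (𝟙 _) h ≫ φ g = g * h := fun g h => by simp [φ, MonObj.comp_mul]
  obtain ⟨W, hW, hmem⟩ : ∃ W : Z.Opens, (W : Set Z).Nonempty ∧
      ∀ z ∈ W, ∀ g ∈ L, (φ g).left z ∈ U := by
    induction L with
    | nil => exact ⟨⊤, ⟨(lift (𝟙 _) (1 : Over.mk b ⟶ G)).left (IsLocalRing.closedPoint K), trivial⟩, by simp⟩
    | cons g L ih =>
      obtain ⟨W, hW, hmem⟩ := ih
      refine ⟨(φ g).left ⁻¹ᵁ U ⊓ W, nonempty_preirreducible_inter ((φ g).left ⁻¹ᵁ U).2 W.2
        ⟨(lift (𝟙 _) g⁻¹).left (IsLocalRing.closedPoint K), ?_⟩ hW, fun z hz g' hg' => ?_⟩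
      · show (lift (𝟙 _) g⁻¹ ≫ φ g).left _ ∈ U
        rw [hφ, mul_inv_cancel]
        exact h1
      · rcases List.mem_cons.mp hg' with rfl | h
        · exact hz.1
        · exact hmem z hz.2 g' h
  obtain ⟨z, hzW, hz⟩ := nonempty_inter_closedPoints hW W.2.isLocallyClosed
  let p : Over.mk b ⟶ Over.mk b ⊗ G := Over.homMk (pointOfClosedPoint f z hz) (by
    refine (congrArg (pointOfClosedPoint f z hz ≫ ·) (Over.w (fst (Over.mk b) G)).symm).trans ?_
    exact ((Category.assoc _ _ _).symm.trans (congrArg (· ≫ b) (pointOfClosedPoint_comp f z hz))).trans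
      (Category.id_comp _))
  have hp : lift (𝟙 _) (p ≫ snd _ _) = p := by
    refine CartesianMonoidalCategory.hom_ext _ _ ?_ (lift_snd _ _)
    rw [lift_fst]
    exact Over.OverMorphism.ext (pointOfClosedPoint_comp f z hz).symm
  refine ⟨p ≫ snd _ _, fun g hg => ?_⟩
  rw [← hφ, hp]
  show (φ g).left (p.left (IsLocalRing.closedPoint K)) ∈ U
  rw [show p.left (IsLocalRing.closedPoint K) = z from pointOfClosedPoint_apply f z hz _]
  exact hmem z hzW g hg

variable {H : Over S} [GrpObj H] {D : Red.SplitRed G} {n m : ℕ} {φ : D.M →+ ℤ}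
  {l : Fin n → D.idx} {l' : Fin m → D.idx}

/-- All suffix products of a list of points. -/
def suffixes {M : Type u} [Monoid M] : List M → List M
  | [] => [1]
  | a :: L => (a :: L).prod :: suffixes L

/-- A general point making finitely many translates lie in the cell, after a covering. -/
theorem exists_generic (hl : PosList D (-φ) l) (hl' : PosList D φ l') (hreg : ∀ a, φ (D.P.root a) ≠ 0)
    (X : Over S) (L : List (X ⟶ G)) :
    ∃ (X' : Over S) (π : X' ⟶ X) (w : X' ⟶ CellSrc D n m), Epi π ∧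
      ∀ g ∈ L, ∃ z : X' ⟶ CellSrc D n m,
        z ≫ RedSub.cellMap D l l' = (π ≫ g) * (w ≫ RedSub.cellMap D l l') := by
  haveI : IsAffineHom G.hom := isAffineHom_of_split D
  haveI := isOpenImmersion_cell hl hl' hreg
  haveI : Smooth G.hom := D.reductive.2.1
  let cm := RedSub.cellMap D l l'
  haveI : Smooth (CellSrc D n m).hom := by rw [← Over.w cm]; infer_instance
  let P : Over S := X ⊗ CellSrc D n m
  let mv : (X ⟶ G) → (P ⟶ G) := fun g => (fst _ _ ≫ g) * (snd _ _ ≫ cm)
  obtain ⟨V, hV, hV'⟩ : ∃ V : P.left.Opens, (∀ z ∈ V, ∀ g ∈ L, (mv g).left z ∈ cm.left.opensRange) ∧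
      ∀ z, (∀ g ∈ L, (mv g).left z ∈ cm.left.opensRange) → z ∈ V := by
    induction L with
    | nil => exact ⟨⊤, by simp, fun _ _ => trivial⟩
    | cons g L ih =>
      obtain ⟨V, h1, h2⟩ := ih
      refine ⟨(mv g).left ⁻¹ᵁ cm.left.opensRange ⊓ V, fun z hz g' hg' => ?_, fun z hz =>
        ⟨hz g (List.mem_cons_self ..), h2 z fun g' hg' => hz g' (List.mem_cons_of_mem _ hg')⟩⟩
      rcases List.mem_cons.mp hg' with rfl | h
      · exact hz.1
      · exact h1 z hz.2 g' h
  let X' : Over S := Over.mk (V.ι ≫ P.hom)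
  let inc : X' ⟶ P := Over.homMk V.ι rfl
  let π : X' ⟶ X := inc ≫ fst _ _
  refine ⟨X', π, inc ≫ snd _ _, ?_, fun g hg => ?_⟩
  · haveI : Flat (fst X (CellSrc D n m)).left := inferInstanceAs (Flat (pullback.fst X.hom (CellSrc D n m).hom))
    haveI : LocallyOfFinitePresentation (fst X (CellSrc D n m)).left :=
      inferInstanceAs (LocallyOfFinitePresentation (pullback.fst X.hom (CellSrc D n m).hom))
    haveI : Flat π.left := inferInstanceAs (Flat (V.ι ≫ (fst X (CellSrc D n m)).left))
    haveI : LocallyOfFinitePresentation π.left :=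
      inferInstanceAs (LocallyOfFinitePresentation (V.ι ≫ (fst X (CellSrc D n m)).left))
    haveI : Surjective π.left := ⟨fun p => by
      obtain ⟨K, _, _, β, q, rfl⟩ := exists_geom_point p
      let bK : Spec (CommRingCat.of K) ⟶ S := Spec.map (CommRingCat.ofHom (algebraMap K K)) ≫ β
      have hone : (1 : tb β K ⟶ G).left (IsLocalRing.closedPoint K) ∈ cm.left.opensRange := by
        rw [← cellMap_one D l l' β]
        exact ⟨_, rfl⟩
      obtain ⟨h, hh⟩ := exists_point_mem_all D.reductive bK cm.left.opensRange hone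
        (1 :: L.map (fun g => q ≫ g))
      have h0 := hh 1 (List.mem_cons_self ..)
      rw [_root_.one_mul] at h0
      have hr : Set.range h.left ⊆ Set.range cm.left := by
        rintro _ ⟨z, rfl⟩
        obtain rfl : z = IsLocalRing.closedPoint K := Subsingleton.elim (α := Spec (CommRingCat.of K)) _ _
        exact h0
      let w : tb β K ⟶ CellSrc D n m :=
        Over.homMk (IsOpenImmersion.lift cm.left h.left hr) (by rw [← Over.w cm, IsOpenImmersion.lift_fac_assoc, Over.w])
      have hw : w ≫ cm = h := Over.OverMorphism.ext (IsOpenImmersion.lift_fac _ _ _)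
      have hz : (lift q w).left (IsLocalRing.closedPoint K) ∈ V := hV' _ fun g hg => by
        show (lift q w ≫ mv g).left (IsLocalRing.closedPoint K) ∈ _
        rw [MonObj.comp_mul, ← Category.assoc, lift_fst, ← Category.assoc, lift_snd, hw]
        exact hh _ (List.mem_cons_of_mem _ (List.mem_map.mpr ⟨g, hg, rfl⟩))
      refine ⟨⟨_, hz⟩, ?_⟩
      show (lift q w ≫ fst _ _).left (IsLocalRing.closedPoint K) = _
      rw [lift_fst]⟩
    haveI := Flat.epi_of_flat_of_surjective π.left
    exact Over.epi_of_epi_left π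
  · have hr : Set.range (inc ≫ mv g).left ⊆ Set.range cm.left := by
      rintro _ ⟨z, rfl⟩
      exact hV z.1 z.2 g hg
    refine ⟨Over.homMk (IsOpenImmersion.lift cm.left (inc ≫ mv g).left hr)
      (by rw [← Over.w cm, IsOpenImmersion.lift_fac_assoc, Over.w]), ?_⟩
    rw [show (π ≫ g) * ((inc ≫ snd _ _) ≫ cm) = inc ≫ mv g by
      rw [MonObj.comp_mul, Category.assoc, Category.assoc]]
    exact Over.OverMorphism.ext (IsOpenImmersion.lift_fac _ _ _)

/-- A morphism multiplicative on the cell respects every relation between products of points of the cell. -/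
theorem prod_eq_of_mult (hl : PosList D (-φ) l) (hl' : PosList D φ l') (hreg : ∀ a, φ (D.P.root a) ≠ 0)
    (f : CellSrc D n m ⟶ H)
    (hf : ∀ (X : Over S) (x y z : X ⟶ CellSrc D n m),
      z ≫ RedSub.cellMap D l l' = (x ≫ RedSub.cellMap D l l') * (y ≫ RedSub.cellMap D l l') →
        z ≫ f = (x ≫ f) * (y ≫ f))
    {X : Over S} (xs ys : List (X ⟶ CellSrc D n m))
    (h : (xs.map (· ≫ RedSub.cellMap D l l')).prod = (ys.map (· ≫ RedSub.cellMap D l l')).prod) :
    (xs.map (· ≫ f)).prod = (ys.map (· ≫ f)).prod := by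
  let c := RedSub.cellMap D l l'
  obtain ⟨X', π, w, hπ, hw⟩ := exists_generic hl hl' hreg X
    (suffixes (xs.map (· ≫ c)) ++ suffixes (ys.map (· ≫ c)))
  have key : ∀ zs : List (X ⟶ CellSrc D n m),
      (∀ g ∈ suffixes (zs.map (· ≫ c)), ∃ z : X' ⟶ CellSrc D n m, z ≫ c = (π ≫ g) * (w ≫ c)) →
      ∃ z : X' ⟶ CellSrc D n m, z ≫ c = (π ≫ (zs.map (· ≫ c)).prod) * (w ≫ c) ∧
        z ≫ f = (π ≫ (zs.map (· ≫ f)).prod) * (w ≫ f) := by
    intro zs hzs
    induction zs with
    | nil => exact ⟨w, by simp [MonObj.comp_one], by simp [MonObj.comp_one]⟩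
    | cons a zs ih =>
      obtain ⟨z', hz', hzf'⟩ := ih fun g hg => hzs g (List.mem_cons_of_mem _ hg)
      obtain ⟨z, hz⟩ := hzs ((a :: zs).map (· ≫ c)).prod (List.mem_cons_self ..)
      refine ⟨z, hz, ?_⟩
      rw [hf X' (π ≫ a) z' z (by
        rw [hz, List.map_cons, List.prod_cons, MonObj.comp_mul, _root_.mul_assoc, ← hz', Category.assoc]),
        hzf', List.map_cons, List.prod_cons, MonObj.comp_mul, _root_.mul_assoc, Category.assoc]
  obtain ⟨z, hz, hzf⟩ := key xs fun g hg => hw g (List.mem_append_left _ hg)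
  obtain ⟨z', hz', hzf'⟩ := key ys fun g hg => hw g (List.mem_append_right _ hg)
  haveI : IsAffineHom G.hom := isAffineHom_of_split D
  have e : z = z' := by
    haveI := mono_cellMap (D := D) hl hl'
    exact (cancel_mono c).mp (by rw [hz, hz', h])
  rw [e, hzf'] at hzf
  exact ((cancel_epi π).mp (mul_right_cancel hzf)).symm

/-- A morphism multiplicative on the cell extends uniquely to the group. -/
theorem existsUnique_extension (hl : PosList D (-φ) l) (hl' : PosList D φ l') (hreg : ∀ a, φ (D.P.root a) ≠ 0)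
    (f : CellSrc D n m ⟶ H)
    (hf : ∀ (X : Over S) (x y z : X ⟶ CellSrc D n m),
      z ≫ RedSub.cellMap D l l' = (x ≫ RedSub.cellMap D l l') * (y ≫ RedSub.cellMap D l l') →
        z ≫ f = (x ≫ f) * (y ≫ f)) :
    ∃! g : G ⟶ H, IsMonHom g ∧ RedSub.cellMap D l l' ≫ g = f := by
  haveI : IsAffineHom G.hom := isAffineHom_of_split D
  haveI := isOpenImmersion_cell hl hl' hreg
  haveI : Smooth G.hom := D.reductive.2.1
  let c := RedSub.cellMap D l l'
  let M : (CellSrc D n m) ⊗ (CellSrc D n m) ⟶ G := (fst _ _ ≫ c) * (snd _ _ ≫ c)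
  let F : (CellSrc D n m) ⊗ (CellSrc D n m) ⟶ H := (fst _ _ ≫ f) * (snd _ _ ≫ f)
  have hM : M = (c ⊗ₘ c) ≫ μ[G] := by
    simp only [M]
    rw [Hom.mul_def, lift_fst_comp_snd_comp]
  haveI : Flat M.left := by
    haveI : Flat μ[G].left := by
      rw [GrpSchLib.mul_eq_id_whiskerRight]
      exact GrpSchLib.flat_whiskerRight_mul (𝟙 G)
    haveI : IsOpenImmersion (c ⊗ₘ c).left := by
      have e : (c ⊗ₘ c).left = pullback.map (CellSrc D n m).hom (CellSrc D n m).hom G.hom G.hom c.left c.left (𝟙 _) (by simp) (by simp) := by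
        apply pullback.hom_ext
        · rw [pullback.lift_fst]
          exact congrArg (fun r : _ ⟶ G => r.left) (tensorHom_fst c c)
        · rw [pullback.lift_snd]
          exact congrArg (fun r : _ ⟶ G => r.left) (tensorHom_snd c c)
      rw [e]
      infer_instance
    rw [hM]
    show Flat ((c ⊗ₘ c).left ≫ μ[G].left)
    infer_instance
  haveI : Surjective M.left := ⟨fun x => by
    obtain ⟨K, _, _, β, q, rfl⟩ := exists_geom_point x
    obtain ⟨p, p', hpq⟩ := exists_mul_cell hl hl' hreg q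
    refine ⟨(lift p p').left (IsLocalRing.closedPoint K), ?_⟩
    have e : lift p p' ≫ M = q := by
      rw [MonObj.comp_mul, ← Category.assoc, lift_fst, ← Category.assoc, lift_snd, ← hpq]
    show (lift p p' ≫ M).left _ = _
    rw [e]⟩
  haveI : IsAffineHom (CellSrc D n m).hom := inferInstance
  haveI : QuasiCompact M.left := by
    haveI : IsAffineHom (pullback.fst (CellSrc D n m).hom (CellSrc D n m).hom) :=
      isAffineHom_isStableUnderBaseChange.of_isPullback (IsPullback.of_hasPullback _ _).flip ‹IsAffineHom (CellSrc D n m).hom›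
    haveI : IsAffineHom ((CellSrc D n m) ⊗ (CellSrc D n m)).hom :=
      inferInstanceAs (IsAffineHom (pullback.fst (CellSrc D n m).hom (CellSrc D n m).hom ≫ (CellSrc D n m).hom))
    haveI : QuasiCompact (M.left ≫ G.hom) := by rw [Over.w M]; infer_instance
    exact QuasiCompact.of_comp M.left G.hom
  let g₀ : G.left ⟶ H.left := EffectiveEpi.desc M.left F.left fun {Z} g₁ g₂ hg => by
    let X : Over S := Over.mk (g₁ ≫ ((CellSrc D n m) ⊗ (CellSrc D n m)).hom)
    let p₁ : X ⟶ (CellSrc D n m) ⊗ (CellSrc D n m) := Over.homMk g₁ rfl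
    let p₂ : X ⟶ (CellSrc D n m) ⊗ (CellSrc D n m) := Over.homMk g₂ (by
      show g₂ ≫ ((CellSrc D n m) ⊗ (CellSrc D n m)).hom = g₁ ≫ ((CellSrc D n m) ⊗ (CellSrc D n m)).hom
      rw [← Over.w M, ← Category.assoc, ← hg, Category.assoc])
    have hp : p₁ ≫ M = p₂ ≫ M := Over.OverMorphism.ext hg
    have := prod_eq_of_mult hl hl' hreg f hf [p₁ ≫ fst _ _, p₁ ≫ snd _ _] [p₂ ≫ fst _ _, p₂ ≫ snd _ _] (by
      simp only [List.map_cons, List.map_nil, List.prod_cons, List.prod_nil, _root_.mul_one, Category.assoc,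
        ← MonObj.comp_mul]
      exact hp)
    simp only [List.map_cons, List.map_nil, List.prod_cons, List.prod_nil, _root_.mul_one, Category.assoc,
      ← MonObj.comp_mul] at this
    exact congrArg CommaMorphism.left this
  have hfac : M.left ≫ g₀ = F.left := EffectiveEpi.fac _ _ _
  haveI : Epi M.left := inferInstance
  let g : G ⟶ H := Over.homMk g₀ (by rw [← cancel_epi M.left, ← Category.assoc, hfac, Over.w, Over.w])
  have hg : M ≫ g = F := Over.OverMorphism.ext hfac
  -- the value of the extension at any product of points of the cell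
  have key : ∀ {Y : Over S} (zs : List (Y ⟶ (CellSrc D n m))), (zs.map (· ≫ c)).prod ≫ g = (zs.map (· ≫ f)).prod := by
    intro Y zs
    let p : Y ⟶ G := (zs.map (· ≫ c)).prod
    let Y' : Over S := Over.mk (pullback.fst p.left M.left ≫ Y.hom)
    let ρ : Y' ⟶ Y := Over.homMk (pullback.fst p.left M.left) rfl
    let r : Y' ⟶ (CellSrc D n m) ⊗ (CellSrc D n m) := Over.homMk (pullback.snd p.left M.left) (by
      show pullback.snd p.left M.left ≫ ((CellSrc D n m) ⊗ (CellSrc D n m)).hom = pullback.fst p.left M.left ≫ Y.hom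
      rw [← Over.w M, ← Over.w p, ← Category.assoc, ← pullback.condition, Category.assoc])
    haveI : Flat ρ.left := inferInstanceAs (Flat (pullback.fst p.left M.left))
    haveI : Surjective ρ.left := inferInstanceAs (Surjective (pullback.fst p.left M.left))
    haveI := Flat.epi_of_flat_of_surjective ρ.left
    haveI : Epi ρ := Over.epi_of_epi_left ρ
    have hr : ρ ≫ p = r ≫ M := Over.OverMorphism.ext pullback.condition
    rw [← cancel_epi ρ, ← Category.assoc, show ρ ≫ (zs.map (· ≫ c)).prod = r ≫ M from hr, Category.assoc, hg,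
      show r ≫ F = ([r ≫ fst _ _, r ≫ snd _ _].map (· ≫ f)).prod by simp [F, MonObj.comp_mul]]
    have hlist : ∀ {K : Over S} [GrpObj K] (v : (CellSrc D n m) ⟶ K) (zs : List (Y ⟶ (CellSrc D n m))),
        ρ ≫ (zs.map (· ≫ v)).prod = ((zs.map (ρ ≫ ·)).map (· ≫ v)).prod := by
      intro K _ v zs
      induction zs with
      | nil => simp [MonObj.comp_one]
      | cons a zs ih => simp only [List.map_cons, List.prod_cons, MonObj.comp_mul, ih, Category.assoc]
    rw [hlist f zs]
    refine prod_eq_of_mult hl hl' hreg f hf _ _ ?_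
    rw [← hlist c zs, show ρ ≫ (zs.map (· ≫ c)).prod = r ≫ M from hr]
    simp [M, MonObj.comp_mul]
    rfl
  have hcg : c ≫ g = f := by simpa using key [𝟙 (CellSrc D n m)]
  have hmul : μ[G] ≫ g = (g ⊗ₘ g) ≫ μ[H] := by
    rw [show (g ⊗ₘ g) ≫ μ[H] = (fst G G ≫ g) * (snd G G ≫ g) by rw [Hom.mul_def, lift_fst_comp_snd_comp],
      show μ[G] = fst G G * snd G G by rw [Hom.mul_def, lift_fst_snd, Category.id_comp]]
    haveI : Epi (M ⊗ₘ M) := by
      haveI : MorphismProperty.RespectsIso (@Flat : MorphismProperty Scheme.{u}) :=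
        MorphismProperty.IsStableUnderBaseChange.respectsIso
      haveI : MorphismProperty.IsStableUnderComposition (@Surjective : MorphismProperty Scheme.{u}) :=
        ⟨fun f g (_ : Surjective f) (_ : Surjective g) => inferInstanceAs (Surjective (f ≫ g))⟩
      haveI : Flat (M ⊗ₘ M).left := GrpSchLib.RankOne.property_tensorHom M M (@Flat : MorphismProperty Scheme.{u}) inferInstance inferInstance
      haveI : Surjective (M ⊗ₘ M).left := GrpSchLib.RankOne.property_tensorHom M M (@Surjective : MorphismProperty Scheme.{u}) inferInstance inferInstance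
      haveI := Flat.epi_of_flat_of_surjective (M ⊗ₘ M).left
      exact Over.epi_of_epi_left (M ⊗ₘ M)
    rw [← cancel_epi (M ⊗ₘ M), ← Category.assoc, MonObj.comp_mul, MonObj.comp_mul, tensorHom_fst, tensorHom_snd,
      tensorHom_fst_assoc, tensorHom_snd_assoc, hg]
    have h4 := key [fst ((CellSrc D n m) ⊗ (CellSrc D n m)) ((CellSrc D n m) ⊗ (CellSrc D n m)) ≫ fst (CellSrc D n m) (CellSrc D n m), fst ((CellSrc D n m) ⊗ (CellSrc D n m)) ((CellSrc D n m) ⊗ (CellSrc D n m)) ≫ snd (CellSrc D n m) (CellSrc D n m), snd ((CellSrc D n m) ⊗ (CellSrc D n m)) ((CellSrc D n m) ⊗ (CellSrc D n m)) ≫ fst (CellSrc D n m) (CellSrc D n m),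
      snd ((CellSrc D n m) ⊗ (CellSrc D n m)) ((CellSrc D n m) ⊗ (CellSrc D n m)) ≫ snd (CellSrc D n m) (CellSrc D n m)]
    simpa [M, F, MonObj.comp_mul, _root_.mul_assoc] using h4
  haveI : IsMonHom g :=
    { one_hom := by
        have h1 := key (Y := 𝟙_ (Over S)) []
        simp only [List.map_nil, List.prod_nil, Hom.one_def] at h1
        simpa using h1
      mul_hom := hmul }
  refine ⟨g, ⟨inferInstance, hcg⟩, fun g' hg' => ?_⟩
  haveI := hg'.1
  exact hom_eq_of_cell hl hl' hreg g' g (hg'.2.trans hcg.symm)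

end Groth.Agent.RedCell22
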