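import Groth.Agent.RedCell22.LocalPts
import Mathlib.RingTheory.AdjoinRoot

/-!
# Coroots take values in the subgroup generated by two opposite root groups
-/

set_option autoImplicit false
set_option linter.unusedSectionVars false
set_option linter.style.haveILetI false

universe u

open CategoryTheory CategoryTheory.Limits AlgebraicGeometry MonoidalCategory CartesianMonoidalCategory
open MonObj GrpObj

noncomputable section

namespace Groth.Agent.RedCell22

variable {S : Scheme.{u}} {G : Over S} [GrpObj G] [IsAffineHom G.hom] {D : Red.SplitRed G}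
variable {A : Type u} [CommRing A] {b : Spec (CommRingCat.of A) ⟶ S}

theorem tm_comp_injective {B C : Type u} [CommRing B] [Algebra A B] [CommRing C] [Algebra A C] {φ : B →ₐ[A] C}
    (hφ : Function.Injective φ) : Function.Injective fun g : tb b B ⟶ G => tm b φ ≫ g := fun g g' h => by
  refine ev_injective b (AlgHom.ext fun q => hφ ?_)
  simpa [ev_comp] using AlgHom.congr_fun (congrArg (ev b) h) q

/-- An injection into a ring where a given unit is a square. -/
theorem exists_sqrt (z : Aˣ) : ∃ (C : Type u) (_ : CommRing C) (_ : Algebra A C) (s : Cˣ),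
    Function.Injective (algebraMap A C) ∧ s * s = Units.map (algebraMap A C).toMonoidHom z := by
  rcases subsingleton_or_nontrivial A with h | h
  · exact ⟨A, inferInstance, inferInstance, 1, fun x y _ => Subsingleton.elim x y, Subsingleton.elim _ _⟩
  let P : Polynomial A := Polynomial.X ^ 2 - Polynomial.C (z : A)
  have hP : P.Monic := Polynomial.monic_X_pow_sub_C _ (by norm_num)
  let C := AdjoinRoot P
  have hr : AdjoinRoot.root P * AdjoinRoot.root P = algebraMap A C z := by
    have h : AdjoinRoot.mk P (Polynomial.X ^ 2 - Polynomial.C (z : A)) = 0 := AdjoinRoot.mk_self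
    simp only [map_sub, map_pow, AdjoinRoot.mk_X, AdjoinRoot.mk_C] at h
    rw [← pow_two]
    exact sub_eq_zero.mp h
  have hu : IsUnit (AdjoinRoot.root P) := by
    refine isUnit_of_mul_isUnit_left (y := AdjoinRoot.root P) ?_
    rw [hr]
    exact z.isUnit.map _
  exact ⟨C, inferInstance, inferInstance, hu.unit,
    (injective_iff_map_eq_zero _).mpr fun x hx => by_contra fun hx0 => hP.not_dvd_of_natDegree_lt
      (Polynomial.C_ne_zero.mpr hx0) (by rw [Polynomial.natDegree_C, Polynomial.natDegree_X_pow_sub_C]; norm_num)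
      (AdjoinRoot.mk_eq_zero.mp (by rw [AdjoinRoot.mk_C]; exact hx)),
    Units.ext hr⟩

/-- The value of a simple coroot is a product of elements of the two root groups. -/
theorem coroot_mem {H : Subgroup (tb b A ⟶ G)} (base : D.P.Base) {a : D.idx} (ha : a ∈ base.support)
    (hu : ∀ x : A, ua D a x ∈ H ∧ ua D (D.P.reflectionPerm a a) x ∈ H) (z : Aˣ) :
    (tG D (tpt D (coVal D (D.P.coroot a).toAddMonoidHom z)) : tb b A ⟶ G) ∈ H := by
  obtain ⟨nr, hn⟩ := D.refl a
  obtain ⟨y, t, x, h⟩ := exists_refl_decomp (b := b) base ha hn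
  let na := D.P.reflectionPerm a a
  let c : A := (chr D (D.P.root a) t : A)
  let c' : A := ((chr D (D.P.root a) t)⁻¹ : Aˣ)
  let E : tb b A ⟶ G := ua D na ((↑z⁻¹ : A) * y) * ua D a (c * ((z : A) * x)) * ua D na (c' * (1 - (↑z⁻¹ : A))) *
    ua D a (-(c * x)) * ua D na (-y)
  have hE : E ∈ H :=
    mul_mem (mul_mem (mul_mem (mul_mem (hu _).2 (hu _).1) (hu _).2) (hu _).1) (hu _).2
  suffices he : tG D (tpt D (coVal D (D.P.coroot a).toAddMonoidHom z)) = E from he ▸ hE
  obtain ⟨C, _, _, s, hinj, hs⟩ := exists_sqrt z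
  let φ : A →ₐ[A] C := Algebra.ofId A C
  refine tm_comp_injective (φ := φ) hinj ?_
  let cor : D.M →+ ℤ := (D.P.coroot a).toAddMonoidHom
  let χ : Multiplicative D.M →* Cˣ := coVal D cor s
  let N : tb b C ⟶ G := toUnit _ ≫ nr
  have hch : chr D (D.P.root a) (tpt D χ : tb b C ⟶ D.T) = Units.map φ.toMonoidHom z := by
    rw [chr_coVal, show cor (D.P.root a) = (2 : ℤ) from (coroot_root a a).trans (D.P.pairing_same a), zpow_two, hs]
    rfl
  have hna : D.P.root na = -D.P.root a := Groth.Agent.RootData.root_neg D.P a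
  have hchn : ∀ u : tb b C ⟶ D.T, chr D (D.P.root na) u = (chr D (D.P.root a) u)⁻¹ := fun u => by
    obtain ⟨ψ, rfl⟩ := tpt_surjective D u
    rw [chr_tpt, chr_tpt, hna, ofAdd_neg, map_inv]
  have hN : N = ua D na (φ y) * tG D (tm b φ ≫ t) * ua D a (φ x) * ua D na (-1 : C) := by
    have h' := congrArg (tm b φ ≫ ·) (eq_mul_inv_of_mul_eq h)
    simp only [tm_mul, tm_inv, toUnit_map, ua_map, map_one] at h'
    rw [ua_neg]
    exact h'
  let T' : tb b C ⟶ G := tG D (tm b φ ≫ t)
  let τ : tb b C ⟶ G := tG D (tpt D χ)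
  have hkey : τ * N * τ⁻¹ * N⁻¹ = tm b φ ≫ E := by
    have hz : ((Units.map φ.toMonoidHom z)⁻¹ : Cˣ) = Units.map φ.toMonoidHom z⁻¹ := (map_inv _ _).symm
    have h1 : ∀ v : C, τ * ua D na v * τ⁻¹ = ua D na ((φ (↑z⁻¹ : A)) * v) := fun v => by
      rw [conj_ua, hchn, hch, hz]
      rfl
    have h2 : ∀ v : C, τ * ua D a v * τ⁻¹ = ua D a (φ (z : A) * v) := fun v => by
      rw [conj_ua, hch]
      rfl
    have h3 : τ * T' * τ⁻¹ = T' := by
      simp only [τ, T', ← tG_mul, ← tG_inv]
      rw [torus_comm D, ← _root_.mul_assoc, inv_mul_cancel, _root_.one_mul]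
    have h4 : ∀ v : C, T' * ua D a v * T'⁻¹ = ua D a (φ c * v) := fun v => by
      rw [conj_ua, chr_map]
      rfl
    have h5 : ∀ v : C, T' * ua D na v * T'⁻¹ = ua D na (φ c' * v) := fun v => by
      rw [conj_ua, hchn, chr_map, ← map_inv]
      rfl
    calc τ * N * τ⁻¹ * N⁻¹
        = (τ * ua D na (φ y) * τ⁻¹) * (τ * T' * τ⁻¹) * (τ * ua D a (φ x) * τ⁻¹) *
            ((τ * ua D na (-1 : C) * τ⁻¹) * (ua D na (-1 : C))⁻¹) * (ua D a (φ x))⁻¹ * T'⁻¹ * (ua D na (φ y))⁻¹ := by
          rw [hN]; simp only [T']; group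
      _ = ua D na (φ (↑z⁻¹ : A) * φ y) * (T' * ua D a (φ (z : A) * φ x) * T'⁻¹) *
            (T' * (ua D na (φ (↑z⁻¹ : A) * -1) * (ua D na (-1 : C))⁻¹) * T'⁻¹) *
            (T' * (ua D a (φ x))⁻¹ * T'⁻¹) * (ua D na (φ y))⁻¹ := by
          rw [h1, h1, h2, h3]; group
      _ = _ := by
        rw [← ua_neg D na (-1 : C), ← ua_add, ← ua_neg D a, ← ua_neg D na, h4, h4, h5]
        simp only [E, tm_mul, ua_map, map_mul, map_sub, map_neg, map_one]
        rw [show φ (↑z⁻¹ : A) * -1 + - -1 = (1 : C) - φ (↑z⁻¹ : A) by ring,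
          show φ c * -φ x = -(φ c * φ x) by ring]
  have hcor : tm b φ ≫ tG D (tpt D (coVal D cor z)) = τ * N * τ⁻¹ * N⁻¹ := by
    have h1 : tm b φ ≫ tG D (tpt D (coVal D cor z)) =
        tG D (tpt D (χ * χ⁻¹.comp (AddMonoidHom.toMultiplicative (reflHom D a)))) := by
      show tm b φ ≫ (tpt D (coVal D cor z) ≫ D.i) = _
      rw [← Category.assoc, tpt_map]
      refine congrArg (fun q => tG D (tpt D q)) (MonoidHom.ext fun m => ?_)
      show Units.map φ.toMonoidHom (coVal D cor z (Multiplicative.ofAdd m.toAdd)) =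
        coVal D cor s (Multiplicative.ofAdd m.toAdd) * (coVal D cor s (Multiplicative.ofAdd (reflHom D a m.toAdd)))⁻¹
      rw [coVal_apply, coVal_apply, coVal_apply, map_zpow, ← zpow_neg, ← zpow_add, reflHom_apply, map_sub,
        map_zsmul, show cor (D.P.root a) = (2 : ℤ) from (coroot_root a a).trans (D.P.pairing_same a),
        show (Units.map φ.toMonoidHom z) = s * s from hs.symm, ← zpow_two, ← zpow_mul]
      congr 1
      show 2 * cor m.toAdd = cor m.toAdd + -(cor m.toAdd - cor m.toAdd • 2)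
      rw [smul_eq_mul]
      ring
    rw [h1, tpt_mul, tG_mul, ← IsReflPt.conj_tG (D := D) (n := nr) hn]
    show τ * (N * tG D (tpt D χ⁻¹) * N⁻¹) = _
    rw [show tpt D χ⁻¹ = (tpt D χ : tb b C ⟶ D.T)⁻¹ from map_inv (tHom D) χ, tG_inv]
    simp only [τ]
    group
  exact hcor.trans hkey

end Groth.Agent.RedCell22

namespace Groth.Agent.RedCell22

variable {S : Scheme.{u}} {G : Over S} [GrpObj G] [IsAffineHom G.hom] {D : Red.SplitRed G}
variable {A : Type u} [CommRing A] {b : Spec (CommRingCat.of A) ⟶ S}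

/-- When the coroots span, the torus is in the subgroup of the simple root groups. -/
theorem torus_mem {H : Subgroup (tb b A ⟶ G)} (base : D.P.Base)
    (hsc : Submodule.span ℤ (Set.range D.P.coroot) = ⊤)
    (hu : ∀ a ∈ base.support, ∀ x : A, ua D a x ∈ H ∧ ua D (D.P.reflectionPerm a a) x ∈ H) (t : tb b A ⟶ D.T) :
    tG D t ∈ H := by
  classical
  let K : Submodule ℤ (Module.Dual ℤ D.M) := AddSubgroup.toIntSubmodule
    { carrier := {f | ∀ z : Aˣ, (tG D (tpt D (coVal D f.toAddMonoidHom z)) : tb b A ⟶ G) ∈ H}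
      zero_mem' := fun z => by
        rw [show coVal D (0 : Module.Dual ℤ D.M).toAddMonoidHom z = 1 from MonoidHom.ext fun m => by
            simp [coVal, zpowersHom_apply], show tpt D (1 : Multiplicative D.M →* Aˣ) = 1 from map_one (tHom D), tG_one]
        exact one_mem H
      add_mem' := fun {f g} hf hg z => by
        rw [show coVal D (f + g).toAddMonoidHom z = coVal D f.toAddMonoidHom z * coVal D g.toAddMonoidHom z from
          MonoidHom.ext fun m => by simp [coVal, zpowersHom_apply, zpow_add], tpt_mul, tG_mul]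
        exact mul_mem (hf z) (hg z)
      neg_mem' := fun {f} hf z => by
        rw [show (-f).toAddMonoidHom = -(f.toAddMonoidHom) from rfl, coVal_neg]
        exact hf z⁻¹ }
  have hK : (⊤ : Submodule ℤ (Module.Dual ℤ D.M)) ≤ K := by
    rw [← hsc, ← base.span_int_coroot_support, Submodule.span_le]
    rintro _ ⟨a, ha, rfl⟩
    exact fun z => coroot_mem base ha (hu a ha) z
  obtain ⟨χ, rfl⟩ := tpt_surjective D t
  let bas := Module.Free.chooseBasis ℤ D.M
  let ψ := ∏ i, coVal D (bas.coord i).toAddMonoidHom (χ (Multiplicative.ofAdd (bas i)))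
  have hψ : χ = ψ := by
    let L : Additive (Multiplicative D.M) →+ Additive Aˣ := MonoidHom.toAdditive χ
    refine MonoidHom.toAdditiveRight.injective ?_
    refine AddMonoidHom.toIntLinearMap_injective (bas.ext fun i => ?_)
    show Additive.ofMul (χ (Multiplicative.ofAdd (bas i))) = Additive.ofMul (ψ (Multiplicative.ofAdd (bas i)))
    congr 1
    simp only [ψ, MonoidHom.finsetProd_apply, coVal_apply]
    rw [Finset.prod_eq_single i (fun j _ hj => by simp [hj.symm]) (fun h => absurd (Finset.mem_univ i) h)]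
    simp
  rw [hψ]
  show ψ ∈ H.comap ((tGHom D).comp (tHom D))
  exact prod_mem fun i _ => hK (Submodule.mem_top (x := bas.coord i)) _

end Groth.Agent.RedCell22
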