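import Groth.Agent.RedCell22.LeviOp
import Mathlib.FieldTheory.IsAlgClosed.AlgebraicClosure

/-!
# Structure constants at the top of a string
-/

set_option autoImplicit false
set_option linter.unusedSectionVars false
set_option linter.style.haveILetI false

universe u

open CategoryTheory CategoryTheory.Limits AlgebraicGeometry MonoidalCategory CartesianMonoidalCategory
open MonObj GrpObj

noncomputable section

namespace Groth.Agent.RedCell22

variable {S : Scheme.{u}} {G : Over S} [GrpObj G] [IsAffineHom G.hom] {D : Red.SplitRed G}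
variable {A : Type u} [CommRing A] {b : Spec (CommRingCat.of A) ⟶ S}

theorem Op.apply_single {K : Type u} [CommRing K] [Algebra A K] {p : ℕ} {E : Fin p → D.idx} {J : Fin p → ℤ}
    {g : tb b K ⟶ G} {M : Fin p → Fin p → K} (h : Op E J g M) (hE : RedSub.Enumerates (Set.range E) E)
    (m : Fin p) (w : K) : ∃ z : Fin p → K, (word D E z : tb b K ⟶ G) = g * ua D (E m) w * g⁻¹ ∧
      ∀ k, J k = 1 → z k = M k m * w := by
  obtain ⟨z, hz, hzk⟩ := h.2 (Pi.single m w)
  refine ⟨z, by rw [hz, word_single], fun k hk => ?_⟩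
  rw [hzk k hk, Finset.sum_eq_single m (fun l _ hl => by simp [hl]) (fun hm => absurd (Finset.mem_univ m) hm),
    Pi.single_eq_same]

theorem exists_pow_ne_one (K : Type u) [Field K] [Infinite K] {n : ℤ} (hn : n ≠ 0) : ∃ z : Kˣ, z ^ n ≠ 1 := by
  classical
  have hm : 0 < n.natAbs := Int.natAbs_pos.mpr hn
  obtain ⟨x, hx⟩ := ((Polynomial.X ^ n.natAbs - Polynomial.C (1 : K)).roots.toFinset ∪ {0}).exists_notMem
  simp only [Finset.mem_union, Multiset.mem_toFinset, Finset.mem_singleton, not_or, Polynomial.mem_roots',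
    Polynomial.IsRoot.def, Polynomial.eval_sub, Polynomial.eval_pow, Polynomial.eval_X, Polynomial.eval_C,
    sub_eq_zero, not_and] at hx
  refine ⟨Units.mk0 x hx.2, fun h => hx.1 (Polynomial.X_pow_sub_C_ne_zero hm 1) ?_⟩
  have h' : (Units.mk0 x hx.2) ^ n.natAbs = 1 := by
    generalize Units.mk0 x hx.2 = z at h ⊢
    rcases Int.natAbs_eq n with e | e <;> rw [e] at h <;> simpa [zpow_neg] using h
  simpa using congrArg Units.val h'

section Field

variable {K : Type u} [Field K] [IsAlgClosed K] [Algebra A K]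

/-- Over an algebraically closed field, structure constants at the top of a string do not vanish. -/
theorem top_ne_zero {a c : D.idx} (hred : ∀ r, r ≠ a → D.P.root r ≠ -D.P.root a → Indep D.P a r)
    (hind : Indep D.P a c) {k : ℕ} (hk : 0 < k) (hpair : D.P.pairing c a = -(k : ℤ))
    (hbot : ∀ (r : D.idx) (i : ℤ), i < 0 → D.P.root r ≠ i • D.P.root a + D.P.root c)
    {q : ℕ} {d : Fin q → D.idx} (hd : RedSub.Enumerates (commSet D a c) d) {C : Fin q → A}
    (hC : (word D d C : tb b A ⟶ G) = ua D a 1 * ua D c 1 * (ua D a 1)⁻¹ * (ua D c 1)⁻¹)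
    {l : Fin q} (hl : D.P.root (d l) = (k : ℤ) • D.P.root a + D.P.root c) :
    algebraMap A K (C l) ≠ 0 ∧ ∀ (q' : ℕ) (d' : Fin q' → D.idx) (C' : Fin q' → A) (l' : Fin q') (m : Fin q),
      RedSub.Enumerates (commSet D (D.P.reflectionPerm a a) (d l)) d' →
      (word D d' C' : tb b A ⟶ G) = ua D (D.P.reflectionPerm a a) 1 * ua D (d l) 1 *
        (ua D (D.P.reflectionPerm a a) 1)⁻¹ * (ua D (d l) 1)⁻¹ →
      D.P.root (d m) = ((k : ℤ) - 1) • D.P.root a + D.P.root c → d' l' = d m → 2 ≤ k →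
      algebraMap A K (C' l') ≠ 0 → algebraMap A K (C m) ≠ 0 := by
  classical
  set na := D.P.reflectionPerm a a with hna'
  have hna : D.P.root na = (-1 : ℤ) • D.P.root a := by
    rw [hna', D.P.root_reflectionPerm, D.P.reflection_apply_self, neg_one_smul]
  have hσ1 : D.P.root a = (1 : ℤ) • D.P.root a := (one_smul ℤ _).symm
  obtain ⟨p, E, hE⟩ := exists_enumerates (cone D a c upper)
  have hEr : RedSub.Enumerates (Set.range E) E := ⟨hE.1, rfl⟩
  choose I J hJ hIJ using fun i => ((Set.ext_iff.mp hE.2 (E i)).mp ⟨i, rfl⟩ : E i ∈ cone D a c upper)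
  have hΨ := isClosedSet_upper hind
  have hlev : ∀ (r : D.idx) (i : ℤ), D.P.root r = i • D.P.root a + D.P.root c →
      0 ≤ i ∧ i ≤ k ∧ ∃ j, E j = r ∧ I j = i ∧ J j = 1 := by
    intro r i hr
    have h0 : 0 ≤ i := not_lt.mp fun h => hbot r i h hr
    refine ⟨h0, ?_, ?_⟩
    · by_contra hlt
      refine hbot (D.P.reflectionPerm a r) ((k : ℤ) - i) (by omega) ?_
      rw [D.P.root_reflectionPerm, hr, map_add, map_zsmul, D.P.reflection_apply_self, D.P.reflection_apply_root, hpair,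
        smul_neg, neg_smul, sub_neg_eq_add, sub_smul]
      abel
    · obtain ⟨j, hj⟩ : r ∈ Set.range E := hE.2.symm ▸ ⟨i, 1, (zero_lt_one : (0:ℤ) < 1), by rw [hr, one_smul]⟩
      have := hind.eq (i := I j) (j := J j) (i' := i) (j' := 1) (by rw [← hIJ, hj, hr, one_smul])
      exact ⟨j, hj, this.1, this.2⟩
  have hrootE : ∀ j, J j = 1 → D.P.root (E j) = I j • D.P.root a + D.P.root c := fun j hj => by
    rw [hIJ j, hj, one_smul]
  have hIrange : ∀ j, J j = 1 → 0 ≤ I j ∧ I j ≤ k := fun j hj =>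
    ⟨(hlev _ _ (hrootE j hj)).1, (hlev _ _ (hrootE j hj)).2.1⟩
  have huniq : ∀ j j', J j = 1 → J j' = 1 → I j = I j' → j = j' := fun j j' h h' e =>
    hE.1 (D.P.root.injective (by rw [hrootE j h, hrootE j' h', e]))
  obtain ⟨-, -, jc, hjc, hIc, hJc⟩ := hlev c 0 (by rw [zero_smul, zero_add])
  obtain ⟨-, -, jt, hjt, hIt, hJt⟩ := hlev (d l) k hl
  obtain ⟨n, hn⟩ := D.refl a
  obtain ⟨f, hfa, hf⟩ := exists_form_ker (D := D) a hred
  let N : tb b K ⟶ G := toUnit _ ≫ n
  have hN : (lam D f).IsFixed N := IsReflPt.fixed hn hfa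
  -- the linear action of a point of the Levi subgroup
  have hop : ∀ g : tb b K ⟶ G, (lam D f).IsFixed g → ∃ (y₁ x : K) (t : tb b K ⟶ D.T)
      (M₁ M₂ M : Fin p → Fin p → K), Op E J g M ∧
      (∀ i, J i = 1 → M i jc = (chr D (D.P.root c) t : K) * ∑ m, M₁ i m * M₂ m jc) ∧
      (∀ i m, J i = 1 → (-1) * (I i - I m) < 0 → M₁ i m = 0) ∧ (∀ i, J i = 1 → M₁ i i = 1) ∧
      (∀ i, J i = 1 → J jc = 1 → M₂ i i = 1) ∧
      (∀ i m, J i = 1 → J m ≠ 1 → M₁ i m = 0) ∧
      (∀ i m, J i = 1 → 1 * (I i - I m) < 0 → M₂ i m = 0) ∧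
      (y₁ = 0 → ∀ i m, J i = 1 → M₁ i m = if i = m then 1 else 0) ∧
      (∀ (i m : Fin p) (q : ℕ) (d : Fin q → D.idx) (C : Fin q → A) (n : ℕ) (r : Fin q),
        J i = 1 → J m = 1 → RedSub.Enumerates (commSet D a (E m)) d →
        (word D d C : tb b A ⟶ G) = ua D a 1 * ua D (E m) 1 * (ua D a 1)⁻¹ * (ua D (E m) 1)⁻¹ →
        d r = E i → (n : ℤ) = 1 * (I i - I m) → 0 < n → M₂ i m = algebraMap A K (C r) * x ^ n) ∧
      ∀ (i m : Fin p) (q : ℕ) (d : Fin q → D.idx) (C : Fin q → A) (n : ℕ) (r : Fin q),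
        J i = 1 → J m = 1 → RedSub.Enumerates (commSet D na (E m)) d →
        (word D d C : tb b A ⟶ G) = ua D na 1 * ua D (E m) 1 * (ua D na 1)⁻¹ * (ua D (E m) 1)⁻¹ →
        d r = E i → (n : ℤ) = (-1) * (I i - I m) → 0 < n → M₁ i m = algebraMap A K (C r) * y₁ ^ n := by
    intro g hg
    obtain ⟨y₁, x, t, y₂, rfl⟩ := exists_levi a hred hfa hf hg
    obtain ⟨M₁, hM₁, hM₁0, hM₁1, hM₁C⟩ := exists_op_root (B := K) (b := b) hind hE hIJ (by norm_num : (-1 : ℤ) * -1 = 1) hna y₁
    obtain ⟨M₂, hM₂, hM₂0, hM₂1, hM₂C⟩ := exists_op_root (B := K) (b := b) hind hE hIJ (one_mul (1 : ℤ)) hσ1 x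
    obtain ⟨M₄, hM₄, hM₄0, hM₄1, -⟩ := exists_op_root (B := K) (b := b) hind hE hIJ (by norm_num : (-1 : ℤ) * -1 = 1) hna y₂
    refine ⟨y₁, x, t, M₁, M₂, _, ((hM₁.mul hM₂).mul (op_tG t)).mul hM₄, fun i hi => ?_, hM₁0, hM₁1,
      fun i hi _ => hM₂1 i hi, hM₁.1, hM₂0, fun hy i m hi => ?_, hM₂C, hM₁C⟩
    · have h4 : ∀ m, J m = 1 → M₄ m jc = if m = jc then 1 else 0 := fun m hm => by
        split_ifs with h
        · subst h; exact hM₄1 m hm
        · refine hM₄0 m jc hm ?_
          have := (hIrange m hm).1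
          have : I m ≠ I jc := fun e => h (huniq m jc hm hJc e)
          omega
      have hP : ∀ m, J m ≠ 1 → ∀ m', (∑ m₁, M₁ i m₁ * M₂ m₁ m') * (if m' = m then (chr D (D.P.root (E m')) t : K) else 0) = 0 := by
        intro m hm m'
        split_ifs with h
        · subst h
          rw [Finset.sum_eq_zero fun m₁ _ => ?_, zero_mul]
          by_cases h1 : J m₁ = 1
          · rw [hM₂.1 m₁ m' h1 hm, mul_zero]
          · rw [hM₁.1 i m₁ hi h1, zero_mul]
        · rw [mul_zero]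
      rw [Finset.sum_eq_single jc]
      · rw [h4 jc hJc, if_pos rfl, _root_.mul_one, Finset.sum_eq_single jc (fun m _ hm => by rw [if_neg hm, mul_zero])
          (fun h => absurd (Finset.mem_univ _) h), if_pos rfl, hjc, _root_.mul_comm]
      · intro m _ hm
        by_cases h1 : J m = 1
        · rw [h4 m h1, if_neg hm, mul_zero]
        · rw [Finset.sum_eq_zero fun m' _ => hP m h1 m', zero_mul]
      · exact fun h => absurd (Finset.mem_univ _) h
    · obtain ⟨z, hz, hzk⟩ := hM₁.apply_single hEr m 1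
      have he : z = Pi.single m 1 := word_injective_of_closed hΨ hE (by rw [hz, hy, ua_zero, word_single]; group)
      have := hzk i hi
      rw [he, _root_.mul_one] at this
      rw [← this, Pi.single_apply]
  obtain ⟨y₁, x, t, M₁, M₂, M, hM, hMc, hM₁0, hM₁1, hM₂1, hM₁J, hM₂0, hy0, hM₂C, hM₁C⟩ := hop N hN
  obtain ⟨P, hP, hPk⟩ := hM.apply_single hEr jc 1
  simp only [_root_.mul_one] at hPk
  -- only the reflected root occurs
  have hzero : ∀ i, J i = 1 → i ≠ jt → M i jc = 0 := by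
    intro i hi hit
    have hne : D.P.root (E i) - D.P.root (E jt) ≠ 0 := sub_ne_zero.mpr fun e => hit (hE.1 (D.P.root.injective e))
    let bb := Module.Free.chooseBasis ℤ D.M
    obtain ⟨j, hj⟩ : ∃ j, bb.coord j (D.P.root (E i) - D.P.root (E jt)) ≠ 0 := by
      by_contra hall
      push Not at hall
      exact hne (bb.ext_elem fun j => by simpa using hall j)
    let f₀ : D.M →+ ℤ := (bb.coord j).toAddMonoidHom
    obtain ⟨w, hw⟩ := exists_pow_ne_one K hj
    have h1 := IsReflPt.conj_tG (b := b) hn (coVal D f₀ w)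
    let χ' := (coVal D f₀ w).comp (AddMonoidHom.toMultiplicative (reflHom D a))
    have hss : χ'.comp (AddMonoidHom.toMultiplicative (reflHom D a)) = coVal D f₀ w := MonoidHom.ext fun m => by
      show coVal D f₀ w (Multiplicative.ofAdd (D.P.reflection a (D.P.reflection a (Multiplicative.toAdd m)))) = _
      rw [D.P.reflection_same, ofAdd_toAdd]
    have h2 := IsReflPt.conj_tG (b := b) hn χ'
    rw [hss] at h2
    have hT : (chr D (D.P.root c) (tpt D χ' : tb b K ⟶ D.T) : K) =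
        ((w ^ f₀ (D.P.root (E jt)) : Kˣ) : K) := by
      rw [chr_tpt]
      show ((coVal D f₀ w (Multiplicative.ofAdd (D.P.reflection a (D.P.root c))) : Kˣ) : K) = _
      rw [coVal_apply, hrootE jt hJt, hIt, D.P.reflection_apply_root, hpair, neg_smul, sub_neg_eq_add, add_comm]
    obtain ⟨P', hP', hPk'⟩ := hM.apply_single hEr jc ((w ^ f₀ (D.P.root (E jt)) : Kˣ) : K)
    have h3 : (word D E (fun r => (chr D (D.P.root (E r)) (tpt D (coVal D f₀ w) : tb b K ⟶ D.T) : K) * P r)
        : tb b K ⟶ G) = word D E P' := by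
      rw [← conj_word, hP, hP', hjc, show ((w ^ f₀ (D.P.root (E jt)) : Kˣ) : K) =
        ((w ^ f₀ (D.P.root (E jt)) : Kˣ) : K) * 1 from (_root_.mul_one _).symm, ← hT, ← conj_ua, ← h2]
      simp only [N]
      group
    have h4 := congrFun (word_injective_of_closed hΨ hE h3) i
    simp only [chr_coVal] at h4
    rw [hPk i hi, hPk' i hi] at h4
    by_contra hMi
    refine hw ?_
    have h5 : w ^ f₀ (D.P.root (E i)) = w ^ f₀ (D.P.root (E jt)) :=
      Units.ext (mul_right_cancel₀ hMi (h4.trans (_root_.mul_comm _ _)))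
    show w ^ f₀ (D.P.root (E i) - D.P.root (E jt)) = 1
    rw [map_sub, zpow_sub, h5, mul_inv_cancel]
  have htop : M jt jc ≠ 0 := by
    intro h0
    have hall : ∀ m, J m = 1 → P m = 0 := fun m hm => by
      rw [hPk m hm]
      rcases eq_or_ne m jt with rfl | h
      · exact h0
      · exact hzero m hm h
    obtain ⟨-, -, -, -, -, M', hM', -⟩ := hop N⁻¹ hN.inv
    obtain ⟨Q, hQ, hQk⟩ := hM'.2 P
    have hQe : Q = Pi.single jc 1 := word_injective_of_closed hΨ hE (by rw [hQ, hP, word_single]; group)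
    have h2 := hQk jc hJc
    rw [hQe, Pi.single_eq_same, Finset.sum_eq_zero fun m _ => ?_] at h2
    · exact one_ne_zero h2
    by_cases hm : J m = 1
    · rw [hall m hm, mul_zero]
    · rw [hM'.1 jc m hJc hm, zero_mul]
  have htopC : M₂ jt jc = algebraMap A K (C l) * x ^ k :=
    hM₂C jt jc q d C k l hJt hJc (hjc.symm ▸ hd) (hjc.symm ▸ hC) hjt.symm (by rw [hIt, hIc]; ring) hk
  have hMt : M jt jc = (chr D (D.P.root c) t : K) * (algebraMap A K (C l) * x ^ k) := by
    rw [hMc jt hJt, Finset.sum_eq_single jt, hM₁1 jt hJt, _root_.one_mul, htopC]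
    · intro m _ hm
      by_cases h1 : J m = 1
      · rw [hM₁0 jt m hJt, zero_mul]
        have := (hIrange m h1).2
        have : I m ≠ I jt := fun e => hm (huniq m jt h1 hJt e)
        omega
      · rw [hM₁J jt m hJt h1, zero_mul]
    · exact fun h => absurd (Finset.mem_univ _) h
  rw [hMt] at htop
  have hCl := left_ne_zero_of_mul (right_ne_zero_of_mul htop)
  refine ⟨hCl, fun q' d' C' l' m hd' hC' hm hl' hk2 hC'0 hCm => ?_⟩
  have hx : x ≠ 0 := fun h => right_ne_zero_of_mul (right_ne_zero_of_mul htop) (by rw [h, zero_pow hk.ne'])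
  have hy : y₁ ≠ 0 := fun h => by
    have hne : jc ≠ jt := fun e => by rw [e, hIt] at hIc; omega
    have := hzero jc hJc hne
    rw [hMc jc hJc, Finset.sum_eq_single jc (fun r _ hr => by rw [hy0 h jc r hJc, if_neg (Ne.symm hr), zero_mul])
      (fun h => absurd (Finset.mem_univ _) h), hM₁1 jc hJc, hM₂1 jc hJc hJc] at this
    simp at this
  obtain ⟨-, -, js, hjs, hIs, hJs⟩ := hlev (d m) ((k : ℤ) - 1) hm
  have hst : js ≠ jt := fun e => by rw [e, hIt] at hIs; omega
  have h0 := hzero js hJs hst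
  have hDy : M₁ js jt = algebraMap A K (C' l') * y₁ ^ 1 :=
    hM₁C js jt q' d' C' 1 l' hJs hJt (hjt.symm ▸ hd') (hjt.symm ▸ hC') (hl'.trans hjs.symm) (by rw [hIt, hIs]; ring) one_pos
  have hsC : M₂ js jc = algebraMap A K (C m) * x ^ (k - 1) :=
    hM₂C js jc q d C (k - 1) m hJs hJc (hjc.symm ▸ hd) (hjc.symm ▸ hC) hjs.symm
      (by rw [hIs, hIc, Nat.cast_sub (by omega : 1 ≤ k), Nat.cast_one]; ring) (by omega)
  rw [hMc js hJs, Finset.sum_eq_add js jt hst (fun r _ hr => ?_) (fun h => absurd (Finset.mem_univ _) h)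
    (fun h => absurd (Finset.mem_univ _) h), hM₁1 js hJs, hsC, hCm, hDy, htopC] at h0
  · simp [hC'0, hy, hCl, hx] at h0
  by_cases h1 : J r = 1
  · rw [hM₁0 js r hJs, zero_mul]
    have := (hIrange r h1).2
    have : I r ≠ I jt := fun e => hr.2 (huniq r jt h1 hJt e)
    have : I r ≠ I js := fun e => hr.1 (huniq r js h1 hJs e)
    omega
  · rw [hM₁J js r hJs h1, zero_mul]

end Field

theorem isUnit_of_forall_algClosed {x : A}
    (h : ∀ (K : Type u) [Field K] [IsAlgClosed K] [Algebra A K], algebraMap A K x ≠ 0) : IsUnit x := by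
  by_contra hx
  obtain ⟨m, hm, hxm⟩ := exists_max_ideal_of_mem_nonunits hx
  haveI := hm
  letI : Field (A ⧸ m) := Ideal.Quotient.field m
  refine h (AlgebraicClosure (A ⧸ m)) ?_
  rw [IsScalarTower.algebraMap_apply A (A ⧸ m) (AlgebraicClosure (A ⧸ m)), Ideal.Quotient.algebraMap_eq,
    Ideal.Quotient.eq_zero_iff_mem.mpr hxm, map_zero]

/-- The structure constant at the reflected root is a unit. -/
theorem isUnit_comm_top {a c : D.idx} (hred : ∀ r, r ≠ a → D.P.root r ≠ -D.P.root a → Indep D.P a r)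
    (hind : Indep D.P a c) {k : ℕ} (hk : 0 < k) (hpair : D.P.pairing c a = -(k : ℤ))
    (hbot : ∀ (r : D.idx) (i : ℤ), i < 0 → D.P.root r ≠ i • D.P.root a + D.P.root c)
    {q : ℕ} {d : Fin q → D.idx} (hd : RedSub.Enumerates (commSet D a c) d) {C : Fin q → A}
    (hC : (word D d C : tb b A ⟶ G) = ua D a 1 * ua D c 1 * (ua D a 1)⁻¹ * (ua D c 1)⁻¹)
    {l : Fin q} (hl : D.P.root (d l) = (k : ℤ) • D.P.root a + D.P.root c) : IsUnit (C l) :=
  isUnit_of_forall_algClosed fun _K _ _ _ => (top_ne_zero hred hind hk hpair hbot hd hC hl).1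

end Groth.Agent.RedCell22
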