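import Groth.Agent.RedCell22.Ideal

/-!
# The tails of the positive roots of an ordered character group
-/

set_option autoImplicit false
set_option linter.unusedSectionVars false
set_option linter.style.haveILetI false

universe u

open CategoryTheory CategoryTheory.Limits AlgebraicGeometry MonoidalCategory CartesianMonoidalCategory
open MonObj GrpObj

noncomputable section

namespace Groth.Agent.RedCell22

open Red23Lib.Pinned (tuple proj tuple_proj tuple_ext comp_tuple tuple_prodMap tuple_eta)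

variable {S : Scheme.{u}} {G : Over S} [GrpObj G] {D : Red.SplitRed G} {n m : ℕ}

/-- A point which locally is an ordered product of root group elements is one. -/
theorem exists_tuple_of_tests {d : Fin m → D.idx} [Mono (RedSub.prodMap (Red.Ga S) m fun k => D.u (d k))]
    {X : Over S} (g : X ⟶ G)
    (h : ∀ (A : Type u) [CommRing A] (b : Spec (CommRingCat.of A) ⟶ S) (φ : tb b A ⟶ X),
      ∃ y : Fin m → A, (word D d y : tb b A ⟶ G) = φ ≫ g) :
    ∃ z : Fin m → (X ⟶ Red.Ga S), (List.ofFn fun k => z k ≫ D.u (d k)).prod = g := by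
  obtain ⟨p, hp⟩ := exists_lift_of_tests (RedSub.prodMap (Red.Ga S) m fun k => D.u (d k)) g fun A _ b φ => by
    obtain ⟨y, hy⟩ := h A b φ
    exact ⟨powPt y, by rw [powPt_prodMap, hy]⟩
  exact ⟨fun k => p ≫ proj _ k, by rw [← tuple_prodMap, tuple_eta, hp]⟩

/-- The value at a test of an ordered product. -/
theorem comp_prod_ofFn {X : Over S} (d : Fin m → D.idx) (y : Fin m → (X ⟶ Red.Ga S)) {A : Type u} [CommRing A]
    {b : Spec (CommRingCat.of A) ⟶ S} (φ : tb b A ⟶ X) :
    φ ≫ (List.ofFn fun k => y k ≫ D.u (d k)).prod = word D d fun k => gs (Red.gaFn (φ ≫ y k)) := by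
  rw [← tuple_prodMap, ← Category.assoc, comp_tuple, ← powPt_prodMap]
  congr 1
  exact congrArg tuple (funext fun k => (gaPt_gaFn _).symm)

variable {N : ℕ} [LinearOrder D.M] [IsOrderedAddMonoid D.M] {e : Fin N → D.idx}

/-- The roots from a given place on. -/
def tailSet (e : Fin N → D.idx) (i : ℕ) : Set D.idx := {a | ∃ k : Fin N, i ≤ k ∧ e k = a}

theorem isClosedSet_tail (hrange : ∀ a : D.idx, a ∈ Set.range e ↔ 0 < D.P.root a)
    (hmono : StrictMono fun k => D.P.root (e k)) (i : ℕ) : IsClosedSet D.P (tailSet e i) := by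
  refine ⟨fun a c d ⟨k, hk, hka⟩ ⟨l, hl, hlc⟩ hsum => ?_, fun a c ⟨k, hk, hka⟩ hneg ⟨l, hl, hlc⟩ => ?_⟩
  · subst hka hlc
    have hk0 := (hrange _).mp ⟨k, rfl⟩
    have hl0 := (hrange _).mp ⟨l, rfl⟩
    have hgt : D.P.root (e k) < D.P.root d := by rw [← hsum]; exact lt_add_of_pos_right _ hl0
    obtain ⟨r, rfl⟩ := (hrange d).mpr (hk0.trans hgt)
    exact ⟨r, hk.trans (hmono.lt_iff_lt.mp hgt).le, rfl⟩
  · subst hka hlc
    have hk0 := (hrange _).mp ⟨k, rfl⟩
    have hl0 := (hrange _).mp ⟨l, rfl⟩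
    rw [hneg] at hl0
    exact lt_irrefl _ (hk0.trans (neg_pos.mp hl0))

theorem enumerates_tail (he : Function.Injective e) (i : ℕ) (h : i + m = N) :
    RedSub.Enumerates (tailSet e i) fun k : Fin m => e (Fin.cast h (Fin.natAdd i k)) := by
  refine ⟨fun a c hac => Fin.natAdd_injective _ _ (Fin.cast_injective _ (he hac)), Set.ext fun a => ⟨?_, ?_⟩⟩
  · rintro ⟨k, rfl⟩
    exact ⟨_, by simp, rfl⟩
  · rintro ⟨k, hk, rfl⟩
    refine ⟨⟨(k : ℕ) - i, by omega⟩, congrArg e (Fin.ext ?_)⟩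
    simp
    omega

theorem enumerates_zero (he : Function.Injective e) : RedSub.Enumerates (tailSet e 0) e :=
  ⟨he, Set.ext fun _ => ⟨fun ⟨k, hk⟩ => ⟨k, Nat.zero_le _, hk⟩, fun ⟨k, _, hk⟩ => ⟨k, hk⟩⟩⟩

open scoped Classical in
/-- A combination of positive roots involving one of a tail exceeds it, unless it is that root. -/
theorem tail_le_combination (hrange : ∀ a : D.idx, a ∈ Set.range e ↔ 0 < D.P.root a)
    (hmono : StrictMono fun k => D.P.root (e k)) {i : ℕ} {cf : D.idx → ℕ}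
    (hcf : Mixed (tailSet e 0) (tailSet e i) cf) :
    ∃ k : Fin N, i ≤ k ∧ cf (e k) ≠ 0 ∧ D.P.root (e k) ≤ ∑ a, cf a • D.P.root a ∧
      (D.P.root (e k) = ∑ a, cf a • D.P.root a → ∀ a, cf a = if a = e k then 1 else 0) := by
  classical
  obtain ⟨hpos, a₀, ⟨k, hk, rfl⟩, hne⟩ := hcf
  have hroot : ∀ a, cf a ≠ 0 → 0 < D.P.root a := fun a ha => by
    obtain ⟨l, -, rfl⟩ := hpos a ha
    exact (hrange _).mp ⟨l, rfl⟩
  have hnn : ∀ a, 0 ≤ cf a • D.P.root a := fun a => by
    rcases eq_or_ne (cf a) 0 with h0 | h0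
    · simp [h0]
    · exact nsmul_nonneg (hroot a h0).le _
  refine ⟨k, hk, hne, ?_, fun heq a => ?_⟩
  · refine le_trans ?_ (Finset.single_le_sum (f := fun a => cf a • D.P.root a) (fun a _ => hnn a)
      (Finset.mem_univ (e k)))
    calc D.P.root (e k) = 1 • D.P.root (e k) := (one_nsmul _).symm
      _ ≤ _ := nsmul_le_nsmul_left (hroot _ hne).le (Nat.one_le_iff_ne_zero.mpr hne)
  · rw [← Finset.add_sum_erase _ _ (Finset.mem_univ (e k))] at heq
    obtain ⟨j, hj⟩ : ∃ j, cf (e k) = j + 1 := ⟨cf (e k) - 1, by omega⟩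
    rw [hj, add_nsmul, one_nsmul, add_comm (j • _), add_assoc] at heq
    have hzero := left_eq_add.mp heq
    have hsum0 : 0 ≤ ∑ a ∈ Finset.univ.erase (e k), cf a • D.P.root a := Finset.sum_nonneg fun a _ => hnn a
    obtain ⟨h1, h2⟩ := (add_eq_zero_iff_of_nonneg (nsmul_nonneg (hroot _ hne).le _) hsum0).mp hzero
    have hj0 : j = 0 := by
      by_contra hj0
      exact (nsmul_pos (hroot _ hne) hj0).ne' h1
    split_ifs with ha
    · rw [ha, hj, hj0]
    · by_contra hca
      exact (nsmul_pos (hroot a hca) hca).ne'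
        ((Finset.sum_eq_zero_iff_of_nonneg fun a _ => hnn a).mp h2 a (Finset.mem_erase.mpr ⟨ha, Finset.mem_univ a⟩))

variable [IsAffineHom G.hom]

/-- Tails are stable under conjugation by all the positive root groups, fixing the first coordinate. -/
theorem exists_conj_tail (he : Function.Injective e) (hrange : ∀ a : D.idx, a ∈ Set.range e ↔ 0 < D.P.root a)
    (hmono : StrictMono fun k => D.P.root (e k)) (i : ℕ) (h : i + m = N) {A : Type u} [CommRing A]
    {b : Spec (CommRingCat.of A) ⟶ S} (x : Fin N → A) (y : Fin m → A) :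
    ∃ z : Fin m → A, (word D (fun k => e (Fin.cast h (Fin.natAdd i k))) z : tb b A ⟶ G) =
        word D e x * word D (fun k => e (Fin.cast h (Fin.natAdd i k))) y * (word D e x)⁻¹ ∧
      ∀ k : Fin m, (k : ℕ) = 0 → z k = y k := by
  classical
  have hsub : tailSet e i ⊆ tailSet e 0 := fun a ⟨k, _, hk⟩ => ⟨k, Nat.zero_le _, hk⟩
  obtain ⟨z, hz, hzk⟩ := exists_word_conj (b := b) (isClosedSet_tail hrange hmono 0) hsub (enumerates_zero he)
    (enumerates_tail he i h) (fun cf c hcf hsum => by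
      obtain ⟨k, hk, -, hle, -⟩ := tail_le_combination hrange hmono hcf
      rw [hsum] at hle
      obtain ⟨r, rfl⟩ := (hrange c).mpr (((hrange _).mp ⟨k, rfl⟩).trans_le hle)
      exact ⟨r, hk.trans (hmono.le_iff_le.mp hle), rfl⟩) x y
  refine ⟨z, hz, fun k hk => hzk k fun cf hcf hsum => ?_⟩
  obtain ⟨l, hl, -, hle, huniq⟩ := tail_le_combination hrange hmono hcf
  rw [hsum] at hle huniq
  have hle' := hmono.le_iff_le.mp hle
  have hl' : l = Fin.cast h (Fin.natAdd i k) := le_antisymm hle' (by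
    show ((Fin.cast h (Fin.natAdd i k) : Fin N) : ℕ) ≤ l
    simp [hk, hl])
  subst hl'
  exact huniq rfl

end Groth.Agent.RedCell22
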