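import Groth.Agent.RedCell22.BruhatWord

/-!
# The Bruhat decomposition over an algebraically closed field
-/

set_option autoImplicit false
set_option linter.unusedSectionVars false
set_option linter.style.haveILetI false

universe u

open CategoryTheory CategoryTheory.Limits AlgebraicGeometry MonoidalCategory CartesianMonoidalCategory
open MonObj GrpObj

noncomputable section

namespace Groth.Agent.RedCell22

variable {S : Scheme.{u}} {G : Over S} [GrpObj G] [IsAffineHom G.hom] {D : Red.SplitRed G}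
variable {A : Type u} [CommRing A] {b : Spec (CommRingCat.of A) ⟶ S}
variable {K : Type u} [Field K] [IsAlgClosed K] [Algebra A K]

/-- A set of points containing one and stable by the simple generators is everything. -/
theorem forall_mem_of_stable (base : D.P.Base) (Z : Set (tb b K ⟶ G)) (h1 : (1 : tb b K ⟶ G) ∈ Z)
    (hstab : ∀ s ∈ simpleSet D base b K, ∀ h ∈ Z, h * s ∈ Z) (g : tb b K ⟶ G) : g ∈ Z := by
  have hinv : ∀ s ∈ simpleSet D base b K, s⁻¹ ∈ simpleSet D base b K := by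
    rintro _ (⟨t, rfl⟩ | ⟨r, hr, x, rfl⟩)
    · exact Or.inl ⟨t⁻¹, tG_inv D t⟩
    · exact Or.inr ⟨r, hr, -x, (ua_neg D r x).symm⟩
  have key : ∀ g ∈ Subgroup.closure (simpleSet D base b K), ∀ h ∈ Z, h * g ∈ Z := fun g hg => by
    induction hg using Subgroup.closure_induction'' with
    | mem s hs => exact hstab s hs
    | inv_mem s hs => exact hstab _ (hinv s hs)
    | one => simp
    | mul x y _ _ hx hy => exact fun h hh => by rw [← _root_.mul_assoc]; exact hy _ (hx h hh)
  have := key g (closure_simpleSet (b := b) (K := K) base ▸ Subgroup.mem_top g) 1 h1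
  rwa [_root_.one_mul] at this

variable {nr : D.idx → (𝟙_ (Over S) ⟶ G)} {φ : D.M →+ ℤ}

/-- The Bruhat cells are stable by right translation, up to lengthening the word. -/
theorem inBruhat_mul_simple (base : D.P.Base) (hnr : RedSub.RealisesReflections D nr)
    (hφ : ∀ c ∈ base.support, 0 < φ (D.P.root c)) {a : D.idx} (ha : a ∈ base.support) {l : List D.idx}
    {g : tb b K ⟶ G} (hg : InBruhat nr φ l g) (y : K) :
    ∃ l', InBruhat nr φ l' (g * ua D (D.P.reflectionPerm a a) y) := by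
  obtain ⟨v, t, u, hv, hu, rfl⟩ := hg
  obtain ⟨f, wn, L, wp, hfa, hf, hp, hm, hwn, hwp, hL, he⟩ :=
    exists_simple_split (b := b) base ha hφ
      (g := tG D t * u) ⟨1, t, u, Cochar.hasLimOne_one _, hu, by rw [_root_.one_mul]⟩ y
  let na := D.P.reflectionPerm a a
  have hna : D.P.root na = -D.P.root a := Groth.Agent.RootData.root_neg D.P a
  have hlimu : (lam D f).HasLim u := by
    obtain ⟨q, lp, hlp⟩ := exists_posList D φ
    obtain ⟨x, rfl⟩ := exists_word hlp hu
    refine List.prod_induction (fun g => (lam D f).HasLim g) (fun _ _ h h' => h.mul _ h')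
      ((Cochar.hasLimOne_one (c := lam D f)).hasLim _) fun g hg => ?_
    obtain ⟨k, rfl⟩ := List.mem_ofFn.mp hg
    rcases lt_trichotomy (f (D.P.root (lp k))) 0 with h | h | h
    · exact absurd (hm _ h) (not_lt.mpr (hlp.pos D k).le)
    · exact (fixed_ua D h _).hasLim _
    · exact (hasLimOne_ua D h _).hasLim _
  have hfm : (lam D f).IsFixed (ua D na y : tb b K ⟶ G) := fixed_ua D (by rw [hna, map_neg, hfa, neg_zero]) y
  have hwn1 : wn = 1 := by
    refine eq_one_of_opposite D ?_ hwn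
    rw [show wn = (tG D t * u * ua D na y) * wp⁻¹ * L⁻¹ by rw [he]; group]
    exact ((((hasLim_tG D f t).mul _ hlimu).mul _ (hfm.hasLim _)).mul _ ((hwp.hasLim _).inv _)).mul _
      ((hL.hasLim _).inv _)
  rw [hwn1, _root_.one_mul] at he
  have hwpφ : (lam D φ).HasLimOne wp := by
    obtain ⟨q, lp, hlp⟩ := exists_posList D f
    obtain ⟨x, rfl⟩ := exists_word hlp hwp
    exact hasLimOne_word D (fun k => hp _ (hlp.pos D k)) x
  obtain ⟨R, hRp, hRm, hRT, hRN⟩ := exists_rank1 (b := b) (K := K) base a (hnr a)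
  let n := nWord nr l (tb b K)
  let N : tb b K ⟶ G := toUnit _ ≫ nr a
  have hg : v * n * tG D t * u * ua D na y = v * n * L * wp := by
    rw [show v * n * tG D t * u * ua D na y = v * n * (tG D t * u * ua D na y) by group, he]; group
  show ∃ l', InBruhat nr φ l' (v * n * tG D t * u * ua D na y)
  rw [hg]
  have hpos : ∀ z : K, (lam D φ).HasLimOne (ua D a z : tb b K ⟶ G) := fun z => hasLimOne_ua D (hφ a ha) z
  have hconjT : ∀ (s : tb b K ⟶ D.T) (z : K), (lam D φ).HasLimOne ((tG D s)⁻¹ * ua D a z * tG D s) := fun s z => by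
    simpa using (hpos z).conj_fixed (fixed_tG D φ s).inv
  have habs : ∀ (r : D.idx), φ (D.P.root (RedSub.wordPerm D.P l r)) < 0 → ∀ z : K,
      (lam D (-φ)).HasLimOne (v * (n * ua D r z * n⁻¹)) := fun r hr z => by
    obtain ⟨e, he'⟩ := exists_conj_nWord (A := A) (b := b) base hnr l r
    rw [he']
    exact hv.mul _ (hasLimOne_ua D (by rw [AddMonoidHom.neg_apply, neg_pos]; exact hr) _)
  rcases lt_or_gt_of_ne (mem_posRoots_iff D.P base hφ (RedSub.wordPerm D.P l a)).2.2 with hw | hw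
  · rcases levi_cases base hfa hf R hRp hRm hRT (g := N⁻¹ * L) ((hnr' hfa).inv.mul hL) with
      ⟨y', _, x', ht, hc⟩ | ⟨r, _, ht, hc⟩ <;>
      rw [hRT] at ht <;> obtain ⟨s, rfl⟩ := ht <;>
      rw [inv_mul_eq_iff_eq_mul] at hc <;> rw [hc, hRp] <;> (try rw [hRm]) <;> (try rw [hRN])
    · obtain ⟨e, hce⟩ := exists_conj_refl (A := A) (b := b) base (hnr a) na
      have h1 := hce K y'
      rw [D.P.reflectionPerm_self a a] at h1
      refine ⟨l ++ [a], v * (n * ua D a (algebraMap A K e * y') * n⁻¹), s, ua D a x' * wp, habs a hw _,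
        (hpos x').mul _ hwpφ, ?_⟩
      rw [nWord_concat, ← h1]
      show v * n * (N * (ua D na y' * tG D s * ua D a x')) * wp = _
      simp only [n, N, na, tGHom, MonoidHom.mk'_apply]
      group
    · obtain ⟨s', hs'⟩ : ∃ s', tG D s' = N * N := by
        have h2 := R.N_sq
        rw [hRT, hRN] at h2
        exact h2
      refine ⟨l, v, s' * s, (tG D s)⁻¹ * ua D a r * tG D s * wp, hv, (hconjT s r).mul _ hwpφ, ?_⟩
      rw [tG_mul]
      show v * n * (N * (N * ua D a r * tG D s)) * wp = _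
      rw [show N * (N * ua D a r * tG D s) = tG D s' * ua D a r * tG D s by rw [hs']; group]
      simp only [n]
      group
  · have hw' : φ (D.P.root (RedSub.wordPerm D.P l na)) < 0 := by
      rw [root_wordPerm, hna, map_neg, map_neg, neg_neg_iff_pos, ← root_wordPerm]
      exact hw
    rcases levi_cases base hfa hf R hRp hRm hRT hL with ⟨y', _, x', ht, hc⟩ | ⟨r, _, ht, hc⟩ <;>
      rw [hRT] at ht <;> obtain ⟨s, rfl⟩ := ht <;> rw [hc, hRp] <;> (try rw [hRm]) <;> (try rw [hRN])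
    · refine ⟨l, v * (n * ua D na y' * n⁻¹), s, ua D a x' * wp, habs na hw' _, (hpos x').mul _ hwpφ, ?_⟩
      simp only [n, na, tGHom, MonoidHom.mk'_apply]
      group
    · refine ⟨l ++ [a], v, s, (tG D s)⁻¹ * ua D a r * tG D s * wp, hv, (hconjT s r).mul _ hwpφ, ?_⟩
      rw [nWord_concat]
      simp only [n, N, tGHom, MonoidHom.mk'_apply]
      group
where
  hnr' {f : D.M →+ ℤ} (hfa : f (D.P.root a) = 0) : (lam D f).IsFixed (toUnit (tb b K) ≫ nr a) :=
    IsReflPt.fixed (D := D) (hnr a) hfa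

/-- Every point lies in a Bruhat cell. -/
theorem exists_inBruhat (base : D.P.Base) (hnr : RedSub.RealisesReflections D nr)
    (hφ : ∀ c ∈ base.support, 0 < φ (D.P.root c)) (g : tb b K ⟶ G) : ∃ l, InBruhat nr φ l g := by
  refine forall_mem_of_stable base {g | ∃ l, InBruhat nr φ l g}
    ⟨[], 1, 1, 1, Cochar.hasLimOne_one _, Cochar.hasLimOne_one _, by rw [nWord_nil, tG_one]; simp⟩ ?_ g
  rintro s hs h ⟨l, hh⟩
  rcases hs with ⟨t', rfl⟩ | ⟨r, hr | hr, x, rfl⟩
  · obtain ⟨v, t, u, hv, hu, rfl⟩ := hh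
    refine ⟨l, v, t * t', (tG D t')⁻¹ * u * tG D t', hv, ?_, by rw [tG_mul]; group⟩
    simpa using hu.conj_fixed (fixed_tG D φ t').inv
  · obtain ⟨v, t, u, hv, hu, rfl⟩ := hh
    exact ⟨l, v, t, u * ua D r x, hv, hu.mul _ (hasLimOne_ua D (hφ r hr) x), by group⟩
  · have hr' : D.P.reflectionPerm (D.P.reflectionPerm r r) (D.P.reflectionPerm r r) = r :=
      D.P.root.injective (by rw [Groth.Agent.RootData.root_neg, Groth.Agent.RootData.root_neg, neg_neg])
    have := inBruhat_mul_simple base hnr hφ hr hh x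
    rwa [hr'] at this

theorem cell_torus_unique {B : Type u} [CommRing B] [Algebra A B] {v v' u u' : tb b B ⟶ G} {t t' : tb b B ⟶ D.T}
    (hv : (lam D (-φ)).HasLimOne v) (hv' : (lam D (-φ)).HasLimOne v') (hu : (lam D φ).HasLimOne u)
    (hu' : (lam D φ).HasLimOne u') (h : v * tG D t * u = v' * tG D t' * u') : t = t' := by
  obtain ⟨m, lp, hlp⟩ := exists_posList D φ
  obtain ⟨n, ln, hln⟩ := exists_posList D (-φ)
  obtain ⟨y, rfl⟩ := exists_word hln hv
  obtain ⟨y', rfl⟩ := exists_word hln hv'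
  obtain ⟨x, rfl⟩ := exists_word hlp hu
  obtain ⟨x', rfl⟩ := exists_word hlp hu'
  exact (cellWord_injective hln hlp (by rwa [cellWord, cellWord, ← _root_.mul_assoc, ← _root_.mul_assoc])).2.1

/-- The Bruhat cells are disjoint. -/
theorem wordPerm_eq_of_inBruhat (base : D.P.Base) (hnr : RedSub.RealisesReflections D nr)
    (hφ : ∀ c ∈ base.support, 0 < φ (D.P.root c)) {B : Type u} [CommRing B] [Nontrivial B] [Algebra A B]
    {l l' : List D.idx} {g : tb b B ⟶ G} (h : InBruhat nr φ l g) (h' : InBruhat nr φ l' g) :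
    RedSub.wordPerm D.P l = RedSub.wordPerm D.P l' := by
  obtain ⟨v, t, u, hv, hu, rfl⟩ := h
  obtain ⟨v', t', u', hv', hu', he⟩ := h'
  obtain ⟨k, e, hee⟩ := exists_enumerates (RedSub.negMeetNeg D.P base (RedSub.wordPerm D.P l'))
  obtain ⟨y, u₁, hu₁, he₁⟩ := exists_split_neg base hnr hφ l' hee ((hv.inv _).mul _ hv')
  let n := nWord nr l (tb b B)
  let n' := nWord nr l' (tb b B)
  let v₀ := n'⁻¹ * word D e y * n'
  have hv₀ : (lam D (-φ)).HasLimOne v₀ := nWord_inv_conj_hasLimOne base hnr l' e (fun i => by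
    rw [AddMonoidHom.neg_apply, neg_pos]
    exact (mem_posRoots_iff D.P base hφ _).2.1.mp ((Set.ext_iff.mp hee.2 _).mp ⟨i, rfl⟩).2) y
  let t₀ := t' * t⁻¹
  let u₀ := (tG D t₀)⁻¹ * u₁ * tG D t₀ * (tG D t * (u' * u⁻¹) * (tG D t)⁻¹)
  have hu₀ : (lam D φ).HasLimOne u₀ := by
    refine Cochar.HasLimOne.mul _ ?_ ((hu'.mul _ (hu.inv _)).conj_fixed (fixed_tG D φ t))
    simpa using hu₁.conj_fixed (fixed_tG D φ t₀).inv
  have hξ : n'⁻¹ * n = v₀ * tG D t₀ * u₀ := by
    have h1 : n = (v⁻¹ * v') * n' * tG D t' * u' * u⁻¹ * (tG D t)⁻¹ := by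
      rw [show (v⁻¹ * v') * n' * tG D t' * u' * u⁻¹ * (tG D t)⁻¹ =
        v⁻¹ * (v' * n' * tG D t' * u') * u⁻¹ * (tG D t)⁻¹ by group, ← he]
      simp only [n]
      group
    rw [h1, he₁]
    simp only [v₀, u₀, t₀, n', tG_mul, tG_inv]
    group
  refine Equiv.ext fun r => D.P.root.injective ?_
  rw [root_wordPerm, root_wordPerm]
  by_contra hne
  obtain ⟨f, hf⟩ : ∃ f : D.M →+ ℤ, f (wordHom D l (D.P.root r)) ≠ f (wordHom D l' (D.P.root r)) := by
    by_contra hall
    push Not at hall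
    exact hne ((Module.Free.chooseBasis ℤ D.M).ext_elem fun i =>
      hall ((Module.Free.chooseBasis ℤ D.M).coord i).toAddMonoidHom)
  apply hf
  let χ : Multiplicative D.M →* (LaurentPolynomial B)ˣ := coVal D f (Tu B)
  let χ₁ := χ.comp (AddMonoidHom.toMultiplicative (wordHom D l))
  let χ₂ := χ.comp (AddMonoidHom.toMultiplicative (wordHom D l'))
  have hn := nWord_conj_tG (b := b) hnr l χ
  have hn' := nWord_conj_tG (b := b) hnr l' χ
  have hξ' := congrArg (tm b (CL : B →ₐ[A] LaurentPolynomial B) ≫ ·) hξ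
  simp only [n, n', tm_mul, tm_inv, nWord_map] at hξ'
  rw [show tm b (CL : B →ₐ[A] LaurentPolynomial B) ≫ tG D t₀ = tG D (tm b CL ≫ t₀) from
    (Category.assoc _ _ _).symm] at hξ'
  let V := tm b (CL : B →ₐ[A] LaurentPolynomial B) ≫ v₀
  let U := tm b (CL : B →ₐ[A] LaurentPolynomial B) ≫ u₀
  have hkey : tpt D χ₂ * (tm b CL ≫ t₀) = (tm b CL ≫ t₀) * tpt D χ₁ := by
    refine cell_torus_unique (v := tG D (tpt D χ₂) * V * (tG D (tpt D χ₂))⁻¹) (v' := V) (u := U)
      (u' := (tG D (tpt D χ₁))⁻¹ * U * tG D (tpt D χ₁))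
      ((hv₀.map _ _).conj_fixed (fixed_tG D (-φ) _)) (hv₀.map _ _) (hu₀.map _ _)
      (by simpa using (hu₀.map _ CL).conj_fixed (fixed_tG D φ (tpt D χ₁)).inv) ?_
    calc tG D (tpt D χ₂) * V * (tG D (tpt D χ₂))⁻¹ * tG D (tpt D χ₂ * (tm b CL ≫ t₀)) * U
        = tG D (tpt D χ₂) * (V * tG D (tm b CL ≫ t₀) * U) := by rw [tG_mul]; group
      _ = (V * tG D (tm b CL ≫ t₀) * U) * tG D (tpt D χ₁) := by
          rw [← hξ', ← hn, ← hn']; group
      _ = _ := by rw [tG_mul]; group
  rw [torus_comm D (tpt D χ₂)] at hkey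
  have h2 := congrArg (chr D (D.P.root r)) (mul_left_cancel hkey)
  rw [chr_tpt, chr_tpt] at h2
  have h3 : coVal D f (Tu B) (Multiplicative.ofAdd (wordHom D l' (D.P.root r))) =
      coVal D f (Tu B) (Multiplicative.ofAdd (wordHom D l (D.P.root r))) := h2
  rw [coVal_apply, coVal_apply, Units.ext_iff, Tu_zpow, Tu_zpow] at h3
  by_contra hij
  have h4 := congrArg (fun p => p.coeff (f (wordHom D l (D.P.root r)))) h3
  simp only [← LaurentPolynomial.single_eq_C_mul_T, LaurentPolynomial.T, AddMonoidAlgebra.coeff_single,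
    Finsupp.single_eq_same, Finsupp.single_eq_of_ne hij] at h4
  exact zero_ne_one h4

end Groth.Agent.RedCell22
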