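import Groth.Agent.RedCell22.BruhatMap

/-!
# A Bruhat cell is closed in a translate of the big cell
-/

set_option autoImplicit false
set_option linter.unusedSectionVars false
set_option linter.style.haveILetI false

universe u

open CategoryTheory CategoryTheory.Limits AlgebraicGeometry MonoidalCategory CartesianMonoidalCategory
open MonObj GrpObj

noncomputable section

namespace Groth.Agent.RedCell22

variable {S : Scheme.{u}} {G : Over S} [GrpObj G] [IsAffineHom G.hom] {D : Red.SplitRed G}

/-- Two enumerations of the same finite set have the same length. -/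
theorem length_eq_of_range {X : Type} {p q : ℕ} {e : Fin p → X} {e' : Fin q → X} (he : Function.Injective e)
    (he' : Function.Injective e') (h : Set.range e = Set.range e') : p = q := by
  simpa using Nat.card_congr ((Equiv.ofInjective e he).trans ((Equiv.setCongr h).trans (Equiv.ofInjective e' he').symm))

/-- Left translation by a section. -/
def leftTrans (w : 𝟙_ (Over S) ⟶ G) : G ≅ G where
  hom := (toUnit G ≫ w) * 𝟙 G
  inv := (toUnit G ≫ w)⁻¹ * 𝟙 G
  hom_inv_id := by
    rw [MonObj.comp_mul, GrpObj.comp_inv, ← Category.assoc, toUnit_unique (((toUnit G ≫ w) * 𝟙 G) ≫ toUnit G) (toUnit G),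
      Category.comp_id, inv_mul_cancel_left]
  inv_hom_id := by
    rw [MonObj.comp_mul, ← Category.assoc, toUnit_unique (((toUnit G ≫ w)⁻¹ * 𝟙 G) ≫ toUnit G) (toUnit G),
      Category.comp_id, mul_inv_cancel_left]

theorem comp_leftTrans {X : Over S} (f : X ⟶ G) (w : 𝟙_ (Over S) ⟶ G) :
    f ≫ (leftTrans w).hom = (toUnit X ≫ w) * f := by
  show f ≫ ((toUnit G ≫ w) * 𝟙 G) = _
  rw [comp_const_mul, Category.comp_id]

/-- The Bruhat map is an immersion whose image is closed in the translate of the cell. -/
theorem bruhat_immersion (base : D.P.Base) {φ : D.M →+ ℤ} (hφ : ∀ c ∈ base.support, 0 < φ (D.P.root c))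
    {nr : D.idx → (𝟙_ (Over S) ⟶ G)} (hnr : RedSub.RealisesReflections D nr) (l : List D.idx)
    {n m k : ℕ} {eneg : Fin n → D.idx} {epos : Fin m → D.idx}
    (hneg : RedSub.Enumerates (RedSub.negRoots D.P base) eneg) (hpos : RedSub.Enumerates (RedSub.posRoots D.P base) epos)
    {e : Fin k → D.idx} (he : RedSub.Enumerates (RedSub.negMeetNeg D.P base (RedSub.wordPerm D.P l)) e) :
    IsImmersion (RedSub.bruhatMap D nr l e epos).left ∧
      ∃ C : Set ↥G.left, IsClosed C ∧
        Set.range (RedSub.bruhatMap D nr l e epos).left.base =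
          Set.range ((toUnit _ ≫ (l.map nr).prod) * RedSub.cellMap D eneg epos).left.base ∩ C := by
  classical
  let w := RedSub.wordPerm D.P l
  let e₀ : Fin k → D.idx := fun i => w.symm (e i)
  obtain ⟨q, er, her⟩ := exists_enumerates (RedSub.negRoots D.P base \ Set.range e₀)
  have hmem : ∀ i, e₀ i ∈ RedSub.negRoots D.P base := fun i => ((Set.ext_iff.mp he.2 _).mp ⟨i, rfl⟩).2
  have hinj : Function.Injective (Fin.append e₀ er) := Fin.append_injective_iff.mpr
    ⟨w.symm.injective.comp he.1, her.1, fun i j h => ((Set.ext_iff.mp her.2 _).mp ⟨j, rfl⟩).2 ⟨i, h⟩⟩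
  have hrange : Set.range (Fin.append e₀ er) = RedSub.negRoots D.P base := by
    ext r
    constructor
    · rintro ⟨i, rfl⟩
      refine Fin.addCases (fun i => ?_) (fun i => ?_) i
      · rw [Fin.append_left]; exact hmem i
      · rw [Fin.append_right]; exact ((Set.ext_iff.mp her.2 _).mp ⟨i, rfl⟩).1
    · intro hr
      by_cases h : r ∈ Set.range e₀
      · obtain ⟨i, rfl⟩ := h
        exact ⟨Fin.castAdd q i, by simp⟩
      · obtain ⟨i, rfl⟩ := (Set.ext_iff.mp her.2 r).mpr ⟨hr, h⟩
        exact ⟨Fin.natAdd k i, by simp⟩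
  obtain rfl : k + q = n := length_eq_of_range hinj hneg.1 (hrange.trans hneg.2.symm)
  have hl := negList_of_enumerates base hφ hneg
  have hl' := posList_of_enumerates base hφ hpos
  have hl₁ := negList_of_enumerates base hφ (⟨hinj, hrange⟩ : RedSub.Enumerates _ (Fin.append e₀ er))
  have hreg : ∀ r, φ (D.P.root r) ≠ 0 := fun r => (mem_posRoots_iff D.P base hφ r).2.2
  haveI := isOpenImmersion_cell hl₁ hl' hreg
  let σ := leftTrans ((l.map nr).prod)
  haveI : IsIso σ.hom.left := (inferInstance : IsIso ((Over.forget S).map σ.hom))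
  let j := RedSub.cellMap D (Fin.append e₀ er) epos ≫ σ.hom
  haveI : IsOpenImmersion j.left := by
    show IsOpenImmersion (_ ≫ σ.hom.left)
    infer_instance
  haveI : Mono j := (Over.forget S).mono_of_mono_map (inferInstanceAs (Mono j.left))
  -- the coordinates of the representative moved to the left
  have hconj : ∀ (A : Type u) [CommRing A] (b : Spec (CommRingCat.of A) ⟶ S), ∃ c : Fin k → Aˣ, ∀ y : Fin k → A,
      (word D e y : tb b A ⟶ G) * nWord nr l (tb b A) =
        nWord nr l (tb b A) * word D (Fin.append e₀ er) (Fin.append (fun i => (c i : A) * y i) (fun _ => 0)) := by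
    intro A _ b
    choose c hc using fun i => exists_conj_nWord (A := A) (b := b) base hnr l (e₀ i)
    refine ⟨fun i => (c i)⁻¹, fun y => ?_⟩
    rw [word_append, word_zero, _root_.mul_one]
    let N := nWord nr l (tb b A)
    have h : N * word D e₀ (fun i => ((c i)⁻¹ : Aˣ) * y i) * N⁻¹ = word D e y := by
      refine (map_list_prod (MulAut.conj N).toMonoidHom _).trans ?_
      rw [List.map_ofFn]
      refine congrArg List.prod (congrArg List.ofFn (funext fun i => ?_))
      show N * _ * N⁻¹ = _
      rw [hc, Algebra.algebraMap_self, RingHom.id_apply, Units.mul_inv_cancel_left,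
        show RedSub.wordPerm D.P l (e₀ i) = e i from Equiv.apply_symm_apply _ _]
    rw [← h, inv_mul_cancel_right]
  have htest : ∀ (A : Type u) [CommRing A] (b : Spec (CommRingCat.of A) ⟶ S) (p : tb b A ⟶ CellSrc D k m),
      ∃ p' : tb b A ⟶ CellSrc D (k + q) m, p' ≫ j = p ≫ RedSub.bruhatMap D nr l e epos := by
    intro A _ b p
    obtain ⟨y, t, x, rfl⟩ := exists_cellPt D p
    obtain ⟨c, hc⟩ := hconj A b
    refine ⟨cellPt D (Fin.append (fun i => (c i : A) * y i) (fun _ => 0)) t x, ?_⟩
    rw [cellPt_bruhatMap, ← _root_.mul_assoc (word D e y), hc, _root_.mul_assoc]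
    show _ ≫ RedSub.cellMap D _ epos ≫ σ.hom = _
    rw [← Category.assoc, cellPt_cellMap, comp_leftTrans]
    rfl
  obtain ⟨emb, hemb⟩ := exists_lift_of_tests j (RedSub.bruhatMap D nr l e epos) htest
  -- forget the last coordinates
  let P : CellSrc D (k + q) m ⟶ CellSrc D k m :=
    lift (fst _ _ ≫ Red23Lib.Pinned.tuple fun i => Red23Lib.Pinned.proj (Red.Ga S) (Fin.castAdd q i)) (snd _ _)
  have hP : ∀ (A : Type u) [CommRing A] (b : Spec (CommRingCat.of A) ⟶ S) (y : Fin (k + q) → A) (t : tb b A ⟶ D.T)
      (x : Fin m → A), cellPt D y t x ≫ P = cellPt D (fun i => y (Fin.castAdd q i)) t x := by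
    intro A _ b y t x
    show _ = lift (powPt _) (lift t (powPt x))
    rw [comp_lift, cellPt, lift_snd, ← Category.assoc, lift_fst, Red23Lib.Pinned.comp_tuple]
    congr 1
    show Red23Lib.Pinned.tuple (fun i => powPt y ≫ _) = Red23Lib.Pinned.tuple _
    simp only [powPt, Red23Lib.Pinned.tuple_proj]
  have hσ : ∀ (A : Type u) [CommRing A] (b : Spec (CommRingCat.of A) ⟶ S), ∃ c : Fin k → Aˣ,
      ∀ (y : Fin k → A) (t : tb b A ⟶ D.T) (x : Fin m → A),
        cellPt D y t x ≫ emb ≫ P = cellPt D (fun i => (c i : A) * y i) t x := by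
    intro A _ b
    obtain ⟨c, hc⟩ := hconj A b
    refine ⟨c, fun y t x => ?_⟩
    have h : cellPt D y t x ≫ emb = cellPt D (Fin.append (fun i => (c i : A) * y i) (fun _ => 0)) t x := by
      rw [← cancel_mono j, Category.assoc, hemb, cellPt_bruhatMap, ← _root_.mul_assoc (word D e y), hc,
        _root_.mul_assoc]
      show _ = _ ≫ RedSub.cellMap D _ epos ≫ σ.hom
      rw [← Category.assoc, cellPt_cellMap, comp_leftTrans]
      rfl
    rw [← Category.assoc, h, hP]
    simp only [Fin.append_left]
  haveI : Mono (emb ≫ P) := mono_of_tests _ fun A _ b p p' h => by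
    obtain ⟨y, t, x, rfl⟩ := exists_cellPt D p
    obtain ⟨y', t', x', rfl⟩ := exists_cellPt D p'
    obtain ⟨c, hc⟩ := hσ A b
    rw [hc, hc] at h
    have h1 := congrArg (fun z => powCoord (z ≫ fst _ _)) h
    have h2 := congrArg (fun z => z ≫ snd _ _) h
    simp only [cellPt, lift_fst, lift_snd, powCoord_powPt] at h1 h2
    have hy : y = y' := funext fun i => (c i).isUnit.mul_left_cancel (congrFun h1 i)
    subst hy
    show lift (powPt y) _ = lift (powPt y) _
    rw [h2]
  obtain ⟨r, hr⟩ := exists_lift_of_tests (emb ≫ P) (𝟙 (CellSrc D k m)) fun A _ b p => by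
    obtain ⟨y, t, x, rfl⟩ := exists_cellPt D p
    obtain ⟨c, hc⟩ := hσ A b
    refine ⟨cellPt D (fun i => ((c i)⁻¹ : Aˣ) * y i) t x, ?_⟩
    rw [hc, Category.comp_id]
    simp only [Units.mul_inv_cancel_left]
  haveI : IsIso (emb ≫ P) := ⟨r, by rw [← cancel_mono (emb ≫ P), Category.assoc, hr, Category.comp_id, Category.id_comp], hr⟩
  haveI : IsIso (emb.left ≫ P.left) := (inferInstance : IsIso ((Over.forget S).map (emb ≫ P)))
  haveI : IsAffineHom (CellSrc D (k + q) m).hom := by
    haveI : IsAffineHom D.T.hom := inferInstance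
    infer_instance
  haveI : IsSeparated P.left := by
    haveI : IsSeparated (P.left ≫ (CellSrc D k m).hom) := by rw [Over.w P]; infer_instance
    exact IsSeparated.of_comp P.left (CellSrc D k m).hom
  haveI : IsClosedImmersion emb.left := IsClosedImmersion.of_comp emb.left P.left
  have hbr : (RedSub.bruhatMap D nr l e epos).left = emb.left ≫ j.left := by rw [← hemb]; rfl
  refine ⟨by rw [hbr]; infer_instance, closure (Set.range (RedSub.bruhatMap D nr l e epos).left.base), isClosed_closure, ?_⟩
  have hrj : Set.range ((toUnit _ ≫ (l.map nr).prod) * RedSub.cellMap D eneg epos).left.base = Set.range j.left.base := by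
    rw [← comp_leftTrans]
    show Set.range ((RedSub.cellMap D eneg epos).left ≫ σ.hom.left).base =
      Set.range ((RedSub.cellMap D (Fin.append e₀ er) epos).left ≫ σ.hom.left).base
    rw [Scheme.Hom.comp_base, Scheme.Hom.comp_base, TopCat.coe_comp, TopCat.coe_comp, Set.range_comp,
      Set.range_comp, range_cell_eq hl₁ hl' hl hl']
  rw [hrj, hbr, Scheme.Hom.comp_base, TopCat.coe_comp, Set.range_comp]
  refine Set.Subset.antisymm (fun z hz => ⟨Set.image_subset_range _ _ hz, subset_closure hz⟩) ?_
  rintro _ ⟨⟨z, rfl⟩, hz⟩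
  refine ⟨z, ?_, rfl⟩
  rw [← emb.left.isClosedEmbedding.isClosed_range.closure_eq,
    j.left.isOpenEmbedding.isInducing.closure_eq_preimage_closure_image]
  exact hz

end Groth.Agent.RedCell22
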