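import Groth.Agent.RedCell22.BruhatField

/-!
# The Bruhat cell maps
-/

set_option autoImplicit false
set_option linter.unusedSectionVars false
set_option linter.style.haveILetI false

universe u

open CategoryTheory CategoryTheory.Limits AlgebraicGeometry MonoidalCategory CartesianMonoidalCategory
open MonObj GrpObj

noncomputable section

namespace Groth.Agent.RedCell22

variable {S : Scheme.{u}} {G : Over S} [GrpObj G] [IsAffineHom G.hom] {D : Red.SplitRed G}
variable {A : Type u} [CommRing A] {b : Spec (CommRingCat.of A) ⟶ S}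
variable {B : Type u} [CommRing B] [Algebra A B]
variable {nr : D.idx → (𝟙_ (Over S) ⟶ G)} {k m : ℕ}

theorem cellPt_bruhatMap (l : List D.idx) (e : Fin k → D.idx) (epos : Fin m → D.idx) (y : Fin k → B)
    (t : tb b B ⟶ D.T) (x : Fin m → B) :
    cellPt D y t x ≫ RedSub.bruhatMap D nr l e epos =
      word D e y * (nWord nr l (tb b B) * (tG D t * word D epos x)) := by
  rw [RedSub.bruhatMap, MonObj.comp_mul, MonObj.comp_mul, MonObj.comp_mul, cellPt, ← Category.assoc _ (toUnit _),
    toUnit_unique (lift (powPt y) (lift t (powPt x)) ≫ toUnit _) (toUnit _)]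
  simp only [lift_fst_assoc, lift_snd_assoc, powPt_prodMap]
  rfl

/-- Points of the image of a Bruhat cell map are in the Bruhat cell. -/
theorem inBruhat_bruhatMap (base : D.P.Base) {φ : D.M →+ ℤ} (hφ : ∀ c ∈ base.support, 0 < φ (D.P.root c))
    {l : List D.idx} {e : Fin k → D.idx} (he : RedSub.Enumerates (RedSub.negMeetNeg D.P base (RedSub.wordPerm D.P l)) e)
    {epos : Fin m → D.idx} (hpos : RedSub.Enumerates (RedSub.posRoots D.P base) epos)
    (p : tb b B ⟶ CellSrc D k m) : InBruhat nr φ l (p ≫ RedSub.bruhatMap D nr l e epos) := by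
  obtain ⟨y, t, x, rfl⟩ := exists_cellPt D p
  refine ⟨word D e y, t, word D epos x, hasLimOne_word D (fun i => ?_) y,
    hasLimOne_word D ((posList_of_enumerates base hφ hpos).pos D) x, ?_⟩
  · rw [AddMonoidHom.neg_apply, neg_pos]
    exact (mem_posRoots_iff D.P base hφ _).2.1.mp ((Set.ext_iff.mp he.2 _).mp ⟨i, rfl⟩).1
  · rw [cellPt_bruhatMap]
    group

/-- A common geometric point of two morphisms with meeting images. -/
theorem exists_geom_point_pair {X Y Z : Over S} (f : X ⟶ Z) (g : Y ⟶ Z) (x : ↥X.left) (y : ↥Y.left)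
    (h : f.left.base x = g.left.base y) :
    ∃ (K : Type u) (_ : Field K) (_ : IsAlgClosed K) (b : Spec (CommRingCat.of K) ⟶ S) (p : tb b K ⟶ X)
      (q : tb b K ⟶ Y), p ≫ f = q ≫ g := by
  obtain ⟨z, -, -⟩ := Scheme.Pullback.exists_preimage_pullback (f := f.left) (g := g.left) x y h
  let P : Over S := Over.mk (pullback.fst f.left g.left ≫ X.hom)
  let fst' : P ⟶ X := Over.homMk (pullback.fst f.left g.left) rfl
  let snd' : P ⟶ Y := Over.homMk (pullback.snd f.left g.left) (by
    show pullback.snd f.left g.left ≫ Y.hom = pullback.fst f.left g.left ≫ X.hom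
    rw [← Over.w g, ← Category.assoc, ← pullback.condition, Category.assoc, Over.w f])
  obtain ⟨K, _, _, β, q, -⟩ := exists_geom_point (X := P) z
  refine ⟨K, inferInstance, inferInstance, β, q ≫ fst', q ≫ snd', ?_⟩
  rw [Category.assoc, Category.assoc]
  congr 1
  ext1
  exact pullback.condition

end Groth.Agent.RedCell22
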