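import Groth.Agent.RedCell22.Generation

/-!
# Words in the reflections, their representatives and the Bruhat cells on points
-/

set_option autoImplicit false
set_option linter.unusedSectionVars false
set_option linter.style.haveILetI false

universe u

open CategoryTheory CategoryTheory.Limits AlgebraicGeometry MonoidalCategory CartesianMonoidalCategory
open MonObj GrpObj

noncomputable section

namespace Groth.Agent.RedCell22

variable {S : Scheme.{u}} {G : Over S} [GrpObj G] {D : Red.SplitRed G}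
variable {A : Type u} [CommRing A] {b : Spec (CommRingCat.of A) ⟶ S}
variable {B : Type u} [CommRing B] [Algebra A B] [IsAffineHom G.hom]

/-- The Weyl element of a word, on characters. -/
def wordHom (D : Red.SplitRed G) : List D.idx → (D.M →+ D.M)
  | [] => AddMonoidHom.id D.M
  | a :: l => (reflHom D a).comp (wordHom D l)

theorem wordPerm_cons (a : D.idx) (l : List D.idx) (r : D.idx) :
    RedSub.wordPerm D.P (a :: l) r = D.P.reflectionPerm a (RedSub.wordPerm D.P l r) := by
  simp [RedSub.wordPerm]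

theorem root_wordPerm (l : List D.idx) (r : D.idx) :
    D.P.root (RedSub.wordPerm D.P l r) = wordHom D l (D.P.root r) := by
  induction l with
  | nil => rfl
  | cons a l ih =>
    rw [wordPerm_cons, D.P.root_reflectionPerm, ih]
    rfl

/-- The representative of a word. -/
def nWord (nr : D.idx → (𝟙_ (Over S) ⟶ G)) (l : List D.idx) (X : Over S) : X ⟶ G := toUnit X ≫ (l.map nr).prod

theorem nWord_cons (nr : D.idx → (𝟙_ (Over S) ⟶ G)) (a : D.idx) (l : List D.idx) (X : Over S) :
    nWord nr (a :: l) X = (toUnit X ≫ nr a) * nWord nr l X := by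
  rw [nWord, nWord, List.map_cons, List.prod_cons, MonObj.comp_mul]

theorem nWord_nil (nr : D.idx → (𝟙_ (Over S) ⟶ G)) (X : Over S) : nWord nr [] X = 1 := by
  rw [nWord, List.map_nil, List.prod_nil, MonObj.comp_one]

theorem nWord_concat (nr : D.idx → (𝟙_ (Over S) ⟶ G)) (l : List D.idx) (a : D.idx) (X : Over S) :
    nWord nr (l ++ [a]) X = nWord nr l X * (toUnit X ≫ nr a) := by
  rw [nWord, nWord, List.map_append, List.prod_append, List.map_singleton, List.prod_singleton, MonObj.comp_mul]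

theorem nWord_map {C : Type u} [CommRing C] [Algebra A C] (nr : D.idx → (𝟙_ (Over S) ⟶ G)) (l : List D.idx)
    (φ : B →ₐ[A] C) : tm b φ ≫ nWord nr l (tb b B) = nWord nr l (tb b C) :=
  toUnit_map φ

/-- The representative of a word acts on the torus by the Weyl element. -/
theorem nWord_conj_tG {nr : D.idx → (𝟙_ (Over S) ⟶ G)} (hnr : RedSub.RealisesReflections D nr) (l : List D.idx) :
    ∀ χ : Multiplicative D.M →* Bˣ, (nWord nr l (tb b B))⁻¹ * tG D (tpt D χ) * nWord nr l (tb b B) =
      tG D (tpt D (χ.comp (AddMonoidHom.toMultiplicative (wordHom D l)))) := by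
  induction l with
  | nil => exact fun χ => by rw [nWord_nil, inv_one, _root_.one_mul, _root_.mul_one]; rfl
  | cons a l ih =>
    intro χ
    have h : (toUnit (tb b B) ≫ nr a)⁻¹ * tG D (tpt D χ) * (toUnit _ ≫ nr a) =
        tG D (tpt D (χ.comp (AddMonoidHom.toMultiplicative (reflHom D a)))) := by
      rw [_root_.mul_assoc, IsReflPt.tG_mul (D := D) (a := a) (hnr a), inv_mul_cancel_left]
    rw [nWord_cons, _root_.mul_inv_rev,
      show ∀ n m t : tb b B ⟶ G, n⁻¹ * m⁻¹ * t * (m * n) = n⁻¹ * (m⁻¹ * t * m) * n from fun n m t => by group, h, ih]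
    rfl

/-- The representative of a word carries root groups to root groups, by units. -/
theorem exists_conj_nWord {nr : D.idx → (𝟙_ (Over S) ⟶ G)} (base : D.P.Base)
    (hnr : RedSub.RealisesReflections D nr) (l : List D.idx) (r : D.idx) :
    ∃ e : Aˣ, ∀ (B : Type u) [CommRing B] [Algebra A B] (y : B),
      (nWord nr l (tb b B) * ua D r y * (nWord nr l (tb b B))⁻¹ : tb b B ⟶ G) =
        ua D (RedSub.wordPerm D.P l r) (algebraMap A B (e : A) * y) := by
  induction l with
  | nil => exact ⟨1, fun B _ _ y => by simp [nWord_nil, RedSub.wordPerm]⟩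
  | cons a l ih =>
    obtain ⟨e, he⟩ := ih
    obtain ⟨e', he'⟩ := exists_conj_refl (A := A) (b := b) base (hnr a) (RedSub.wordPerm D.P l r)
    refine ⟨e' * e, fun B _ _ y => ?_⟩
    rw [nWord_cons, show ∀ m n u : tb b B ⟶ G, m * n * u * (m * n)⁻¹ = m * (n * u * n⁻¹) * m⁻¹ from
      fun m n u => by group, he, he', wordPerm_cons, Units.val_mul, map_mul, _root_.mul_assoc]

theorem nWord_conj_hasLimOne {nr : D.idx → (𝟙_ (Over S) ⟶ G)} (base : D.P.Base)
    (hnr : RedSub.RealisesReflections D nr) (l : List D.idx) {k : ℕ} (e : Fin k → D.idx) {f : D.M →+ ℤ}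
    (h : ∀ i, 0 < f (D.P.root (RedSub.wordPerm D.P l (e i)))) (y : Fin k → B) :
    (lam D f).HasLimOne (nWord nr l (tb b B) * word D e y * (nWord nr l (tb b B))⁻¹) :=
  List.prod_induction (fun g => (lam D f).HasLimOne (nWord nr l (tb b B) * g * (nWord nr l (tb b B))⁻¹))
    (fun g g' hg hg' => by
      convert hg.mul _ hg' using 1
      group)
    (by rw [_root_.mul_one, mul_inv_cancel]; exact Cochar.hasLimOne_one _) fun g hg => by
      obtain ⟨i, rfl⟩ := List.mem_ofFn.mp hg
      obtain ⟨c, hc⟩ := exists_conj_nWord (A := A) (b := b) base hnr l (e i)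
      rw [hc]
      exact hasLimOne_ua D (h i) _

theorem nWord_inv_conj_hasLimOne {nr : D.idx → (𝟙_ (Over S) ⟶ G)} (base : D.P.Base)
    (hnr : RedSub.RealisesReflections D nr) (l : List D.idx) {k : ℕ} (e : Fin k → D.idx) {f : D.M →+ ℤ}
    (h : ∀ i, 0 < f (D.P.root ((RedSub.wordPerm D.P l).symm (e i)))) (y : Fin k → B) :
    (lam D f).HasLimOne ((nWord nr l (tb b B))⁻¹ * word D e y * nWord nr l (tb b B)) :=
  List.prod_induction (fun g => (lam D f).HasLimOne ((nWord nr l (tb b B))⁻¹ * g * nWord nr l (tb b B)))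
    (fun g g' hg hg' => by
      convert hg.mul _ hg' using 1
      group)
    (by rw [_root_.mul_one, inv_mul_cancel]; exact Cochar.hasLimOne_one _) fun g hg => by
      obtain ⟨i, rfl⟩ := List.mem_ofFn.mp hg
      obtain ⟨c, hc⟩ := exists_conj_nWord (A := A) (b := b) base hnr l ((RedSub.wordPerm D.P l).symm (e i))
      have h1 := hc B (algebraMap A B (↑c⁻¹ : A) * y i)
      rw [← _root_.mul_assoc, ← map_mul, Units.mul_inv, map_one, _root_.one_mul, Equiv.apply_symm_apply] at h1
      rw [← h1,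
        show ∀ n u : tb b B ⟶ G, n⁻¹ * (n * u * n⁻¹) * n = u from fun n u => by group]
      exact hasLimOne_ua D (h i) _

/-- A point of the opposite unipotent group moved through a representative. -/
theorem exists_split_neg {nr : D.idx → (𝟙_ (Over S) ⟶ G)} (base : D.P.Base)
    (hnr : RedSub.RealisesReflections D nr) {φ : D.M →+ ℤ} (hφ : ∀ c ∈ base.support, 0 < φ (D.P.root c))
    (l : List D.idx) {k : ℕ} {e : Fin k → D.idx}
    (he : RedSub.Enumerates (RedSub.negMeetNeg D.P base (RedSub.wordPerm D.P l)) e) {v : tb b B ⟶ G}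
    (hv : (lam D (-φ)).HasLimOne v) :
    ∃ (y : Fin k → B) (u : tb b B ⟶ G), (lam D φ).HasLimOne u ∧
      v * nWord nr l (tb b B) = word D e y * nWord nr l (tb b B) * u := by
  classical
  obtain ⟨q, e', he'⟩ := exists_enumerates
    ({r | r ∈ RedSub.negRoots D.P base ∧ (RedSub.wordPerm D.P l).symm r ∉ RedSub.negRoots D.P base} : Set D.idx)
  have hmem : ∀ r, r ∈ Set.range e ↔
      r ∈ RedSub.negRoots D.P base ∧ (RedSub.wordPerm D.P l).symm r ∈ RedSub.negRoots D.P base := fun r => by
    rw [he.2]; rfl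
  have hmem' : ∀ r, r ∈ Set.range e' ↔
      r ∈ RedSub.negRoots D.P base ∧ (RedSub.wordPerm D.P l).symm r ∉ RedSub.negRoots D.P base := fun r => by
    rw [he'.2]; rfl
  have hlist : PosList D (-φ) (Fin.append e e') := by
    refine ⟨Fin.append_injective_iff.mpr ⟨he.1, he'.1, fun i j h => ((hmem' _).mp ⟨j, rfl⟩).2
      (h ▸ ((hmem _).mp ⟨i, rfl⟩).2)⟩, fun r => ⟨?_, fun hr => ?_⟩⟩
    · rintro ⟨i, rfl⟩
      rw [AddMonoidHom.neg_apply, neg_pos]
      refine (mem_posRoots_iff D.P base hφ _).2.1.mp ?_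
      refine Fin.addCases (fun i => ?_) (fun i => ?_) i
      · rw [Fin.append_left]; exact ((hmem _).mp ⟨i, rfl⟩).1
      · rw [Fin.append_right]; exact ((hmem' _).mp ⟨i, rfl⟩).1
    · rw [AddMonoidHom.neg_apply, neg_pos] at hr
      have hr' := (mem_posRoots_iff D.P base hφ r).2.1.mpr hr
      by_cases h : (RedSub.wordPerm D.P l).symm r ∈ RedSub.negRoots D.P base
      · obtain ⟨i, rfl⟩ := (hmem r).mpr ⟨hr', h⟩
        exact ⟨Fin.castAdd q i, by simp⟩
      · obtain ⟨i, rfl⟩ := (hmem' r).mpr ⟨hr', h⟩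
        exact ⟨Fin.natAdd k i, by simp⟩
  obtain ⟨z, rfl⟩ := exists_word hlist hv
  refine ⟨fun i => z (Fin.castAdd q i), _,
    nWord_inv_conj_hasLimOne base hnr l e' (fun i => ?_) (fun i => z (Fin.natAdd k i)), ?_⟩
  · exact (lt_or_gt_of_ne (mem_posRoots_iff D.P base hφ _).2.2).resolve_left
      fun h => ((hmem' _).mp ⟨i, rfl⟩).2 ((mem_posRoots_iff D.P base hφ _).2.1.mpr h)
  · conv_lhs => rw [show z = Fin.append (fun i => z (Fin.castAdd q i)) (fun i => z (Fin.natAdd k i)) from
      funext fun i => Fin.addCases (fun i => by simp) (fun i => by simp) i, word_append]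
    group

/-- A Bruhat cell on points. -/
def InBruhat (nr : D.idx → (𝟙_ (Over S) ⟶ G)) (φ : D.M →+ ℤ) (l : List D.idx) (g : tb b B ⟶ G) : Prop :=
  ∃ (v : tb b B ⟶ G) (t : tb b B ⟶ D.T) (u : tb b B ⟶ G), (lam D (-φ)).HasLimOne v ∧ (lam D φ).HasLimOne u ∧
    g = v * nWord nr l (tb b B) * tG D t * u

/-- A point of a Bruhat cell in coordinates. -/
theorem InBruhat.exists_coords {nr : D.idx → (𝟙_ (Over S) ⟶ G)} (base : D.P.Base)
    (hnr : RedSub.RealisesReflections D nr) {φ : D.M →+ ℤ} (hφ : ∀ c ∈ base.support, 0 < φ (D.P.root c))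
    {l : List D.idx} {k m : ℕ} {e : Fin k → D.idx}
    (he : RedSub.Enumerates (RedSub.negMeetNeg D.P base (RedSub.wordPerm D.P l)) e) {epos : Fin m → D.idx}
    (hpos : RedSub.Enumerates (RedSub.posRoots D.P base) epos) {g : tb b B ⟶ G} (h : InBruhat nr φ l g) :
    ∃ (y : Fin k → B) (t : tb b B ⟶ D.T) (x : Fin m → B),
      g = word D e y * (nWord nr l (tb b B) * (tG D t * word D epos x)) := by
  obtain ⟨v, t, u, hv, hu, rfl⟩ := h
  obtain ⟨y, u', hu', he'⟩ := exists_split_neg base hnr hφ l he hv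
  obtain ⟨x, hx⟩ := exists_word (posList_of_enumerates base hφ hpos)
    ((hu'.conj_fixed (fixed_tG D φ t).inv).mul _ hu)
  refine ⟨y, t, x, ?_⟩
  rw [hx, he']
  group

end Groth.Agent.RedCell22
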