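import Groth.Agent.GrpSchLib.RankOneNonComm
import Groth.Prelude.Def_RedSub
import Mathlib.AlgebraicGeometry.Morphisms.Smooth
import Mathlib.AlgebraicGeometry.Morphisms.AffineAnd
import Mathlib.RingTheory.Smooth.Basic

/-!
# The additive group, split tori and their products are affine and smooth
-/

set_option autoImplicit false
set_option linter.unusedSectionVars false
set_option linter.style.haveILetI false

universe u

open CategoryTheory CategoryTheory.Limits AlgebraicGeometry MonoidalCategory CartesianMonoidalCategory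

noncomputable section

attribute [-instance] ULift.module ULift.module'

namespace Groth.Agent.RedCell22

variable {S : Scheme.{u}}

set_option backward.isDefEq.respectTransparency.types false in
theorem isAffineHom_snd {X Y Z : Scheme.{u}} (f : X ⟶ Z) (g : Y ⟶ Z) [hf : IsAffineHom f] :
    IsAffineHom (pullback.snd f g) :=
  MorphismProperty.pullback_snd (P := @IsAffineHom) f g hf

set_option backward.isDefEq.respectTransparency.types false in
theorem isAffineHom_fst {X Y Z : Scheme.{u}} (f : X ⟶ Z) (g : Y ⟶ Z) [hg : IsAffineHom g] :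
    IsAffineHom (pullback.fst f g) :=
  MorphismProperty.pullback_fst (P := @IsAffineHom) f g hg

instance isAffineHom_ga : IsAffineHom (Red.Ga S).hom :=
  haveI : IsAffineHom Red.GaZ.{u}.hom := inferInstanceAs (IsAffineHom (Spec.map _))
  isAffineHom_snd Red.GaZ.hom _

instance smooth_ga' : Smooth (Red.Ga S).hom := GrpSchLib.RankOne.smooth_ga S

instance isAffineHom_ds (M : Type) [AddCommGroup M] : IsAffineHom (Red.DS S M).hom :=
  haveI : IsAffineHom (Red.diag (ULift.{u} ℤ) M).hom := inferInstanceAs (IsAffineHom (Spec.map _))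
  isAffineHom_snd (Red.diag (ULift.{u} ℤ) M).hom _

/-- Group algebras of free groups of finite rank are smooth. -/
theorem smooth_monoidAlgebra (R : Type u) [CommRing R] [IsNoetherianRing R] (M : Type) [AddCommGroup M]
    [Module.Free ℤ M] [Module.Finite ℤ M] : Algebra.Smooth R (MonoidAlgebra R (Multiplicative M)) := by
  classical
  haveI : AddGroup.FG M := Module.Finite.iff_addGroup_fg.mp inferInstance
  haveI : AddMonoid.FG M := AddGroup.fg_iff_addMonoid_fg.mp inferInstance
  haveI : Monoid.FG (Multiplicative M) := inferInstance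
  haveI : Algebra.FiniteType R (MonoidAlgebra R (Multiplicative M)) := MonoidAlgebra.finiteType_of_fg
  refine ⟨?_, Algebra.FinitePresentation.of_finiteType.mp inferInstance⟩
  refine Algebra.FormallySmooth.iff_comp_surjective.mpr fun {B} _ _ I hI φ => ?_
  have hunit : ∀ z : (B ⧸ I)ˣ, ∃ y : Bˣ, Units.map (Ideal.Quotient.mk I).toMonoidHom y = z := fun z => by
    obtain ⟨y, hy⟩ := Ideal.Quotient.mk_surjective (z : B ⧸ I)
    obtain ⟨y', hy'⟩ := Ideal.Quotient.mk_surjective (z⁻¹ : (B ⧸ I)ˣ).val
    have h1 : y * y' - 1 ∈ I := by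
      rw [← Ideal.Quotient.eq_zero_iff_mem, map_sub, map_mul, hy, hy', Units.mul_inv, map_one, sub_self]
    have hsq : (y * y' - 1) * (y * y' - 1) = 0 := by
      have := Ideal.mul_mem_mul h1 h1
      rw [← pow_two, hI] at this
      exact this
    refine ⟨⟨y, y' * (2 - y * y'), by linear_combination -hsq, by linear_combination -hsq⟩, Units.ext ?_⟩
    exact hy
  let ψ : Multiplicative M →* (B ⧸ I)ˣ :=
    ((φ : MonoidAlgebra R (Multiplicative M) →* B ⧸ I).comp (MonoidAlgebra.of R (Multiplicative M))).toHomUnits
  let bas := Module.Free.chooseBasis ℤ M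
  choose y hy using fun i => hunit (ψ (Multiplicative.ofAdd (bas i)))
  let L : M →ₗ[ℤ] Additive Bˣ := bas.constr ℤ fun i => Additive.ofMul (y i)
  let χ : Multiplicative M →* Bˣ := L.toAddMonoidHom.toMultiplicativeLeft
  have hχ : (Units.map (Ideal.Quotient.mk I).toMonoidHom).comp χ = ψ := by
    let q : Bˣ →* (B ⧸ I)ˣ := Units.map (Ideal.Quotient.mk I).toMonoidHom
    have hL : q.toAdditive.toIntLinearMap ∘ₗ L = (MonoidHom.toAdditiveRight ψ).toIntLinearMap :=
      bas.ext fun i => by
        show Additive.ofMul (q (L (bas i)).toMul) = Additive.ofMul (ψ (Multiplicative.ofAdd (bas i)))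
        rw [show L (bas i) = Additive.ofMul (y i) from bas.constr_basis ℤ _ i]
        exact congrArg Additive.ofMul (hy i)
    exact MonoidHom.ext fun m => congrArg Additive.toMul (LinearMap.congr_fun hL m.toAdd)
  refine ⟨MonoidAlgebra.lift R B (Multiplicative M) ((Units.coeHom B).comp χ),
    MonoidAlgebra.algHom_ext' (MonoidHom.ext fun m => ?_) (Subsingleton.elim _ _)⟩
  show Ideal.Quotient.mkₐ R I (MonoidAlgebra.lift R B (Multiplicative M) _ (MonoidAlgebra.single m 1)) = _
  rw [MonoidAlgebra.lift_single, one_smul]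
  exact congrArg Units.val (DFunLike.congr_fun hχ m)

instance smooth_ds (M : Type) [AddCommGroup M] [Module.Free ℤ M] [Module.Finite ℤ M] :
    Smooth (Red.DS S M).hom := by
  let R := ULift.{u} ℤ
  haveI : IsNoetherianRing R := isNoetherianRing_of_ringEquiv ℤ ULift.ringEquiv.symm
  haveI : Smooth (Red.diag R M).hom := by
    show Smooth (Spec.map (CommRingCat.ofHom (algebraMap R (MonoidAlgebra R (Multiplicative M)))))
    rw [HasRingHomProperty.Spec_iff (P := @Smooth)]
    show RingHom.Smooth (algebraMap R (MonoidAlgebra R (Multiplicative M)))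
    rw [RingHom.smooth_algebraMap]
    exact smooth_monoidAlgebra R M
  exact inferInstanceAs (Smooth (pullback.snd (Red.diag (ULift.{u} ℤ) M).hom _))

variable {G : Over S} [GrpObj G] (D : Red.SplitRed G)

/-- The splitting of the torus, as schemes. -/
def torusIso : D.T ≅ Red.DS S D.M := (Grp.forget (Over S)).mapIso D.split

instance isAffineHom_torus : IsAffineHom D.T.hom := by
  rw [← Over.w (torusIso D).hom]
  haveI : IsIso (torusIso D).hom.left := inferInstanceAs (IsIso ((Over.forget S).map (torusIso D).hom))
  infer_instance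

instance smooth_torus : Smooth D.T.hom := by
  rw [← Over.w (torusIso D).hom]
  haveI : IsIso (torusIso D).hom.left := inferInstanceAs (IsIso ((Over.forget S).map (torusIso D).hom))
  infer_instance

instance isAffineHom_tensor (X Y : Over S) [IsAffineHom X.hom] [IsAffineHom Y.hom] : IsAffineHom (X ⊗ Y).hom :=
  haveI := isAffineHom_fst X.hom Y.hom
  inferInstanceAs (IsAffineHom (pullback.fst X.hom Y.hom ≫ X.hom))

instance smooth_tensor (X Y : Over S) [Smooth X.hom] [Smooth Y.hom] : Smooth (X ⊗ Y).hom :=
  inferInstanceAs (Smooth (pullback.fst X.hom Y.hom ≫ X.hom))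

instance isAffineHom_pow (X : Over S) [IsAffineHom X.hom] : ∀ n, IsAffineHom (RedSub.pow X n).hom
  | 0 => inferInstanceAs (IsAffineHom (𝟙 S))
  | n + 1 => haveI := isAffineHom_pow X n; inferInstanceAs (IsAffineHom (X ⊗ RedSub.pow X n).hom)

instance smooth_pow (X : Over S) [Smooth X.hom] : ∀ n, Smooth (RedSub.pow X n).hom
  | 0 => inferInstanceAs (Smooth (𝟙 S))
  | n + 1 => haveI := smooth_pow X n; inferInstanceAs (Smooth (X ⊗ RedSub.pow X n).hom)

end Groth.Agent.RedCell22
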