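import Groth.Agent.RedCell22.CellPts
import Groth.Agent.RedCell22.Morph
import Groth.Agent.RedCell22.Models
import Groth.Agent.EtFound.TopInv

/-!
# The big cell of a split group is open
-/

set_option autoImplicit false
set_option linter.unusedSectionVars false
set_option linter.style.haveILetI false

universe u

open CategoryTheory CategoryTheory.Limits AlgebraicGeometry MonoidalCategory CartesianMonoidalCategory
open MonObj GrpObj

noncomputable section

namespace Groth.Agent.RedCell22

variable {S : Scheme.{u}} {A : Type u} [CommRing A] {b : Spec (CommRingCat.of A) ⟶ S}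
variable {B C : Type u} [CommRing B] [Algebra A B] [CommRing C] [Algebra A C]
variable {G : Over S} [GrpObj G] (D : Red.SplitRed G) {n m : ℕ}

/-- The parameter space of the cell. -/
abbrev CellSrc (n m : ℕ) : Over S := RedSub.pow (Red.Ga S) n ⊗ (D.T ⊗ RedSub.pow (Red.Ga S) m)

/-- A point of the parameter space. -/
def cellPt (y : Fin n → B) (t : tb b B ⟶ D.T) (x : Fin m → B) : tb b B ⟶ CellSrc D n m :=
  lift (powPt y) (lift t (powPt x))

theorem cellPt_map (φ : B →ₐ[A] C) (y : Fin n → B) (t : tb b B ⟶ D.T) (x : Fin m → B) :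
    tm b φ ≫ cellPt D y t x = cellPt D (fun k => φ (y k)) (tm b φ ≫ t) fun k => φ (x k) := by
  rw [cellPt, cellPt, comp_lift, comp_lift, powPt_map, powPt_map]

theorem exists_cellPt (p : tb b B ⟶ CellSrc D n m) :
    ∃ (y : Fin n → B) (t : tb b B ⟶ D.T) (x : Fin m → B), p = cellPt D y t x := by
  refine ⟨powCoord (p ≫ fst _ _), p ≫ snd _ _ ≫ fst _ _, powCoord (p ≫ snd _ _ ≫ snd _ _), ?_⟩
  rw [cellPt, powPt_powCoord, powPt_powCoord]
  ext1
  · rw [lift_fst]
  · rw [lift_snd]
    ext1
    · rw [lift_fst, Category.assoc]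
    · rw [lift_snd, Category.assoc]

theorem cellPt_cellMap (l : Fin n → D.idx) (l' : Fin m → D.idx) (y : Fin n → B) (t : tb b B ⟶ D.T)
    (x : Fin m → B) : cellPt D y t x ≫ RedSub.cellMap D l l' = cellWord D l l' y t x := by
  rw [RedSub.cellMap, MonObj.comp_mul, MonObj.comp_mul, cellPt]
  simp only [lift_fst_assoc, lift_snd_assoc, powPt_prodMap]
  rfl

/-- Characters with values in the units of a quotient by a nilpotent ideal lift. -/
theorem exists_lift_char {M : Type} [AddCommGroup M] [Module.Free ℤ M] {I : Ideal B} (hI : I ^ 2 = ⊥)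
    (ψ : Multiplicative M →* (B ⧸ I)ˣ) :
    ∃ χ : Multiplicative M →* Bˣ, (Units.map (Ideal.Quotient.mk I).toMonoidHom).comp χ = ψ := by
  have hunit : ∀ z : (B ⧸ I)ˣ, ∃ y : Bˣ, Units.map (Ideal.Quotient.mk I).toMonoidHom y = z := fun z => by
    obtain ⟨y, hy⟩ := Ideal.Quotient.mk_surjective (z : B ⧸ I)
    obtain ⟨y', hy'⟩ := Ideal.Quotient.mk_surjective (z⁻¹ : (B ⧸ I)ˣ).val
    have h1 : y * y' - 1 ∈ I := by
      rw [← Ideal.Quotient.eq_zero_iff_mem, map_sub, map_mul, hy, hy', Units.mul_inv, map_one, sub_self]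
    have hsq : (y * y' - 1) * (y * y' - 1) = 0 := by
      have := Ideal.mul_mem_mul h1 h1
      rw [← pow_two, hI] at this
      exact this
    refine ⟨⟨y, y' * (2 - y * y'), by linear_combination -hsq, by linear_combination -hsq⟩, Units.ext ?_⟩
    exact hy
  let bas := Module.Free.chooseBasis ℤ M
  choose y hy using fun i => hunit (ψ (Multiplicative.ofAdd (bas i)))
  let L : M →ₗ[ℤ] Additive Bˣ := bas.constr ℤ fun i => Additive.ofMul (y i)
  refine ⟨L.toAddMonoidHom.toMultiplicativeLeft, ?_⟩
  let q : Bˣ →* (B ⧸ I)ˣ := Units.map (Ideal.Quotient.mk I).toMonoidHom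
  have hL : q.toAdditive.toIntLinearMap ∘ₗ L = (MonoidHom.toAdditiveRight ψ).toIntLinearMap :=
    bas.ext fun i => by
      show Additive.ofMul (q (L (bas i)).toMul) = Additive.ofMul (ψ (Multiplicative.ofAdd (bas i)))
      rw [show L (bas i) = Additive.ofMul (y i) from bas.constr_basis ℤ _ i]
      exact congrArg Additive.ofMul (hy i)
  exact MonoidHom.ext fun m => congrArg Additive.toMul (LinearMap.congr_fun hL m.toAdd)

/-- Points of the parameter space lift along square-zero extensions. -/
theorem exists_lift_cellPt {I : Ideal B} (hI : I ^ 2 = ⊥) (p : tb b (B ⧸ I) ⟶ CellSrc D n m) :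
    ∃ (y : Fin n → B) (t : tb b B ⟶ D.T) (x : Fin m → B),
      tm b (Ideal.Quotient.mkₐ A I) ≫ cellPt D y t x = p := by
  obtain ⟨y, t, x, rfl⟩ := exists_cellPt D p
  choose y' hy' using fun k => Ideal.Quotient.mk_surjective (y k)
  choose x' hx' using fun k => Ideal.Quotient.mk_surjective (x k)
  obtain ⟨ψ, rfl⟩ := tpt_surjective D t
  obtain ⟨χ, hχ⟩ := exists_lift_char hI ψ
  refine ⟨y', tpt D χ, x', ?_⟩
  rw [cellPt_map, tpt_map]
  exact congr (congr (congrArg (cellPt D) (funext hy')) (congrArg (tpt D) hχ)) (funext hx')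

variable {D} {f : D.M →+ ℤ} {l : Fin n → D.idx} {l' : Fin m → D.idx}

theorem mono_cellMap [IsAffineHom G.hom] (hl : PosList D (-f) l) (hl' : PosList D f l') :
    Mono (RedSub.cellMap D l l') :=
  mono_of_tests _ fun A _ b p p' h => by
    obtain ⟨y, t, x, rfl⟩ := exists_cellPt D p
    obtain ⟨y', t', x', rfl⟩ := exists_cellPt D p'
    rw [cellPt_cellMap, cellPt_cellMap] at h
    obtain ⟨rfl, rfl, rfl⟩ := cellWord_injective hl hl' h
    rfl

theorem formallyEtale_cellMap [IsAffineHom G.hom] (hl : PosList D (-f) l) (hl' : PosList D f l')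
    (hreg : ∀ a, f (D.P.root a) ≠ 0) :
    @Algebra.FormallyEtale (FunRing b G) (FunRing b (CellSrc D n m)) _ _
      (mapFun b (RedSub.cellMap D l l')).toRingHom.toAlgebra := by
  haveI := mono_cellMap hl hl'
  let c := RedSub.cellMap D l l'
  let P := FunRing b G
  let Q := FunRing b (CellSrc D n m)
  letI : Algebra P Q := (mapFun b c).toRingHom.toAlgebra
  haveI : IsScalarTower A P Q := IsScalarTower.of_algebraMap_eq fun a => ((mapFun b c).commutes a).symm
  rw [Algebra.FormallyEtale.iff_comp_bijective]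
  intro R _ _ I hI
  letI : Algebra A R := ((algebraMap P R).comp (algebraMap A P)).toAlgebra
  haveI : IsScalarTower A P R := IsScalarTower.of_algebraMap_eq fun a => rfl
  have key : ∀ (R' : Type u) [CommRing R'] [Algebra A R'] [Algebra P R'] [IsScalarTower A P R'] (φ : Q →ₐ[P] R'),
      pt b (φ.restrictScalars A) ≫ c = pt b (IsScalarTower.toAlgHom A P R') := fun R' _ _ _ _ φ => by
    refine ev_injective b (AlgHom.ext fun q => ?_)
    rw [ev_comp_map, ev_pt, ev_pt]
    exact φ.commutes q
  have hsub : ∀ (R' : Type u) [CommRing R'] [Algebra A R'] [Algebra P R'] [IsScalarTower A P R']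
      (φ φ' : Q →ₐ[P] R'), φ = φ' := fun R' _ _ _ _ φ φ' => by
    have h : pt b (φ.restrictScalars A) = pt b (φ'.restrictScalars A) :=
      (cancel_mono c).mp ((key R' φ).trans (key R' φ').symm)
    have h' := congrArg (ev b) h
    rw [ev_pt, ev_pt] at h'
    exact AlgHom.restrictScalars_injective A h'
  refine ⟨fun φ φ' _ => hsub R φ φ', fun ψ => ?_⟩
  obtain ⟨y, t, x, hp⟩ := exists_lift_cellPt D hI (pt b (ψ.restrictScalars A))
  let g : tb b R ⟶ G := pt b (IsScalarTower.toAlgHom A P R)
  have hg : tm b (Ideal.Quotient.mkₐ A I) ≫ g = pt b (IsScalarTower.toAlgHom A P (R ⧸ I)) := by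
    refine ev_injective b (AlgHom.ext fun q => ?_)
    rw [ev_comp, ev_pt, ev_pt]
    rfl
  obtain ⟨y', t', x', hg'⟩ := exists_cellWord_of_mod (D := D) hl hl' hreg hI (g := g) (y := y) (t := t) (x := x) (by
    rw [hg, ← key (R ⧸ I) ψ, ← cellPt_cellMap, ← Category.assoc, hp])
  let φ₀ : Q →ₐ[A] R := ev b (cellPt D y' t' x')
  have hφ₀ : ∀ q : P, φ₀ (algebraMap P Q q) = algebraMap P R q := fun q => by
    have := AlgHom.congr_fun (ev_comp_map b c (cellPt D y' t' x')) q
    rw [cellPt_cellMap, ← hg', ev_pt] at this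
    exact this.symm
  refine ⟨{ toRingHom := φ₀.toRingHom, commutes' := hφ₀ }, hsub (R ⧸ I) _ _⟩

/-- The cell map is an open immersion. -/
theorem isOpenImmersion_cell (hl : PosList D (-f) l) (hl' : PosList D f l') (hreg : ∀ a, f (D.P.root a) ≠ 0) :
    IsOpenImmersion (RedSub.cellMap D l l').left := by
  haveI : IsAffineHom G.hom := isAffineHom_of_split D
  haveI : Smooth G.hom := D.reductive.2.1
  haveI := mono_cellMap hl hl'
  haveI : Etale (RedSub.cellMap D l l').left := etale_of_mapFun _ fun A _ b => by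
    letI : Algebra (FunRing b G) (FunRing b (CellSrc D n m)) :=
      (mapFun b (RedSub.cellMap D l l')).toRingHom.toAlgebra
    haveI : LocallyOfFinitePresentation (pbMap b (RedSub.cellMap D l l') ≫ pullback.snd G.hom b) := by
      rw [show pbMap b (RedSub.cellMap D l l') ≫ pullback.snd G.hom b = pullback.snd _ b from
        pullback.lift_snd _ _ _]
      infer_instance
    show Algebra.Etale (FunRing b G) (FunRing b (CellSrc D n m))
    refine ⟨formallyEtale_cellMap hl hl' hreg, ?_⟩
    rw [← RingHom.finitePresentation_algebraMap]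
    show RingHom.FinitePresentation (mapFun b (RedSub.cellMap D l l')).toRingHom
    rw [mapFun_toRingHom]
    refine RingHom.FinitePresentation.of_comp_finiteType (pullback.snd G.hom b).appTop.hom ?_
      (HasRingHomProperty.appTop (P := @LocallyOfFiniteType) _ inferInstance)
    rw [← CommRingCat.hom_comp, ← Scheme.Hom.comp_appTop]
    exact Scheme.Hom.finitePresentation_appTop _
  exact EtFound.isOpenImmersion_of_etale_univInj _

/-- The cell does not depend on the orderings. -/
theorem range_cell_eq (hl : PosList D (-f) l) (hl' : PosList D f l') {l₁ : Fin n → D.idx} {l₁' : Fin m → D.idx}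
    (hl₁ : PosList D (-f) l₁) (hl₁' : PosList D f l₁') :
    Set.range (RedSub.cellMap D l₁ l₁').left.base = Set.range (RedSub.cellMap D l l').left.base := by
  haveI : IsAffineHom G.hom := isAffineHom_of_split D
  have key : ∀ {l₂ l₃ : Fin n → D.idx} {l₂' l₃' : Fin m → D.idx}, PosList D (-f) l₂ → PosList D f l₂' →
      PosList D (-f) l₃ → PosList D f l₃' → Set.range (RedSub.cellMap D l₂ l₂').left.base ⊆
        Set.range (RedSub.cellMap D l₃ l₃').left.base := by
    intro l₂ l₃ l₂' l₃' h₂ h₂' h₃ h₃'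
    haveI := mono_cellMap h₃ h₃'
    obtain ⟨p, hp⟩ := exists_lift_of_tests (RedSub.cellMap D l₃ l₃') (RedSub.cellMap D l₂ l₂') fun A _ b q => by
      obtain ⟨y, t, x, rfl⟩ := exists_cellPt D q
      obtain ⟨y', hy'⟩ := exists_word h₃ (hasLimOne_word D (b := b) (h₂.pos D) y)
      obtain ⟨x', hx'⟩ := exists_word h₃' (hasLimOne_word D (b := b) (h₂'.pos D) x)
      exact ⟨cellPt D y' t x', by rw [cellPt_cellMap, cellPt_cellMap, cellWord, cellWord, hy', hx']⟩
    rw [← hp]
    rintro _ ⟨z, rfl⟩
    exact ⟨p.left.base z, rfl⟩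
  exact Set.Subset.antisymm (key hl₁ hl₁' hl hl') (key hl hl' hl₁ hl₁')

end Groth.Agent.RedCell22
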