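import Groth.Agent.RedCell22.Unip

/-!
# Points of the big cell: injectivity and infinitesimal lifting
-/

set_option autoImplicit false
set_option linter.unusedSectionVars false

universe u

open CategoryTheory CategoryTheory.Limits AlgebraicGeometry MonoidalCategory CartesianMonoidalCategory
open MonObj GrpObj
open scoped LaurentPolynomial

noncomputable section

namespace Groth.Agent.RedCell22

variable {S : Scheme.{u}} {A : Type u} [CommRing A] {b : Spec (CommRingCat.of A) ⟶ S}
variable {B C : Type u} [CommRing B] [Algebra A B] [CommRing C] [Algebra A C]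
variable {G : Over S} [GrpObj G] (D : Red.SplitRed G) {n m : ℕ}

theorem coVal_neg (f : D.M →+ ℤ) (z : Bˣ) : coVal D (-f) z = coVal D f z⁻¹ := by
  refine MonoidHom.ext fun m => ?_
  simp [coVal, zpowersHom_apply]

theorem conj_lam_neg (f : D.M →+ ℤ) (g : tb b B ⟶ G) (z : Bˣ) :
    (lam D (-f)).conj g z = (lam D f).conj g z⁻¹ := by
  show tG D (tpt D (coVal D (-f) z)) * g * (tG D (tpt D (coVal D (-f) z)))⁻¹ =
    tG D (tpt D (coVal D f z⁻¹)) * g * (tG D (tpt D (coVal D f z⁻¹)))⁻¹
  rw [coVal_neg]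

theorem orb_lam_neg (f : D.M →+ ℤ) (g : tb b B ⟶ G) :
    (lam D (-f)).orb g = tm b (subst (CL (A := A) (B := B)) (Tu B)⁻¹) ≫ (lam D f).orb g := by
  rw [Cochar.subst_orb]
  exact conj_lam_neg D f _ _

theorem coeff_subst_inv (p : B[T;T⁻¹]) (k : ℤ) :
    (subst (CL (A := A) (B := B)) (Tu B)⁻¹ p).coeff k = p.coeff (-k) := by
  induction p using AddMonoidAlgebra.induction_linear with
  | zero => simp
  | add p q hp hq =>
    rw [map_add, AddMonoidAlgebra.coeff_add, Finsupp.add_apply, hp, hq, AddMonoidAlgebra.coeff_add,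
      Finsupp.add_apply]
  | single j x =>
    rw [LaurentPolynomial.single_eq_C_mul_T, map_mul, subst_C, subst_T, inv_zpow', Tu_zpow, CL_apply,
      ← LaurentPolynomial.single_eq_C_mul_T, ← LaurentPolynomial.single_eq_C_mul_T, AddMonoidAlgebra.coeff_single,
      AddMonoidAlgebra.coeff_single]
    rcases eq_or_ne (-j) k with rfl | h
    · simp
    · rw [Finsupp.single_eq_of_ne h.symm, Finsupp.single_eq_of_ne (by omega)]

variable [IsAffineHom G.hom]

theorem ev_proj_neg (f : D.M →+ ℤ) (g : tb b B ⟶ G) (k : ℤ) (h : FunRing b G) :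
    ev b g ((lam D (-f)).proj k h) = ev b g ((lam D f).proj (-k) h) := by
  rw [← Cochar.coeff_ev_orb, orb_lam_neg, ev_comp, AlgHom.comp_apply, coeff_subst_inv, Cochar.coeff_ev_orb]

/-- A point with limit one for a cocharacter and a limit for the opposite one is the unit. -/
theorem eq_one_of_opposite {f : D.M →+ ℤ} {g : tb b B ⟶ G} (hg : (lam D f).HasLim g)
    (hg' : (lam D (-f)).HasLimOne g) : g = 1 := by
  obtain ⟨hlim, hz⟩ := (Cochar.hasLimOne_iff _ g).mp hg'
  refine ev_injective b (AlgHom.ext fun q => ?_)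
  conv_lhs => rw [← (lam D f).sum_proj q]
  rw [ev_one, map_finsuppSum, Finsupp.sum_eq_single (0 : ℤ)]
  · show ev b g ((lam D f).proj 0 q) = _
    have := ev_proj_neg D f g 0 q
    rw [neg_zero] at this
    rw [← this, hz]
  · intro k _ hk
    show ev b g ((lam D f).proj k q) = 0
    rcases lt_or_gt_of_ne hk with h | h
    · exact (Cochar.hasLim_iff _ g).mp hg k h q
    · have := (Cochar.hasLim_iff _ g).mp hlim (-k) (by omega) q
      rwa [ev_proj_neg, neg_neg] at this
  · intro _; simp

theorem hasLim_tG (f : D.M →+ ℤ) (t : tb b B ⟶ D.T) : (lam D f).HasLim (tG D t) :=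
  (fixed_tG D f t).hasLim _

theorem conj_word (t : tb b B ⟶ D.T) (l : Fin m → D.idx) (x : Fin m → B) :
    tG D t * word D l x * (tG D t)⁻¹ = word D l fun k => (chr D (D.P.root (l k)) t : B) * x k := by
  refine (map_list_prod (MulAut.conj (tG D t)).toMonoidHom _).trans ?_
  rw [List.map_ofFn]
  exact congrArg List.prod (congrArg List.ofFn (funext fun k => conj_ua D t (l k) (x k)))

/-- The product over the cell. -/
def cellWord (l : Fin n → D.idx) (l' : Fin m → D.idx) (y : Fin n → B) (t : tb b B ⟶ D.T) (x : Fin m → B) :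
    tb b B ⟶ G :=
  word D l y * (tG D t * word D l' x)

variable {D} {f : D.M →+ ℤ} {l : Fin n → D.idx} {l' : Fin m → D.idx}

theorem cellWord_injective (hl : PosList D (-f) l) (hl' : PosList D f l') {y y' : Fin n → B}
    {t t' : tb b B ⟶ D.T} {x x' : Fin m → B} (h : cellWord D l l' y t x = cellWord D l l' y' t' x') :
    y = y' ∧ t = t' ∧ x = x' := by
  have hL : ∀ (t : tb b B ⟶ D.T) (x : Fin m → B), (lam D f).HasLim (tG D t * word D l' x : tb b B ⟶ G) :=
    fun t x => (hasLim_tG D f t).mul _ ((hasLimOne_word D (hl'.pos D) x).hasLim _)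
  have e1 : (word D l y')⁻¹ * word D l y = (tG D t' * word D l' x') * (tG D t * word D l' x)⁻¹ := by
    rw [eq_mul_inv_iff_mul_eq, _root_.mul_assoc, show word D l y * (tG D t * word D l' x) = _ from h]
    simp [cellWord]
  have hy : ((word D l y')⁻¹ * word D l y : tb b B ⟶ G) = 1 :=
    eq_one_of_opposite D (e1 ▸ (hL t' x').mul _ ((hL t x).inv _))
      (((hasLimOne_word D (hl.pos D) y').inv _).mul _ (hasLimOne_word D (hl.pos D) y))
  have hy' : y = y' := word_injective hl (inv_mul_eq_one.mp hy).symm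
  subst hy'
  have e2 : tG D t * word D l' x = tG D t' * word D l' x' := mul_left_cancel h
  have hfix : (lam D f).IsFixed ((tG D t')⁻¹ * tG D t) := by
    rw [← tG_inv, ← tG_mul]
    exact fixed_tG D f _
  have e3 : (tG D t')⁻¹ * tG D t = word D l' x' * (word D l' x)⁻¹ := by
    rw [eq_mul_inv_iff_mul_eq, _root_.mul_assoc, e2, inv_mul_cancel_left]
  have ht : t = t' := by
    have := Cochar.eq_one_of_fixed_of_limOne _ hfix
      (e3 ▸ (hasLimOne_word D (hl'.pos D) x').mul _ ((hasLimOne_word D (hl'.pos D) x).inv _))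
    exact tG_injective D (inv_mul_eq_one.mp this).symm
  subst ht
  exact ⟨rfl, rfl, word_injective hl' (mul_left_cancel e2)⟩

/-- The value of the linearised product. -/
theorem dl_word {I : Ideal B} (hI : I ^ 2 = ⊥) (l : Fin m → D.idx) (c : Fin m → B) (hc : ∀ k, c k ∈ I)
    (hc2 : ∀ k, c k * c k = 0) (g : FunRing b G) :
    Inf I (word D l c : tb b B ⟶ G) ∧
      dl (word D l c : tb b B ⟶ G) g = ∑ k, algebraMap A B (del D (.inl (l k)) g) * c k := by
  induction m with
  | zero =>
    rw [word, List.ofFn_zero, List.prod_nil, Finset.univ_eq_empty, Finset.sum_empty, dl_one]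
    exact ⟨inf_one I, rfl⟩
  | succ m ih =>
    obtain ⟨ih1, ih2⟩ := ih (fun k => l k.succ) (fun k => c k.succ) (fun k => hc _) fun k => hc2 _
    have h1 : Inf I (el D (.inl (l 0)) (c 0) (hc2 0) : tb b B ⟶ G) := inf_el D _ (hc 0) _
    rw [word, List.ofFn_succ, List.prod_cons, Fin.sum_univ_succ]
    refine ⟨h1.mul_mem ih1, ?_⟩
    refine (dl_mul hI h1 ih1 g).trans ?_
    rw [dl_el]
    exact congrArg₂ (· + ·) rfl ih2

/-- An infinitesimal point is a product of the root groups and the torus. -/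
theorem exists_cellWord_of_inf (hl : PosList D (-f) l) (hl' : PosList D f l')
    (hreg : ∀ a, f (D.P.root a) ≠ 0) {I : Ideal B} (hI : I ^ 2 = ⊥) {g : tb b B ⟶ G} (hg : Inf I g) :
    ∃ (y : Fin n → B) (t : tb b B ⟶ D.T) (x : Fin m → B), g = cellWord D l l' y t x := by
  classical
  obtain ⟨w, hw0, hw⟩ := exists_dual D (b := b)
  let c : TIdx D → B := fun j => dl g (w j)
  have hc : ∀ j, c j ∈ I := fun j => hg _
  have hc2 : ∀ j, c j * c j = 0 := fun j => mul_eq_zero_of_mem hI (hc j) (hc j)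
  let τ := fun i => c (.inr i)
  refine ⟨fun k => c (.inl (l k)), tpt D (∏ i, coVal D (coordFn D i) (sqUnit (τ i) (hc2 _))),
    fun k => c (.inl (l' k)), ?_⟩
  refine eq_of_dl fun q => ?_
  obtain ⟨a1, a2⟩ := dl_word (b := b) hI l (fun k => c (.inl (l k))) (fun k => hc _) (fun k => hc2 _) q
  obtain ⟨b1, b2⟩ := dl_word (b := b) hI l' (fun k => c (.inl (l' k))) (fun k => hc _) (fun k => hc2 _) q
  obtain ⟨c1, c2⟩ := dl_torusInf D (b := b) hI τ (fun i => hc _) (fun i => hc2 _) q
  refine Eq.trans ?_ (dl_mul hI a1 (c1.mul_mem b1) q).symm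
  show _ = _ + dl (torusInf D τ _ * word D l' _) q
  rw [dl_mul hI c1 b1 q, a2, b2, c2, dl_eq_sum D hI hw0 hw hg q, Fintype.sum_sum_type]
  have hsplit : (∑ a, algebraMap A B (del D (.inl a) q) * c (.inl a)) =
      (∑ k, algebraMap A B (del D (.inl (l k)) q) * c (.inl (l k))) +
        ∑ k, algebraMap A B (del D (.inl (l' k)) q) * c (.inl (l' k)) := by
    rw [← Finset.sum_filter_add_sum_filter_not Finset.univ (fun a => 0 < (-f) (D.P.root a))]
    congr 1
    · refine (Finset.sum_nbij l (fun k _ => ?_) (hl.inj.injOn) (fun a ha => ?_) fun k _ => rfl).symm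
      · have := hl.pos D k
        simp only [AddMonoidHom.neg_apply] at this
        simpa using this
      · obtain ⟨k, rfl⟩ := (hl.mem_iff a).mpr (by simpa using ha)
        exact ⟨k, by simp, rfl⟩
    · refine (Finset.sum_nbij l' (fun k _ => ?_) (hl'.inj.injOn) (fun a ha => ?_) fun k _ => rfl).symm
      · simp [(hl'.pos D k).le]
      · have : 0 < f (D.P.root a) := by
          have h1 : ¬ 0 < (-f) (D.P.root a) := by simpa using ha
          have := hreg a
          simp only [AddMonoidHom.neg_apply, Left.neg_pos_iff, not_lt] at h1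
          omega
        obtain ⟨k, rfl⟩ := (hl'.mem_iff a).mpr this
        exact ⟨k, by simp, rfl⟩
  rw [hsplit]
  abel

/-- The cell is stable under infinitesimal deformation. -/
theorem exists_cellWord_of_mod (hl : PosList D (-f) l) (hl' : PosList D f l')
    (hreg : ∀ a, f (D.P.root a) ≠ 0) {I : Ideal B} (hI : I ^ 2 = ⊥) {g : tb b B ⟶ G}
    {y : Fin n → B} {t : tb b B ⟶ D.T} {x : Fin m → B}
    (h : tm b (Ideal.Quotient.mkₐ A I) ≫ g = tm b (Ideal.Quotient.mkₐ A I) ≫ cellWord D l l' y t x) :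
    ∃ (y' : Fin n → B) (t' : tb b B ⟶ D.T) (x' : Fin m → B), g = cellWord D l l' y' t' x' := by
  let κ : tb b B ⟶ G := (word D l y)⁻¹ * g * (tG D t * word D l' x)⁻¹
  have hκ : Inf I κ := by
    refine (inf_iff_eq_one I κ).mpr ?_
    simp only [κ, tm_mul, tm_inv, h, cellWord]
    simp [_root_.mul_assoc]
  obtain ⟨cy, ct, cx, hc⟩ := exists_cellWord_of_inf hl hl' hreg hI hκ
  obtain ⟨y', hy'⟩ := exists_word hl
    ((hasLimOne_word D (b := b) (hl.pos D) y).mul _ (hasLimOne_word D (b := b) (hl.pos D) cy))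
  have hconj : (tG D t)⁻¹ * word D l' cx * tG D t =
      word D l' fun k => (chr D (D.P.root (l' k)) t⁻¹ : B) * cx k := by
    rw [← conj_word, tG_inv, _root_.inv_inv]
  obtain ⟨x', hx'⟩ := exists_word hl'
    ((hasLimOne_word D (b := b) (hl'.pos D) fun k => (chr D (D.P.root (l' k)) t⁻¹ : B) * cx k).mul _
      (hasLimOne_word D (hl'.pos D) x))
  refine ⟨y', ct * t, x', ?_⟩
  have hg : g = word D l y * κ * (tG D t * word D l' x) := by
    simp [κ, _root_.mul_assoc]
  rw [hg, hc, cellWord, cellWord, hy', hx', tG_mul, ← hconj]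
  simp [_root_.mul_assoc]

end Groth.Agent.RedCell22
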