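import Groth.Agent.RedCell22.Pts
import Groth.Prelude.Def_AlgGrp
import Mathlib.Algebra.Polynomial.Laurent

/-!
# The grading of the functions of an affine group defined by a cocharacter, and limits of conjugates
-/

set_option autoImplicit false

universe u

open CategoryTheory CategoryTheory.Limits AlgebraicGeometry MonoidalCategory CartesianMonoidalCategory
open MonObj GrpObj
open scoped LaurentPolynomial

noncomputable section

namespace Groth.Agent.RedCell22

variable {S : Scheme.{u}} {A : Type u} [CommRing A] {b : Spec (CommRingCat.of A) ⟶ S} {G : Over S} [GrpObj G]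

/-- A cocharacter, given by its values on units of algebras over the test ring. -/
structure Cochar (b : Spec (CommRingCat.of A) ⟶ S) (G : Over S) [GrpObj G] where
  /-- the value at a unit -/
  val : ∀ (B : Type u) [CommRing B] [Algebra A B], Bˣ →* (tb b B ⟶ G)
  map : ∀ {B C : Type u} [CommRing B] [Algebra A B] [CommRing C] [Algebra A C] (φ : B →ₐ[A] C) (z : Bˣ),
    tm b φ ≫ val B z = val C (Units.map (φ : B →* C) z)

variable {B C : Type u} [CommRing B] [Algebra A B] [CommRing C] [Algebra A C]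

theorem tm_mul (φ : B →ₐ[A] C) (g h : tb b B ⟶ G) : tm b φ ≫ (g * h) = (tm b φ ≫ g) * (tm b φ ≫ h) :=
  MonObj.comp_mul _ _ _

theorem tm_inv (φ : B →ₐ[A] C) (g : tb b B ⟶ G) : tm b φ ≫ g⁻¹ = (tm b φ ≫ g)⁻¹ :=
  GrpObj.comp_inv _ _

theorem tm_one (φ : B →ₐ[A] C) : tm b φ ≫ (1 : tb b B ⟶ G) = 1 := MonObj.comp_one _

/-- The variable as a unit. -/
def Tu (R : Type u) [CommRing R] : (R[T;T⁻¹])ˣ where
  val := LaurentPolynomial.T 1
  inv := LaurentPolynomial.T (-1)
  val_inv := by rw [← LaurentPolynomial.T_add]; simp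
  inv_val := by rw [← LaurentPolynomial.T_add]; simp

theorem Tu_zpow (R : Type u) [CommRing R] (n : ℤ) : ((Tu R ^ n : _ˣ) : R[T;T⁻¹]) = LaurentPolynomial.T n := by
  induction n using Int.induction_on with
  | zero => simp
  | succ i hi => rw [zpow_add_one, Units.val_mul, hi]; exact (LaurentPolynomial.T_add _ _).symm
  | pred i hi => rw [zpow_sub_one, Units.val_mul, hi]; exact (LaurentPolynomial.T_sub _ _).symm

/-- The constants. -/
def CL : B →ₐ[A] B[T;T⁻¹] where
  toRingHom := LaurentPolynomial.C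
  commutes' _ := rfl

theorem CL_apply (x : B) : (CL (A := A) x : B[T;T⁻¹]) = LaurentPolynomial.C x := rfl

/-- The constants, on units. -/
def CLu : Bˣ →* (B[T;T⁻¹])ˣ := Units.map (LaurentPolynomial.C : B →+* B[T;T⁻¹]).toMonoidHom

theorem CLu_eq (z : Bˣ) : Units.map ((CL : B →ₐ[A] B[T;T⁻¹]) : B →* B[T;T⁻¹]) z = CLu z := rfl

/-- Functoriality in the coefficients. -/
def mapL (φ : B →ₐ[A] C) : B[T;T⁻¹] →ₐ[A] C[T;T⁻¹] := AddMonoidAlgebra.mapAlgHom ℤ φ

theorem mapL_coeff (φ : B →ₐ[A] C) (p : B[T;T⁻¹]) (n : ℤ) : (mapL φ p).coeff n = φ (p.coeff n) := by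
  simp [mapL]

theorem mapL_C (φ : B →ₐ[A] C) (x : B) : mapL φ (LaurentPolynomial.C x) = LaurentPolynomial.C (φ x) := by
  ext n
  rw [mapL_coeff, LaurentPolynomial.C_apply, LaurentPolynomial.C_apply]
  split <;> simp

theorem mapL_T (φ : B →ₐ[A] C) (k : ℤ) : mapL φ (LaurentPolynomial.T k) = LaurentPolynomial.T k := by
  ext n
  rw [mapL_coeff, LaurentPolynomial.T_apply, LaurentPolynomial.T_apply]
  split <;> simp

theorem mapL_Tu (φ : B →ₐ[A] C) : Units.map (mapL φ : B[T;T⁻¹] →* C[T;T⁻¹]) (Tu B) = Tu C :=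
  Units.ext (mapL_T φ 1)

theorem mapL_comp_CL (φ : B →ₐ[A] C) : (mapL φ).comp CL = CL.comp φ := AlgHom.ext (mapL_C φ)

/-- Substitution of a unit for the variable. -/
def subst (φ : B →ₐ[A] C) (z : Cˣ) : B[T;T⁻¹] →ₐ[A] C where
  toRingHom := LaurentPolynomial.eval₂ φ.toRingHom z
  commutes' a := (LaurentPolynomial.eval₂_C _ _ _).trans (φ.commutes a)

theorem subst_C (φ : B →ₐ[A] C) (z : Cˣ) (x : B) : subst φ z (LaurentPolynomial.C x) = φ x :=
  LaurentPolynomial.eval₂_C _ _ _

theorem subst_T (φ : B →ₐ[A] C) (z : Cˣ) (n : ℤ) : subst φ z (LaurentPolynomial.T n) = ((z ^ n : Cˣ) : C) :=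
  LaurentPolynomial.eval₂_T _ _ _

theorem subst_comp_CL (φ : B →ₐ[A] C) (z : Cˣ) : (subst φ z).comp CL = φ := AlgHom.ext (subst_C φ z)

theorem subst_Tu (φ : B →ₐ[A] C) (z : Cˣ) : Units.map (subst φ z : B[T;T⁻¹] →* C) (Tu B) = z :=
  Units.ext ((subst_T φ z 1).trans (by simp))

theorem subst_eq_sum (φ : B →ₐ[A] C) (z : Cˣ) (p : B[T;T⁻¹]) :
    subst φ z p = p.coeff.sum fun n x => φ x * ((z ^ n : Cˣ) : C) := by
  induction p using AddMonoidAlgebra.induction_linear with
  | zero => simp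
  | add p q hp hq =>
    rw [map_add, hp, hq, AddMonoidAlgebra.coeff_add, Finsupp.sum_add_index' (fun n => by simp)
      (fun n x y => by rw [map_add, add_mul])]
  | single n x =>
    rw [LaurentPolynomial.single_eq_C_mul_T, map_mul, subst_C, subst_T, ← LaurentPolynomial.single_eq_C_mul_T,
      AddMonoidAlgebra.coeff_single, Finsupp.sum_single_index (by simp)]

namespace Cochar

variable (c : Cochar b G)

/-- Conjugation by the value at a unit. -/
def conj (g : tb b B ⟶ G) (z : Bˣ) : tb b B ⟶ G := c.val B z * g * (c.val B z)⁻¹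

theorem conj_map (φ : B →ₐ[A] C) (g : tb b B ⟶ G) (z : Bˣ) :
    tm b φ ≫ c.conj g z = c.conj (tm b φ ≫ g) (Units.map (φ : B →* C) z) := by
  rw [conj, conj, tm_mul, tm_mul, tm_inv, c.map]

theorem conj_one (z : Bˣ) : c.conj (1 : tb b B ⟶ G) z = 1 := by simp [conj]

theorem conj_mul (g h : tb b B ⟶ G) (z : Bˣ) : c.conj (g * h) z = c.conj g z * c.conj h z := by
  simp [conj, _root_.mul_assoc]

theorem conj_inv (g : tb b B ⟶ G) (z : Bˣ) : c.conj g⁻¹ z = (c.conj g z)⁻¹ := by simp [conj, _root_.mul_assoc]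

theorem conj_conj (g : tb b B ⟶ G) (z w : Bˣ) : c.conj (c.conj g w) z = c.conj g (z * w) := by
  simp [conj, map_mul, _root_.mul_assoc]

theorem conj_unit_one (g : tb b B ⟶ G) : c.conj g 1 = g := by simp [conj]

/-- The orbit of a point over Laurent polynomials. -/
def orb (g : tb b B ⟶ G) : tb b (B[T;T⁻¹]) ⟶ G := c.conj (tm b CL ≫ g) (Tu B)

theorem orb_mul (g h : tb b B ⟶ G) : c.orb (g * h) = c.orb g * c.orb h := by rw [orb, tm_mul, conj_mul]; rfl

theorem orb_inv (g : tb b B ⟶ G) : c.orb g⁻¹ = (c.orb g)⁻¹ := by rw [orb, tm_inv, conj_inv]; rfl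

theorem orb_one : c.orb (1 : tb b B ⟶ G) = 1 := by rw [orb, tm_one, conj_one]

theorem orb_map (φ : B →ₐ[A] C) (g : tb b B ⟶ G) : tm b (mapL φ) ≫ c.orb g = c.orb (tm b φ ≫ g) := by
  rw [orb, orb, conj_map, mapL_Tu, ← Category.assoc, tm_comp, mapL_comp_CL, ← tm_comp, Category.assoc]

theorem subst_orb (φ : B →ₐ[A] C) (z : Cˣ) (g : tb b B ⟶ G) :
    tm b (subst φ z) ≫ c.orb g = c.conj (tm b φ ≫ g) z := by
  rw [orb, conj_map, subst_Tu, ← Category.assoc, tm_comp, subst_comp_CL]

variable [IsAffineHom G.hom]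

/-- The coaction on functions. -/
def co : FunRing b G →ₐ[A] (FunRing b G)[T;T⁻¹] := ev b (c.orb (univ b))

theorem ev_orb (g : tb b B ⟶ G) : ev b (c.orb g) = (mapL (ev b g)).comp c.co := by
  conv_lhs => rw [eq_tm_univ b g, ← orb_map]
  rw [ev_comp, co]

/-- The homogeneous components. -/
def proj (n : ℤ) : FunRing b G →ₗ[A] FunRing b G where
  toFun f := (c.co f).coeff n
  map_add' f g := by simp
  map_smul' a f := by simp

theorem proj_apply (n : ℤ) (f : FunRing b G) : c.proj n f = (c.co f).coeff n := rfl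

theorem sum_proj (f : FunRing b G) : ((c.co f).coeff.sum fun _ x => x) = f := by
  have h := AlgHom.congr_fun (ev_comp b (subst (AlgHom.id A (FunRing b G)) 1) (c.orb (univ b))) f
  rw [subst_orb, tm_id, Category.id_comp, conj_unit_one, ev_univ, AlgHom.comp_apply] at h
  rw [subst_eq_sum] at h
  simpa [co] using h.symm

theorem coeff_subst_tower (p : (FunRing b G)[T;T⁻¹]) (n : ℤ) :
    (subst (CL.comp (CL : FunRing b G →ₐ[A] _))
      (Tu (FunRing b G)[T;T⁻¹] * CLu (Tu (FunRing b G))) p).coeff n =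
      LaurentPolynomial.C (p.coeff n) * LaurentPolynomial.T n := by
  induction p using AddMonoidAlgebra.induction_linear with
  | zero => simp
  | add p q hp hq => simp [map_add, hp, hq, add_mul]
  | single k x =>
    have hT : ((CLu (Tu (FunRing b G)) ^ k : _ˣ) :
        ((FunRing b G)[T;T⁻¹])[T;T⁻¹]) = LaurentPolynomial.C (LaurentPolynomial.T k) := by
      rw [← map_zpow]
      exact congrArg LaurentPolynomial.C (Tu_zpow _ k)
    rw [LaurentPolynomial.single_eq_C_mul_T, map_mul, subst_C, subst_T, mul_zpow, Units.val_mul, Tu_zpow, hT,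
      AlgHom.comp_apply, CL_apply, CL_apply, mul_comm (LaurentPolynomial.T k), ← _root_.mul_assoc, ← map_mul,
      ← LaurentPolynomial.single_eq_C_mul_T, ← LaurentPolynomial.single_eq_C_mul_T,
      AddMonoidAlgebra.coeff_single, AddMonoidAlgebra.coeff_single]
    rcases eq_or_ne k n with rfl | hk
    · simp
    · simp [hk]

theorem co_proj (n : ℤ) (f : FunRing b G) :
    c.co (c.proj n f) = LaurentPolynomial.C (c.proj n f) * LaurentPolynomial.T n := by
  have h : c.orb (c.orb (univ b)) = tm b (subst (CL.comp CL)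
      (Tu (FunRing b G)[T;T⁻¹] * CLu (Tu (FunRing b G)))) ≫ c.orb (univ b) := by
    rw [subst_orb]
    conv_lhs => rw [orb, orb, conj_map, conj_conj, ← Category.assoc, tm_comp]
    rfl
  have e := congrArg (fun q => ((ev b q) f).coeff n) h
  simp only [ev_orb, ev_comp, ev_univ, AlgHom.comp_apply] at e
  rw [mapL_coeff, coeff_subst_tower] at e
  rw [show mapL (AlgHom.id A (FunRing b G)) = AlgHom.id A _ from
    AlgHom.ext fun p => by ext k; rw [mapL_coeff]; rfl] at e
  exact e

theorem proj_proj (m n : ℤ) (f : FunRing b G) : c.proj m (c.proj n f) = if m = n then c.proj n f else 0 := by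
  rw [proj_apply, co_proj, ← LaurentPolynomial.single_eq_C_mul_T, AddMonoidAlgebra.coeff_single,
    Finsupp.single_apply]
  simp [eq_comm]

/-- A point with a limit. -/
def HasLim (g : tb b B ⟶ G) : Prop :=
  ∃ h : tb b (Polynomial B) ⟶ G, tm b ((Polynomial.toLaurentAlg (R := B)).restrictScalars A) ≫ h = c.orb g

/-- A point whose limit is the unit. -/
def HasLimOne (g : tb b B ⟶ G) : Prop :=
  ∃ h : tb b (Polynomial B) ⟶ G, tm b ((Polynomial.toLaurentAlg (R := B)).restrictScalars A) ≫ h = c.orb g ∧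
    tm b ((Polynomial.aeval (0 : B)).restrictScalars A) ≫ h = 1

/-- A point fixed by the cocharacter. -/
def IsFixed (g : tb b B ⟶ G) : Prop := c.orb g = tm b CL ≫ g

end Cochar

end Groth.Agent.RedCell22
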