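import Groth.Agent.RedCell22.Coord

/-!
# Commutators of two root groups
-/

set_option autoImplicit false
set_option linter.unusedSectionVars false
set_option linter.style.haveILetI false

universe u

open CategoryTheory CategoryTheory.Limits AlgebraicGeometry MonoidalCategory CartesianMonoidalCategory
open MonObj GrpObj

noncomputable section

namespace Groth.Agent.RedCell22

variable {S : Scheme.{u}} {G : Over S} [GrpObj G] {D : Red.SplitRed G} {A : Type u} [CommRing A]
variable {b : Spec (CommRingCat.of A) ⟶ S} {B : Type u} [CommRing B] [Algebra A B] {p : ℕ}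

theorem word_one (a : D.idx) (x : B) :
    (word D (fun _ : Fin 1 => a) (fun _ => x) : tb b B ⟶ G) = ua D a x := by
  rw [word, List.ofFn_succ, List.ofFn_zero, List.prod_singleton]

/-- The region of the commutator. -/
def posPair (i j : ℤ) : Prop := 0 < i ∧ 0 < j

/-- The roots occurring in the commutator of two root groups. -/
def commSet (D : Red.SplitRed G) (a c : D.idx) : Set D.idx := cone D a c posPair

theorem isClosedSet_commSet {a c : D.idx} (hind : Indep D.P a c) : IsClosedSet D.P (commSet D a c) :=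
  isClosedSet_cone hind (fun i j i' j' h h' => ⟨by linarith [h.1, h'.1], by linarith [h.2, h'.2]⟩)
    fun i j h h' => absurd h'.1 (by linarith [h.1])

theorem commSet_swap (a c : D.idx) : commSet D a c = commSet D c a := by
  ext r
  constructor <;> rintro ⟨i, j, ⟨hi, hj⟩, hr⟩ <;> exact ⟨j, i, ⟨hj, hi⟩, by rw [hr]; abel⟩

/-- The commutator of two independent root groups, in coordinates. -/
theorem exists_comm [IsAffineHom G.hom] {a c : D.idx} (hind : Indep D.P a c) {e : Fin p → D.idx}
    (he : RedSub.Enumerates (commSet D a c) e) (b : Spec (CommRingCat.of A) ⟶ S) :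
    ∃ (C : Fin p → A) (I J : Fin p → ℕ),
      (∀ k, 0 < I k ∧ 0 < J k ∧ D.P.root (e k) = (I k : ℤ) • D.P.root a + (J k : ℤ) • D.P.root c) ∧
      ∀ (B : Type u) [CommRing B] [Algebra A B] (x y : B),
        (word D e (fun k => algebraMap A B (C k) * x ^ I k * y ^ J k) : tb b B ⟶ G) =
          ua D a x * ua D c y * (ua D a x)⁻¹ * (ua D c y)⁻¹ := by
  classical
  let R : ℤ → ℤ → Prop := fun i j => 0 ≤ i ∧ 0 ≤ j ∧ 0 < i + j
  have hΦ : IsClosedSet D.P (cone D a c R) := isClosedSet_cone hind
    (fun i j i' j' h h' => ⟨by linarith [h.1, h'.1], by linarith [h.2.1, h'.2.1], by linarith [h.2.2, h'.2.2]⟩)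
    fun i j h h' => absurd h'.2.2 (by linarith [h.2.2])
  obtain ⟨f, hf⟩ := hΦ.exists_form
  have hfa : 0 < f (D.P.root a) := hf a ⟨1, 0, ⟨zero_le_one, le_rfl, by norm_num⟩, by simp⟩
  have hfc : 0 < f (D.P.root c) := hf c ⟨0, 1, ⟨le_rfl, zero_le_one, by norm_num⟩, by simp⟩
  have hsub : commSet D a c ⊆ cone D a c R := fun r ⟨i, j, h, hr⟩ =>
    ⟨i, j, ⟨h.1.le, h.2.le, add_pos h.1 h.2⟩, hr⟩
  obtain ⟨q, e', hl⟩ := exists_extend (fun r hr => hf r (hsub hr)) he
  choose i j hij hroot using fun k => ((Set.ext_iff.mp he.2 (e k)).mp ⟨k, rfl⟩ : e k ∈ commSet D a c)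
  let ω : Fin 2 → D.M := ![D.P.root a, D.P.root c]
  let ga : tb b (MvPolynomial (Fin 2) A) ⟶ G := ua D a (MvPolynomial.X 0)
  let gc : tb b (MvPolynomial (Fin 2) A) ⟶ G := ua D c (MvPolynomial.X 1)
  have hga : Equivariant D ω ga := by
    show Equivariant D ω (ua D a _)
    rw [← word_one]
    exact equivariant_word_X _ (fun _ => 0) fun _ => rfl
  have hgc : Equivariant D ω gc := by
    show Equivariant D ω (ua D c _)
    rw [← word_one]
    exact equivariant_word_X _ (fun _ => 1) fun _ => rfl
  have hla : (lam D f).HasLimOne ga := hasLimOne_ua D hfa _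
  have hlc : (lam D f).HasLimOne gc := hasLimOne_ua D hfc _
  obtain ⟨z, hz⟩ := exists_word (b := b) hl
    (((hla.mul _ hlc).mul _ (hla.inv _)).mul _ (hlc.inv _))
  have heq : Equivariant D ω (word D (Fin.append e e') z) := hz.symm ▸ ((hga.mul hgc).mul hga.inv).mul hgc.inv
  have hw : ∀ k d, MvPolynomial.coeff d (z k) ≠ 0 →
      D.P.root (Fin.append e e' k) = (d 0 : ℤ) • D.P.root a + (d 1 : ℤ) • D.P.root c := fun k d hd => by
    rw [← weight_coord hl heq k d hd, Finsupp.weight_apply, Finsupp.sum_fintype]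
    · simp [ω, Fin.sum_univ_two, natCast_zsmul]
    · exact fun v => zero_smul ℕ _
  have heval : ∀ (B : Type u) [CommRing B] [Algebra A B] (x y : B),
      (word D (Fin.append e e') (fun k => MvPolynomial.aeval ![x, y] (z k)) : tb b B ⟶ G) =
        ua D a x * ua D c y * (ua D a x)⁻¹ * (ua D c y)⁻¹ := fun B _ _ x y => by
    rw [← word_map, hz, tm_mul, tm_mul, tm_mul, tm_inv, tm_inv, ua_map, ua_map, MvPolynomial.aeval_X,
      MvPolynomial.aeval_X]
    rfl
  have haeval : ∀ (B : Type u) [CommRing B] [Algebra A B] (x y : B) (k : Fin (p + q)) (m n : ℕ),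
      (∀ d, MvPolynomial.coeff d (z k) ≠ 0 → d 0 = m ∧ d 1 = n) → MvPolynomial.aeval ![x, y] (z k) =
        algebraMap A B (MvPolynomial.coeff (Finsupp.single 0 m + Finsupp.single 1 n) (z k)) * x ^ m * y ^ n := by
    intro B _ _ x y k m n hmn
    have hd : ∀ d, d ≠ Finsupp.single 0 m + Finsupp.single 1 n → MvPolynomial.coeff d (z k) = 0 := fun d hne =>
      by_contra fun hd => hne (Finsupp.ext fun v => by fin_cases v <;> simp [hmn d hd])
    have hmono : z k = MvPolynomial.monomial (Finsupp.single 0 m + Finsupp.single 1 n)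
        (MvPolynomial.coeff (Finsupp.single 0 m + Finsupp.single 1 n) (z k)) := by
      ext d
      rw [MvPolynomial.coeff_monomial]
      split_ifs with he
      · rw [he]
      · exact hd d (Ne.symm he)
    conv_lhs => rw [hmono]
    rw [MvPolynomial.aeval_monomial, Finsupp.prod_fintype _ _ (fun _ => pow_zero _), Fin.prod_univ_two]
    simp [_root_.mul_assoc]
  have hunique : ∀ k d d', MvPolynomial.coeff d (z k) ≠ 0 → MvPolynomial.coeff d' (z k) ≠ 0 →
      d 0 = d' 0 ∧ d 1 = d' 1 := fun k d d' hd hd' => by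
    have := hind.eq ((hw k d hd).symm.trans (hw k d' hd'))
    exact ⟨by exact_mod_cast this.1, by exact_mod_cast this.2⟩
  have h0 : ∀ r, z (Fin.natAdd p r) = 0 := by
    intro r
    by_contra hne
    obtain ⟨d, hd⟩ := MvPolynomial.ne_zero_iff.mp hne
    have hr : D.P.root (e' r) = (d 0 : ℤ) • D.P.root a + (d 1 : ℤ) • D.P.root c := by
      rw [← hw _ d hd, Fin.append_right]
    have hpure : d 0 = 0 ∨ d 1 = 0 := by
      by_contra hcon
      push Not at hcon
      obtain ⟨k, hk⟩ : e' r ∈ Set.range e := he.2.symm ▸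
        ⟨_, _, ⟨by exact_mod_cast Nat.pos_of_ne_zero hcon.1, by exact_mod_cast Nat.pos_of_ne_zero hcon.2⟩, hr⟩
      have := hl.inj (show Fin.append e e' (Fin.castAdd q k) = Fin.append e e' (Fin.natAdd p r) by simp [hk])
      simp [Fin.ext_iff] at this
      omega
    have hd01 : d = Finsupp.single 0 (d 0) + Finsupp.single 1 (d 1) := Finsupp.ext fun v => by fin_cases v <;> simp
    have key : ∀ x y : A, (ua D a x * ua D c y * (ua D a x)⁻¹ * (ua D c y)⁻¹ : tb b A ⟶ G) = 1 →
        MvPolynomial.coeff d (z (Fin.natAdd p r)) * x ^ d 0 * y ^ d 1 = 0 := fun x y h1 => by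
      have := congrFun (word_injective hl ((heval A x y).trans (h1.trans (word_zero (b := b) D _).symm))) (Fin.natAdd p r)
      rw [haeval A x y _ _ _ (fun d' hd' => hunique _ d' d hd' hd), Algebra.algebraMap_self, RingHom.id_apply,
        ← hd01] at this
      exact this
    rcases hpure with h | h
    · exact hd (by simpa [h] using key 0 1 (by simp [ua_zero]))
    · exact hd (by simpa [h] using key 1 0 (by simp [ua_zero]))
  have hnat : ∀ k, ((i k).toNat : ℤ) = i k ∧ ((j k).toNat : ℤ) = j k := fun k =>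
    ⟨Int.toNat_of_nonneg (hij k).1.le, Int.toNat_of_nonneg (hij k).2.le⟩
  refine ⟨fun k => MvPolynomial.coeff (Finsupp.single 0 (i k).toNat + Finsupp.single 1 (j k).toNat) (z (Fin.castAdd q k)),
    fun k => (i k).toNat, fun k => (j k).toNat, fun k => ⟨Int.pos_iff_toNat_pos.mp (hij k).1,
      Int.pos_iff_toNat_pos.mp (hij k).2, by rw [(hnat k).1, (hnat k).2, hroot k]⟩, fun B _ _ x y => ?_⟩
  rw [← heval B x y]
  have hsplit : (fun k => MvPolynomial.aeval ![x, y] (z k)) = Fin.append
      (fun k => MvPolynomial.aeval ![x, y] (z (Fin.castAdd q k))) (fun _ => (0 : B)) := funext fun k =>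
    Fin.addCases (fun k => by simp) (fun r => by simp [h0]) k
  rw [hsplit, word_append, word_zero, _root_.mul_one]
  refine congrArg (word D e) (funext fun k => (haeval B x y _ _ _ fun d hd => ?_).symm)
  have h1 := hw _ d hd
  rw [Fin.append_left, hroot k] at h1
  have := hind.eq h1
  exact ⟨by omega, by omega⟩

end Groth.Agent.RedCell22
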