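import Groth.Agent.RedCell22.Law
import Groth.Agent.RedCell22.Pairs

/-!
# Additive coordinates of closed sets of roots
-/

set_option autoImplicit false
set_option linter.unusedSectionVars false
set_option linter.style.haveILetI false

universe u

open CategoryTheory CategoryTheory.Limits AlgebraicGeometry MonoidalCategory CartesianMonoidalCategory
open MonObj GrpObj

noncomputable section

namespace Groth.Agent.RedCell22

variable {S : Scheme.{u}} {G : Over S} [GrpObj G] {D : Red.SplitRed G} {A : Type u} [CommRing A]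
variable {b : Spec (CommRingCat.of A) ⟶ S} {B : Type u} [CommRing B] [Algebra A B] {n p : ℕ}

/-- A root which is only trivially a combination of the roots of a set. -/
def Indec (D : Red.SplitRed G) (Ψ : Set D.idx) (r : D.idx) : Prop :=
  ∀ m' : D.idx → ℕ, (∀ a, m' a ≠ 0 → a ∈ Ψ) → ∑ a, m' a • D.P.root a = D.P.root r → ∀ a, m' a ≠ 0 → a = r

theorem Indec.mono {Ψ Ψ' : Set D.idx} {r : D.idx} (h : Indec D Ψ r) (hsub : Ψ' ⊆ Ψ) : Indec D Ψ' r :=
  fun m' hm' => h m' fun a ha => hsub (hm' a ha)

/-- Outside a closed set every root is trivially indecomposable. -/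
theorem indec_of_notMem {Ψ : Set D.idx} (hc : IsClosedSet D.P Ψ) {r : D.idx} (hr : r ∉ Ψ) : Indec D Ψ r :=
  fun m' hm' hsum => absurd (hc.mem_of_combination r m' hm' hsum) hr

theorem exists_enumerates (Ψ : Set D.idx) : ∃ (p : ℕ) (e : Fin p → D.idx), RedSub.Enumerates Ψ e := by
  classical
  let g := Fintype.equivFin {a : D.idx // a ∈ Ψ}
  exact ⟨_, fun k => (g.symm k).1, Subtype.val_injective.comp g.symm.injective, Set.ext fun a =>
    ⟨fun ⟨k, hk⟩ => hk ▸ (g.symm k).2, fun ha => ⟨g ⟨a, ha⟩, by simp⟩⟩⟩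

theorem word_cons (l : Fin (n + 1) → D.idx) (x : Fin (n + 1) → B) :
    (word D l x : tb b B ⟶ G) = ua D (l 0) (x 0) * word D (fun k => l k.succ) fun k => x k.succ := by
  rw [word, word, List.ofFn_succ, List.prod_cons]

variable [IsAffineHom G.hom] {Ψ Ψ' : Set D.idx} {e : Fin p → D.idx}

/-- At an indecomposable root coordinates add. -/
theorem coord_add (h : IsClosedSet D.P Ψ) (he : RedSub.Enumerates Ψ e) {k : Fin p} (hk : Indec D Ψ' (e k))
    {x y z : Fin p → B} (hx : ∀ i, e i ∉ Ψ' → x i = 0) (hy : ∀ i, e i ∉ Ψ' → y i = 0)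
    (hz : (word D e z : tb b B ⟶ G) = word D e x * word D e y) : z k = x k + y k := by
  classical
  haveI : IsAddTorsionFree D.M := .of_isTorsionFree ℤ D.M
  obtain ⟨Q, hQ⟩ := exists_lawAt h he b
  let cl := MvPolynomial.coeff (Finsupp.single (Sum.inl k) 1) (Q k)
  let cr := MvPolynomial.coeff (Finsupp.single (Sum.inr k) 1) (Q k)
  have key : ∀ x y : Fin p → B, (∀ i, e i ∉ Ψ' → x i = 0) → (∀ i, e i ∉ Ψ' → y i = 0) →
      MvPolynomial.aeval (Sum.elim x y) (Q k) = algebraMap A B cl * x k + algebraMap A B cr * y k := by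
    intro x y hx hy
    have hzero : ∀ d : Fin p ⊕ Fin p →₀ ℕ, d ≠ Finsupp.single (Sum.inl k) 1 → d ≠ Finsupp.single (Sum.inr k) 1 →
        MvPolynomial.coeff d (Q k) = 0 ∨ ∃ v, d v ≠ 0 ∧ Sum.elim x y v = 0 := by
      intro d hl hr
      by_cases hd : MvPolynomial.coeff d (Q k) = 0
      · exact Or.inl hd
      refine Or.inr (by_contra fun hcon => ?_)
      push Not at hcon
      have hsupp : ∀ v, d v ≠ 0 → Sum.elim e e v ∈ Ψ' := fun v hv => by_contra fun hn =>
        hcon v hv (by rcases v with i | i; exacts [hx i hn, hy i hn])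
      have hw := hQ.weight h he k d hd
      let m' : D.idx → ℕ := fun a => ∑ v ∈ d.support with Sum.elim e e v = a, d v
      have hm' : ∀ a, m' a ≠ 0 → a ∈ Ψ' := fun a ha => by
        obtain ⟨v, hv, hv'⟩ := Finset.exists_ne_zero_of_sum_ne_zero ha
        rw [← (Finset.mem_filter.mp hv).2]
        exact hsupp v hv'
      have hsum : ∑ a, m' a • D.P.root a = D.P.root (e k) := by
        rw [← hw, Finsupp.weight_apply, Finsupp.sum, ← Finset.sum_fiberwise d.support (Sum.elim e e)]
        refine Finset.sum_congr rfl fun a _ => ?_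
        rw [Finset.sum_smul]
        exact Finset.sum_congr rfl fun v hv => by rw [(Finset.mem_filter.mp hv).2]
      have honly : ∀ v, d v ≠ 0 → v = Sum.inl k ∨ v = Sum.inr k := fun v hv => by
        have hv' : Sum.elim e e v = e k := hk m' hm' hsum _ fun h0 => hv
          ((Finset.sum_eq_zero_iff.mp h0) v (Finset.mem_filter.mpr ⟨Finsupp.mem_support_iff.mpr hv, rfl⟩))
        rcases v with i | i
        · exact Or.inl (congrArg Sum.inl (he.1 hv'))
        · exact Or.inr (congrArg Sum.inr (he.1 hv'))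
      have hdd : d = Finsupp.single (Sum.inl k) (d (Sum.inl k)) + Finsupp.single (Sum.inr k) (d (Sum.inr k)) := by
        ext v
        by_cases hv : d v = 0
        · rcases v with i | i <;> by_cases hi : i = k <;> simp_all [Finsupp.single_apply]
        · rcases honly v hv with rfl | rfl <;> simp
      have htot : d (Sum.inl k) + d (Sum.inr k) = 1 := by
        have := hw
        rw [hdd, map_add, Finsupp.weight_single, Finsupp.weight_single] at this
        simp only [Sum.elim_inl, Sum.elim_inr, ← add_smul] at this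
        conv_rhs at this => rw [← one_smul ℕ (D.P.root (e k))]
        rw [← natCast_zsmul, ← natCast_zsmul] at this
        exact_mod_cast smul_left_injective ℤ (D.P.ne_zero (e k)) this
      rcases Nat.eq_zero_or_pos (d (Sum.inl k)) with h0 | h0
      · refine hr ?_
        rw [hdd, h0, show d (Sum.inr k) = 1 by omega, Finsupp.single_zero, zero_add]
      · refine hl ?_
        rw [hdd, show d (Sum.inl k) = 1 by omega, show d (Sum.inr k) = 0 by omega, Finsupp.single_zero, add_zero]
    rw [MvPolynomial.aeval_def, MvPolynomial.eval₂_eq']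
    rw [Finset.sum_subset (s₂ := (Q k).support ∪ {Finsupp.single (Sum.inl k) 1, Finsupp.single (Sum.inr k) 1})
      Finset.subset_union_left fun d _ hd => by rw [MvPolynomial.notMem_support_iff.mp hd, map_zero, zero_mul]]
    rw [← Finset.sum_subset (Finset.subset_union_right (s₁ := (Q k).support)) fun d _ hd => ?_,
      Finset.sum_pair fun e' => Sum.inl_ne_inr (Finsupp.single_left_injective one_ne_zero e')]
    · simp [Finsupp.single_apply, cl, cr]
    · simp only [Finset.mem_insert, Finset.mem_singleton, not_or] at hd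
      rcases hzero d hd.1 hd.2 with h0 | ⟨v, hv, hv0⟩
      · rw [h0, map_zero, zero_mul]
      · rw [Finset.prod_eq_zero (Finset.mem_univ v) (by rw [hv0, zero_pow hv]), mul_zero]
  have hval : ∀ x y z : Fin p → B, (word D e z : tb b B ⟶ G) = word D e x * word D e y →
      z k = MvPolynomial.aeval (Sum.elim x y) (Q k) := fun x y z hz =>
    congrFun (word_injective_of_closed h he (hz.trans (hQ.eval x y).symm)) k
  rw [hval x y z hz, key x y hx hy]
  by_cases hmem : e k ∈ Ψ'
  · have hs : ∀ i, e i ∉ Ψ' → (Pi.single k (1 : B) : Fin p → B) i = 0 := fun i hi =>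
      Pi.single_eq_of_ne (fun h' => hi (by rw [h']; exact hmem)) _
    have h0 : ∀ i, e i ∉ Ψ' → (0 : Fin p → B) i = 0 := fun _ _ => rfl
    have el := hval (Pi.single k 1) 0 (Pi.single k 1) (by rw [show (0 : Fin p → B) = fun _ => 0 from rfl, word_zero, _root_.mul_one])
    have er := hval 0 (Pi.single k 1) (Pi.single k 1) (by rw [show (0 : Fin p → B) = fun _ => 0 from rfl, word_zero, _root_.one_mul])
    rw [key _ _ hs h0] at el
    rw [key _ _ h0 hs] at er
    simp only [Pi.single_eq_same, Pi.zero_apply, _root_.mul_one, mul_zero, add_zero, zero_add] at el er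
    rw [← el, ← er, _root_.one_mul, _root_.one_mul]
  · rw [hx k hmem, hy k hmem, mul_zero, mul_zero]

open Classical in
/-- The coordinate of a product of root group elements at an indecomposable root. -/
theorem coord_word (h : IsClosedSet D.P Ψ) (he : RedSub.Enumerates Ψ e) {k : Fin p} (hk : Indec D Ψ (e k)) :
    ∀ {n : ℕ} (d : Fin n → D.idx), (∀ i, d i ∈ Ψ) → ∀ (x : Fin n → B) (z : Fin p → B),
      (word D e z : tb b B ⟶ G) = word D d x → z k = ∑ i, if d i = e k then x i else 0 := by
  classical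
  have hall : ∀ (x : Fin p → B) i, e i ∉ Ψ → x i = 0 := fun x i hi =>
    absurd ((Set.ext_iff.mp he.2 _).mp ⟨i, rfl⟩) hi
  intro n
  induction n with
  | zero =>
    intro d _ x z hz
    rw [show (word D d x : tb b B ⟶ G) = 1 from by rw [word, List.ofFn_zero, List.prod_nil],
      ← word_zero (b := b) (B := B) D e] at hz
    rw [word_injective_of_closed h he hz]
    simp
  | succ n ih =>
    intro d hd x z hz
    rw [word_cons] at hz
    obtain ⟨y, hy⟩ := (exists_word_of_word (b := b) h he _ (fun i => hd i.succ) fun i => x i.succ).1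
    obtain ⟨j, hj⟩ : d 0 ∈ Set.range e := he.2.symm ▸ hd 0
    rw [← hy, ← hj, ← word_single] at hz
    rw [coord_add h he hk (hall _) (hall _) hz, ih _ (fun i => hd i.succ) _ y hy, Fin.sum_univ_succ, ← hj]
    congr 1
    by_cases hjk : j = k
    · subst hjk; simp
    · rw [Pi.single_eq_of_ne (Ne.symm hjk), if_neg (fun e' => hjk (he.1 e'))]

/-- The roots which are combinations of two roots with coefficients in a given region. -/
def cone (D : Red.SplitRed G) (a c : D.idx) (R : ℤ → ℤ → Prop) : Set D.idx :=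
  {r | ∃ i j : ℤ, R i j ∧ D.P.root r = i • D.P.root a + j • D.P.root c}

omit [IsAffineHom G.hom] in
theorem isClosedSet_cone {a c : D.idx} (hind : Indep D.P a c) {R : ℤ → ℤ → Prop}
    (hadd : ∀ i j i' j', R i j → R i' j' → R (i + i') (j + j')) (hopp : ∀ i j, R i j → ¬ R (-i) (-j)) :
    IsClosedSet D.P (cone D a c R) := by
  refine ⟨fun r r' s ⟨i, j, hR, hr⟩ ⟨i', j', hR', hr'⟩ hs => ⟨i + i', j + j', hadd _ _ _ _ hR hR', ?_⟩,
    fun r r' ⟨i, j, hR, hr⟩ hneg ⟨i', j', hR', hr'⟩ => hopp i j hR ?_⟩
  · rw [← hs, hr, hr', add_smul, add_smul]; abel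
  · obtain ⟨rfl, rfl⟩ := hind.eq (i := i') (j := j') (i' := -i) (j' := -j) (by
      rw [← hr', hneg, hr, neg_smul, neg_smul]; abel)
    exact hR'

omit [IsAffineHom G.hom] in
theorem indec_cone {a c : D.idx} (hind : Indep D.P a c) {R : ℤ → ℤ → Prop} (hR : ∀ i j, R i j → 0 < j) {r : D.idx}
    {i₀ : ℤ} (hr : D.P.root r = i₀ • D.P.root a + D.P.root c) : Indec D (cone D a c R) r := by
  classical
  intro m' hm' hsum s hs
  choose I J hIJ hroot using fun x (hx : m' x ≠ 0) => hm' x hx
  let I' : D.idx → ℤ := fun x => if hx : m' x ≠ 0 then I x hx else 0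
  let J' : D.idx → ℤ := fun x => if hx : m' x ≠ 0 then J x hx else 0
  have hterm : ∀ x, m' x • D.P.root x = ((m' x : ℤ) * I' x) • D.P.root a + ((m' x : ℤ) * J' x) • D.P.root c := fun x => by
    by_cases hx : m' x ≠ 0
    · rw [mul_smul, mul_smul, ← smul_add, natCast_zsmul]
      simp only [I', J', dif_pos hx, ← hroot x hx]
    · push Not at hx
      simp [hx]
  have hJ : ∑ x, (m' x : ℤ) * J' x = 1 := by
    rw [Finset.sum_congr rfl fun x _ => hterm x, Finset.sum_add_distrib, ← Finset.sum_smul, ← Finset.sum_smul,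
      hr] at hsum
    exact (hind.eq (hsum.trans (by rw [one_smul]) : _ = i₀ • D.P.root a + (1 : ℤ) • D.P.root c)).2
  have hge : ∀ x, (m' x : ℤ) ≤ (m' x : ℤ) * J' x := fun x => by
    by_cases hx : m' x ≠ 0
    · have : (1 : ℤ) ≤ J' x := by simp only [J', dif_pos hx]; exact hR _ _ (hIJ x hx)
      exact le_mul_of_one_le_right (Int.natCast_nonneg _) this
    · push Not at hx
      simp [hx]
  have hle : ∑ x, (m' x : ℤ) ≤ 1 := hJ ▸ Finset.sum_le_sum fun x _ => hge x
  have hle' : ∑ x, m' x ≤ 1 := by exact_mod_cast hle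
  rw [← Finset.add_sum_erase _ _ (Finset.mem_univ s)] at hle'
  have hrest : ∀ x ∈ Finset.univ.erase s, m' x = 0 := Finset.sum_eq_zero_iff.mp (by omega)
  rw [← Finset.add_sum_erase _ _ (Finset.mem_univ s), Finset.sum_eq_zero (fun x hx => by rw [hrest x hx, zero_smul]),
    add_zero, show m' s = 1 by omega, one_smul] at hsum
  exact D.P.root.injective hsum

end Groth.Agent.RedCell22
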