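import Groth.Agent.RedCell22.Reflect
import Mathlib.AlgebraicGeometry.Morphisms.FlatDescent
import Mathlib.RingTheory.AdjoinRoot
import Mathlib.RingTheory.TensorProduct.Basic

/-!
# The largest torus-stable part of a subgroup scheme, locally for faithfully flat covers
-/

set_option autoImplicit false
set_option linter.unusedSectionVars false
set_option linter.style.haveILetI false

universe u

open CategoryTheory CategoryTheory.Limits AlgebraicGeometry MonoidalCategory CartesianMonoidalCategory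
open MonObj GrpObj
open scoped TensorProduct

noncomputable section

namespace Groth.Agent.RedCell22

variable {S : Scheme.{u}} {G H : Over S} [GrpObj G] [GrpObj H] {D : Red.SplitRed G} {h : H ⟶ G}
variable {A : Type u} [CommRing A] {b : Spec (CommRingCat.of A) ⟶ S} {B C : Type u} [CommRing B] [Algebra A B]
  [CommRing C] [Algebra A C]

/-- A point which factors through the subgroup. -/
def InSub (h : H ⟶ G) (g : tb b B ⟶ G) : Prop := ∃ p : tb b B ⟶ H, p ≫ h = g

/-- A point all whose torus conjugates, after any extension, factor through the subgroup. -/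
def InCore (D : Red.SplitRed G) (h : H ⟶ G) (g : tb b B ⟶ G) : Prop :=
  ∀ (C : Type u) [CommRing C] [Algebra A C] (φ : B →ₐ[A] C) (t : tb b C ⟶ D.T),
    InSub h (tG D t * (tm b φ ≫ g) * (tG D t)⁻¹)

theorem InSub.map {g : tb b B ⟶ G} (hg : InSub h g) (φ : B →ₐ[A] C) : InSub h (tm b φ ≫ g) := by
  obtain ⟨p, hp⟩ := hg
  exact ⟨tm b φ ≫ p, by rw [Category.assoc, hp]⟩

/-- Factoring through a monomorphism descends along faithfully flat ring maps. -/
theorem inSub_of_faithfullyFlat [Mono h] (jj : B →ₐ[A] C) (hff : jj.toRingHom.FaithfullyFlat) {g : tb b B ⟶ G}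
    (hg : InSub h (tm b jj ≫ g)) : InSub h g := by
  obtain ⟨p, hp⟩ := hg
  haveI : Mono h.left := inferInstanceAs (Mono ((Over.forget S).map h))
  let g' := pullback.fst g.left h.left
  have w : (tm b jj).left ≫ g.left = p.left ≫ h.left := (congrArg CommaMorphism.left hp).symm
  haveI : IsIso (pullback.fst (tm b jj).left g') := by
    haveI : IsSplitEpi (pullback.fst (tm b jj).left g') :=
      ⟨⟨⟨pullback.lift (𝟙 _) (pullback.lift (tm b jj).left p.left w)
        (by rw [Category.id_comp, pullback.lift_fst]), pullback.lift_fst _ _ _⟩⟩⟩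
    exact isIso_of_mono_of_isSplitEpi _
  have hQ : (@Surjective ⊓ @Flat ⊓ @QuasiCompact : MorphismProperty Scheme.{u}) (tm b jj).left := by
    obtain ⟨h1, h2⟩ := (flat_and_surjective_SpecMap_iff (CommRingCat.ofHom jj.toRingHom)).mpr hff
    exact ⟨⟨h2, h1⟩, inferInstanceAs (QuasiCompact (Spec.map (CommRingCat.ofHom jj.toRingHom)))⟩
  haveI : IsIso g' := MorphismProperty.of_pullback_fst_of_descendsAlong
    (P := MorphismProperty.isomorphisms Scheme.{u}) (Q := @Surjective ⊓ @Flat ⊓ @QuasiCompact) hQ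
    (inferInstance : IsIso (pullback.fst (tm b jj).left g'))
  have e : (inv g' ≫ pullback.snd g.left h.left) ≫ h.left = g.left := by
    rw [Category.assoc, ← pullback.condition]
    exact IsIso.inv_hom_id_assoc g' g.left
  refine ⟨Over.homMk (inv g' ≫ pullback.snd g.left h.left) ?_, by ext1; exact e⟩
  rw [← Over.w g, ← Over.w h, ← Category.assoc, e]

theorem InCore.map {g : tb b B ⟶ G} (hg : InCore D h g) (φ : B →ₐ[A] C) : InCore D h (tm b φ ≫ g) :=
  fun C' _ _ ψ t => by
    rw [← Category.assoc, tm_comp]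
    exact hg C' _ t

variable [IsMonHom h]

theorem InSub.mul {g g' : tb b B ⟶ G} (hg : InSub h g) (hg' : InSub h g') : InSub h (g * g') := by
  obtain ⟨p, rfl⟩ := hg
  obtain ⟨p', rfl⟩ := hg'
  exact ⟨p * p', MonObj.mul_comp _ _ _⟩

theorem InSub.inv {g : tb b B ⟶ G} (hg : InSub h g) : InSub h g⁻¹ := by
  obtain ⟨p, rfl⟩ := hg
  exact ⟨p⁻¹, map_inv (MonoidHom.mk' (fun q : tb b B ⟶ H => q ≫ h) fun _ _ => MonObj.mul_comp _ _ _) p⟩

theorem inSub_one : InSub h (1 : tb b B ⟶ G) := ⟨1, MonObj.one_comp _⟩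

theorem InCore.mul {g g' : tb b B ⟶ G} (hg : InCore D h g) (hg' : InCore D h g') : InCore D h (g * g') :=
  fun C _ _ φ t => by
    rw [tm_mul, show tG D t * ((tm b φ ≫ g) * (tm b φ ≫ g')) * (tG D t)⁻¹ =
      tG D t * (tm b φ ≫ g) * (tG D t)⁻¹ * (tG D t * (tm b φ ≫ g') * (tG D t)⁻¹) by group]
    exact (hg C φ t).mul (hg' C φ t)

theorem InCore.inv {g : tb b B ⟶ G} (hg : InCore D h g) : InCore D h g⁻¹ := fun C _ _ φ t => by
  rw [tm_inv, show tG D t * (tm b φ ≫ g)⁻¹ * (tG D t)⁻¹ = (tG D t * (tm b φ ≫ g) * (tG D t)⁻¹)⁻¹ by group]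
  exact (hg C φ t).inv

theorem inCore_one : InCore D h (1 : tb b B ⟶ G) := fun C _ _ φ t => by
  rw [tm_one, _root_.mul_one, mul_inv_cancel]
  exact inSub_one

theorem InCore.conj_tG {g : tb b B ⟶ G} (hg : InCore D h g) (t₀ : tb b B ⟶ D.T) :
    InCore D h (tG D t₀ * g * (tG D t₀)⁻¹) := fun C _ _ φ t => by
  rw [tm_mul, tm_mul, tm_inv, tG_map, show tG D t * (tG D (tm b φ ≫ t₀) * (tm b φ ≫ g) * (tG D (tm b φ ≫ t₀))⁻¹) *
    (tG D t)⁻¹ = (tG D t * tG D (tm b φ ≫ t₀)) * (tm b φ ≫ g) * (tG D t * tG D (tm b φ ≫ t₀))⁻¹ by group, ← tG_mul]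
  exact hg C φ _

theorem InCore.inSub {g : tb b B ⟶ G} (hg : InCore D h g) : InSub h g := by
  have := hg B (AlgHom.id A B) 1
  rwa [tG_one, tm_id, Category.id_comp, _root_.one_mul, inv_one, _root_.mul_one] at this

theorem inCore_ua {a : D.idx} {v : Red.Ga S ⟶ H} (hv : v ≫ h = D.u a) (x : B) :
    InCore D h (ua D a x : tb b B ⟶ G) := fun C _ _ φ t => by
  rw [ua_map, conj_ua]
  exact ⟨gaPt _ ≫ v, by rw [Category.assoc, hv]; rfl⟩

/-- The torus-stable part descends along faithfully flat ring maps. -/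
theorem inCore_of_faithfullyFlat [Mono h] (jj : B →ₐ[A] C) (hff : jj.toRingHom.FaithfullyFlat) {g : tb b B ⟶ G}
    (hg : InCore D h (tm b jj ≫ g)) : InCore D h g := fun R _ _ φ t => by
  letI : Algebra B R := φ.toRingHom.toAlgebra
  letI : Algebra B C := jj.toRingHom.toAlgebra
  haveI : IsScalarTower A B R := IsScalarTower.of_algebraMap_eq fun x => (φ.commutes x).symm
  haveI : IsScalarTower A B C := IsScalarTower.of_algebraMap_eq fun x => (jj.commutes x).symm
  haveI : Module.FaithfullyFlat B C := hff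
  let inl : R →ₐ[A] R ⊗[B] C := (Algebra.TensorProduct.includeLeft : R →ₐ[R] R ⊗[B] C).restrictScalars A
  let inr : C →ₐ[A] R ⊗[B] C := (Algebra.TensorProduct.includeRight : C →ₐ[B] R ⊗[B] C).restrictScalars A
  have hcomm : inl.comp φ = inr.comp jj := AlgHom.ext fun x => by
    show (algebraMap B R x) ⊗ₜ[B] (1 : C) = (1 : R) ⊗ₜ[B] algebraMap B C x
    rw [Algebra.algebraMap_eq_smul_one, Algebra.algebraMap_eq_smul_one, TensorProduct.smul_tmul]
  refine inSub_of_faithfullyFlat inl ?_ ?_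
  · show (algebraMap R (R ⊗[B] C)).FaithfullyFlat
    rw [RingHom.faithfullyFlat_algebraMap_iff]
    infer_instance
  rw [tm_mul, tm_mul, tm_inv, tG_map, ← Category.assoc, tm_comp, hcomm, ← tm_comp, Category.assoc]
  exact hg (R ⊗[B] C) inr _

/-- A faithfully flat extension with a unit `s` such that `s ^ m - 1` is inverse to `s ^ m`. -/
theorem exists_unit_ext (B : Type u) [CommRing B] [Algebra A B] [Nontrivial B] {m : ℕ} (hm : 0 < m) :
    ∃ (B' : Type u) (_ : CommRing B') (_ : Algebra A B') (jj : B →ₐ[A] B') (s : B'ˣ),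
      jj.toRingHom.FaithfullyFlat ∧ (s : B') ^ m * ((s : B') ^ m - 1) = 1 := by
  let p : Polynomial B := (Polynomial.X ^ m) ^ 2 - Polynomial.X ^ m - 1
  have hpm : p.Monic := by
    have h1 : p = Polynomial.X ^ (2 * m) - (Polynomial.X ^ m + 1) := by simp only [p]; ring
    rw [h1]
    refine (Polynomial.monic_X_pow (2 * m)).sub_of_left ?_
    rw [Polynomial.degree_X_pow]
    refine lt_of_le_of_lt (Polynomial.degree_add_le _ _) (max_lt ?_ ?_)
    · rw [Polynomial.degree_X_pow]; exact_mod_cast (by omega : m < 2 * m)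
    · exact lt_of_le_of_lt Polynomial.degree_one_le (by exact_mod_cast (by omega : 0 < 2 * m))
  have hdeg : p.natDegree = 2 * m := by
    have h1 : p = Polynomial.X ^ (2 * m) - (Polynomial.X ^ m + 1) := by simp only [p]; ring
    rw [h1, Polynomial.natDegree_sub_eq_left_of_natDegree_lt, Polynomial.natDegree_X_pow]
    refine lt_of_le_of_lt (Polynomial.natDegree_add_le _ _) ?_
    simp
    omega
  have hev : (AdjoinRoot.root p ^ m) ^ 2 - AdjoinRoot.root p ^ m - 1 = (0 : AdjoinRoot p) := by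
    rw [← AdjoinRoot.mk_X, ← map_pow, ← map_pow, ← map_sub, ← map_one (AdjoinRoot.mk p), ← map_sub]
    exact AdjoinRoot.mk_self
  have hs : AdjoinRoot.root p * (AdjoinRoot.root p ^ (m - 1) * (AdjoinRoot.root p ^ m - 1)) = 1 := by
    rw [← _root_.mul_assoc, ← pow_succ', Nat.sub_add_cancel hm]
    linear_combination hev
  refine ⟨AdjoinRoot p, inferInstance, inferInstance, IsScalarTower.toAlgHom A B (AdjoinRoot p),
    Units.mkOfMulEqOne _ _ hs, ?_, by
      simp only [Units.val_mkOfMulEqOne]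
      linear_combination hev⟩
  show (algebraMap B (AdjoinRoot p)).FaithfullyFlat
  rw [RingHom.faithfullyFlat_algebraMap_iff]
  let pb := AdjoinRoot.powerBasis' hpm
  haveI : Nonempty (Fin pb.dim) := ⟨⟨0, by show 0 < p.natDegree; omega⟩⟩
  exact Module.FaithfullyFlat.of_linearEquiv B (Fin pb.dim →₀ B) pb.basis.repr

end Groth.Agent.RedCell22
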