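import Groth.Agent.RedCell22.FibreBound

/-!
# The conormal module of the unit of a split group, and infinitesimal points
-/

set_option autoImplicit false
set_option linter.unusedSectionVars false
set_option linter.style.haveILetI false

universe u

open CategoryTheory CategoryTheory.Limits AlgebraicGeometry MonoidalCategory CartesianMonoidalCategory
open MonObj GrpObj

noncomputable section

namespace Groth.Agent.RedCell22

variable {S : Scheme.{u}} {A : Type u} [CommRing A] {b : Spec (CommRingCat.of A) ⟶ S}
variable {B : Type u} [CommRing B] [Algebra A B]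
variable {G : Over S} [GrpObj G] (D : Red.SplitRed G) [IsAffineHom G.hom]

include D in
theorem finiteType_funRing : Algebra.FiniteType A (FunRing b G) := by
  haveI : Smooth G.hom := D.reductive.2.1
  rw [← RingHom.finiteType_algebraMap]
  show RingHom.FiniteType ((Limits.pullback.snd G.hom b).appTop.hom.comp
    (Scheme.ΓSpecIso (CommRingCat.of A)).inv.hom)
  exact (HasRingHomProperty.appTop (P := @LocallyOfFiniteType) _ inferInstance).comp
    (RingHom.FiniteType.of_surjective _
      (Scheme.ΓSpecIso (CommRingCat.of A)).commRingCatIsoToRingEquiv.symm.surjective)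

variable (b G) in
/-- The augmentation ideal. -/
abbrev aug : Ideal (FunRing b G) := RingHom.ker (eps b G)

theorem sub_eps_mem (f : FunRing b G) : f - algebraMap A _ (eps b G f) ∈ aug b G := by
  show eps b G (f - _) = 0
  rw [map_sub, AlgHom.commutes]
  simp

theorem mul_decomp (f f' : FunRing b G) :
    f * f' - (eps b G f • f' + eps b G f' • f - algebraMap A _ (eps b G f * eps b G f')) ∈ (aug b G) ^ 2 := by
  have : f * f' - (eps b G f • f' + eps b G f' • f - algebraMap A _ (eps b G f * eps b G f')) =
      (f - algebraMap A _ (eps b G f)) * (f' - algebraMap A _ (eps b G f')) := by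
    rw [Algebra.smul_def, Algebra.smul_def, map_mul]; ring
  rw [this, pow_two]
  exact Ideal.mul_mem_mul (sub_eps_mem f) (sub_eps_mem f')

variable (b G) in
/-- The relations of the conormal module. -/
def relW : Submodule A (FunRing b G) := ((aug b G) ^ 2).restrictScalars A ⊔ Submodule.span A {1}

theorem mem_sq_of_mem_relW {f : FunRing b G} (hf : f ∈ relW b G) (h0 : eps b G f = 0) : f ∈ (aug b G) ^ 2 := by
  obtain ⟨x, hx, y, hy, rfl⟩ := Submodule.mem_sup.mp hf
  obtain ⟨a, rfl⟩ := Submodule.mem_span_singleton.mp hy
  have hx0 : eps b G x = 0 := Ideal.pow_le_self two_ne_zero hx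
  rw [map_add, hx0, _root_.zero_add, map_smul, map_one, smul_eq_mul, _root_.mul_one] at h0
  simpa [h0] using hx

include D in
theorem finite_quotient : Module.Finite A (FunRing b G ⧸ relW b G) := by
  classical
  obtain ⟨s, hs⟩ := (finiteType_funRing D (b := b)).out
  let q := (relW b G).mkQ
  refine ⟨⟨s.image q, eq_top_iff.mpr ?_⟩⟩
  rintro x -
  obtain ⟨f, rfl⟩ := Submodule.mkQ_surjective _ x
  have hf : f ∈ Algebra.adjoin A (s : Set (FunRing b G)) := by rw [hs]; trivial
  have h1 : q 1 = 0 := (Submodule.Quotient.mk_eq_zero _).mpr
    (Submodule.mem_sup_right (Submodule.mem_span_singleton_self 1))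
  induction hf using Algebra.adjoin_induction with
  | mem x hx => exact Submodule.subset_span (Finset.mem_coe.mpr (Finset.mem_image_of_mem q hx))
  | algebraMap a => rw [Algebra.algebraMap_eq_smul_one, map_smul]; exact (h1.symm ▸ Submodule.smul_mem _ a (zero_mem _))
  | add x y _ _ hx hy => rw [map_add]; exact add_mem hx hy
  | mul x y _ _ hx hy =>
    have h : q (x * y) = q (eps b G x • y + eps b G y • x - algebraMap A _ (eps b G x * eps b G y)) :=
      (Submodule.Quotient.eq _).mpr (Submodule.mem_sup_left (mul_decomp x y))
    rw [h, map_sub, map_add, map_smul, map_smul, Algebra.algebraMap_eq_smul_one, map_smul, h1, smul_zero, sub_zero]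
    exact add_mem (Submodule.smul_mem _ _ hy) (Submodule.smul_mem _ _ hx)

theorem del_eq_zero_of_mem_relW (j : TIdx D) {f : FunRing b G} (hf : f ∈ relW b G) : del D j f = 0 := by
  obtain ⟨x, hx, y, hy, rfl⟩ := Submodule.mem_sup.mp hf
  obtain ⟨a, rfl⟩ := Submodule.mem_span_singleton.mp hy
  have : del D j x = 0 := by
    have hx' : x ∈ aug b G * aug b G := by rw [← pow_two]; exact hx
    refine Submodule.mul_induction_on hx' (fun p hp q hq => ?_) (fun p q hp hq => by rw [map_add, hp, hq, _root_.add_zero])
    rw [del_mul, RingHom.mem_ker.mp hp, RingHom.mem_ker.mp hq]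
    simp
  rw [map_add, map_smul, this, del_one, smul_zero, _root_.add_zero]

/-- A function at the unit with vanishing tangent values lies in the square of the augmentation ideal. -/
theorem mem_sq_of_del {f : FunRing b G} (h0 : eps b G f = 0) (hd : ∀ j, del D j f = 0) : f ∈ (aug b G) ^ 2 := by
  classical
  obtain ⟨w, -, hw⟩ := exists_dual D (b := b)
  let Q := FunRing b G ⧸ relW b G
  let proj' : FunRing b G →ₗ[A] FunRing b G :=
    LinearMap.id - ∑ j, (del D j).smulRight (w j)
  have hproj : ∀ f, proj' f = f - ∑ j, del D j f • w j := fun f => by simp [proj']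
  have hp : ∀ f i, del D i (proj' f) = 0 := fun f i => by
    rw [hproj, map_sub, map_sum, Finset.sum_eq_single i]
    · simp [hw]
    · intro j _ hj; simp [hw, Ne.symm hj]
    · simp
  have hw' : ∀ j, proj' (w j) = 0 := fun j => by
    rw [hproj, Finset.sum_eq_single j]
    · simp [hw]
    · intro k _ hk; simp [hw, hk]
    · simp
  let K' : Submodule A Q := Submodule.map (relW b G).mkQ (LinearMap.range proj')
  haveI := finite_quotient D (b := b)
  have hfg : K'.FG := by
    have hle : relW b G ≤ LinearMap.ker ((relW b G).mkQ.comp proj') := fun x hx => by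
      have : proj' x = x := by simp [proj', del_eq_zero_of_mem_relW D _ hx]
      rw [LinearMap.mem_ker, LinearMap.comp_apply, this]
      exact (Submodule.Quotient.mk_eq_zero _).mpr hx
    have : K' = LinearMap.range ((relW b G).liftQ _ hle) := by
      rw [Submodule.range_liftQ, LinearMap.range_comp]
    rw [this, LinearMap.range_eq_map]
    exact Module.Finite.fg_top.map _
  have hK : K' = ⊥ := by
    by_contra hne
    have hann : K'.annihilator ≠ ⊤ := by
      rw [Ne, Submodule.annihilator_eq_top_iff]
      exact hne
    obtain ⟨m, hm, hle⟩ := Ideal.exists_le_maximal _ hann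
    letI := Ideal.Quotient.field m
    let K := AlgebraicClosure (A ⧸ m)
    have hkill : ∀ φ : Q →ₗ[A] K, ∀ x ∈ K', φ x = 0 := by
      intro φ
      let d : FunRing b G →ₗ[A] K := φ.comp ((relW b G).mkQ.comp proj')
      let ds : TIdx D → (FunRing b G →ₗ[A] K) := fun j => (Algebra.linearMap A K).comp (del D j)
      let e := Fintype.equivFin (TIdx D)
      let all : Fin (Fintype.card (TIdx D) + 1) → (FunRing b G →ₗ[A] K) := Fin.cons d fun i => ds (e.symm i)
      have hall : ∀ i, IsPtDer b G (all i) := by
        refine Fin.cases ?_ fun i => ?_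
        · intro f f'
          have h : (relW b G).mkQ (proj' (f * f')) =
              eps b G f • (relW b G).mkQ (proj' f') + eps b G f' • (relW b G).mkQ (proj' f) := by
            suffices (relW b G).mkQ (proj' (f * f')) = (relW b G).mkQ (proj' (eps b G f • f' + eps b G f' • f)) by
              rw [this, map_add, map_add, map_smul, map_smul, map_smul, map_smul]
            refine (Submodule.Quotient.eq _).mpr ?_
            rw [← map_sub]
            have hmem : f * f' - (eps b G f • f' + eps b G f' • f) ∈ relW b G := by
              have h1 := Submodule.mem_sup_left (T := Submodule.span A {(1 : FunRing b G)})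
                (show f * f' - (eps b G f • f' + eps b G f' • f - algebraMap A _ (eps b G f * eps b G f')) ∈
                  ((aug b G) ^ 2).restrictScalars A from mul_decomp f f')
              have h2 : algebraMap A (FunRing b G) (eps b G f * eps b G f') ∈ relW b G :=
                Submodule.mem_sup_right (Submodule.mem_span_singleton.mpr ⟨_, (Algebra.algebraMap_eq_smul_one _).symm⟩)
              have h3 := (relW b G).sub_mem h1 h2
              rw [sub_sub, sub_add_cancel] at h3
              exact h3
            have he : proj' (f * f' - (eps b G f • f' + eps b G f' • f)) = f * f' - (eps b G f • f' + eps b G f' • f) := by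
              simp [proj', del_eq_zero_of_mem_relW D _ hmem]
            rw [he]
            exact hmem
          show φ _ = _ * φ _ + _ * φ _
          simp only [LinearMap.comp_apply, h, map_add, map_smul, Algebra.smul_def]
        · intro f f'
          show algebraMap A K _ = _ * algebraMap A K _ + _ * algebraMap A K _
          rw [del_mul, map_add, map_mul, map_mul]
      obtain ⟨c, hc0, hc⟩ := exists_relation D (Nat.lt_succ_self _) all hall
      have hc' : ∀ f, c 0 * d f + ∑ i, c (Fin.succ i) * algebraMap A K (del D (e.symm i) f) = 0 := fun f => by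
        have := hc f
        rwa [Fin.sum_univ_succ] at this
      have hd0 : ∀ j, d (w j) = 0 := fun j => by simp [d, hw' j]
      have hci : ∀ i, c (Fin.succ i) = 0 := fun i => by
        have := hc' (w (e.symm i))
        rw [hd0, mul_zero, _root_.zero_add, Finset.sum_eq_single i] at this
        · simpa [hw] using this
        · intro k _ hk; simp [hw, hk]
        · simp
      have hc00 : c 0 ≠ 0 := fun h0' => hc0 (funext (Fin.cases h0' hci))
      rintro _ ⟨y, ⟨f, rfl⟩, rfl⟩
      have := hc' f
      simp only [hci, zero_mul, Finset.sum_const_zero, _root_.add_zero, mul_eq_zero, hc00, false_or] at this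
      exact this
    have hmK : K' ≤ m • K' := by
      intro x hx
      by_contra hxm
      let V := K' ⧸ (m • (⊤ : Submodule A K'))
      letI : Module (A ⧸ m) V := inferInstanceAs (Module (A ⧸ m) (K' ⧸ (m • (⊤ : Submodule A K'))))
      have hv : (Submodule.Quotient.mk ⟨x, hx⟩ : V) ≠ 0 := fun h0' => hxm (by
        have h' := (Submodule.Quotient.mk_eq_zero _).mp h0'
        have := Submodule.mem_map_of_mem (f := K'.subtype) h'
        rwa [Submodule.map_smul'', Submodule.map_top, Submodule.range_subtype] at this)
      obtain ⟨φ0, hφ0⟩ := Module.Projective.exists_dual_ne_zero (A ⧸ m) hv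
      let φ : Q →ₗ[A] K :=
        ((Algebra.linearMap (A ⧸ m) K).restrictScalars A).comp (((φ0.restrictScalars A).comp (Submodule.mkQ _)).comp
          (LinearMap.codRestrict K' ((relW b G).liftQ ((relW b G).mkQ.comp proj') (fun z hz => by
            have : proj' z = z := by simp [proj', del_eq_zero_of_mem_relW D _ hz]
            rw [LinearMap.mem_ker, LinearMap.comp_apply, this]
            exact (Submodule.Quotient.mk_eq_zero _).mpr hz)) fun z => by
              obtain ⟨z, rfl⟩ := Submodule.mkQ_surjective _ z
              exact ⟨proj' z, ⟨z, rfl⟩, rfl⟩))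
      obtain ⟨y, ⟨f, hf⟩, hy⟩ := hx
      have hfix : proj' (proj' f) = proj' f := by
        conv_lhs => rw [show proj' (proj' f) = proj' f - ∑ j, del D j (proj' f) • w j by simp [proj']]
        simp [hp]
      have h := hkill φ x ⟨y, ⟨f, hf⟩, hy⟩
      refine hφ0 ((RingHom.injective (algebraMap (A ⧸ m) K)) ?_)
      rw [map_zero, ← h]
      show _ = algebraMap (A ⧸ m) K (φ0 (Submodule.Quotient.mk _))
      congr 3
      refine Subtype.ext ?_
      show x = (relW b G).liftQ _ _ x
      rw [← hy, ← hf, Submodule.mkQ_apply, Submodule.liftQ_apply, LinearMap.comp_apply, hfix]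
      rfl
    obtain ⟨r, hr1, hr⟩ := Submodule.exists_sub_one_mem_and_smul_eq_zero_of_fg_of_le_smul m K' hfg hmK
    have hrm : r ∈ m := hle (Submodule.mem_annihilator.mpr hr)
    exact hm.ne_top ((Ideal.eq_top_iff_one _).mpr (by simpa using m.sub_mem hrm hr1))
  refine mem_sq_of_mem_relW ?_ h0
  have : proj' f = f := by simp [proj', hd]
  have hmem : (relW b G).mkQ f ∈ K' := ⟨f, ⟨f, this⟩, rfl⟩
  rw [hK, Submodule.mem_bot] at hmem
  exact (Submodule.Quotient.mk_eq_zero _).mp hmem

open scoped Classical in
/-- An infinitesimal point is determined by its tangent values. -/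
theorem dl_eq_sum {I : Ideal B} (hI : I ^ 2 = ⊥) {w : TIdx D → FunRing b G} (hw0 : ∀ j, eps b G (w j) = 0)
    (hw : ∀ i j, del D i (w j) = if i = j then 1 else 0) {g : tb b B ⟶ G} (hg : Inf I g) (f : FunRing b G) :
    dl g f = ∑ j, algebraMap A B (del D j f) * dl g (w j) := by
  classical
  let r := f - algebraMap A _ (eps b G f) - ∑ j, del D j f • w j
  have h0 : eps b G r = 0 := by simp [r, map_sum, hw0]
  have hd : ∀ i, del D i r = 0 := fun i => by
    simp only [r, map_sub, map_sum, map_smul, del_algebraMap, sub_zero, smul_eq_mul]
    rw [Finset.sum_eq_single i]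
    · simp [hw]
    · intro k _ hk; simp [hw, Ne.symm hk]
    · simp
  have hr : dl g r = 0 := by
    have hr2 := mem_sq_of_del D h0 hd
    rw [pow_two] at hr2
    refine Submodule.mul_induction_on hr2 (fun p hp q hq => ?_) (fun p q hp hq => by rw [map_add, hp, hq, _root_.add_zero])
    rw [dl_mul_fun hI hg, RingHom.mem_ker.mp hp, RingHom.mem_ker.mp hq]
    simp
  have hone : dl g (1 : FunRing b G) = 0 := by rw [dl_apply, map_one, map_one, map_one, sub_self]
  simp only [r, map_sub, map_sum, map_smul, Algebra.algebraMap_eq_smul_one, hone, smul_zero, sub_zero,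
    sub_eq_zero] at hr
  rw [hr]
  simp only [Algebra.smul_def, ← _root_.mul_assoc, _root_.mul_one]

end Groth.Agent.RedCell22
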