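import Groth.Agent.RedCell22.DerivedHom

/-!
# The part of the cell killed by the projection
-/

set_option autoImplicit false
set_option linter.unusedSectionVars false
set_option linter.style.haveILetI false

universe u

open CategoryTheory CategoryTheory.Limits AlgebraicGeometry MonoidalCategory CartesianMonoidalCategory
open MonObj GrpObj

noncomputable section

namespace Groth.Agent.RedCell22

variable {S : Scheme.{u}} {A : Type u} [CommRing A] {b : Spec (CommRingCat.of A) ⟶ S}
variable {B : Type u} [CommRing B] [Algebra A B]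

/-- A point factors through a monomorphism if it does so on the points with values in rings. -/
theorem exists_lift_of_pts {X Y Z : Over S} (i : Y ⟶ Z) [Mono i] (g : X ⟶ Z)
    (h : ∀ (A : Type u) [CommRing A] (b : Spec (CommRingCat.of A) ⟶ S) (q : tb b A ⟶ X), ∃ y, y ≫ i = q ≫ g) :
    ∃ y : X ⟶ Y, y ≫ i = g := by
  let 𝒰 := X.left.affineOpenCover.openCover
  have h' : ∀ k : 𝒰.I₀, ∃ y : 𝒰.X k ⟶ Y.left, y ≫ i.left = 𝒰.f k ≫ g.left := by
    intro k
    let C : Type u := X.left.affineOpenCover.X k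
    let j : Spec (CommRingCat.of C) ⟶ X.left := X.left.affineOpenCover.f k
    let q : tb (j ≫ X.hom) C ⟶ X := Over.homMk j (by
      show j ≫ X.hom = Spec.map (CommRingCat.ofHom (algebraMap C C)) ≫ j ≫ X.hom
      rw [show CommRingCat.ofHom (algebraMap C C) = 𝟙 _ from rfl, Spec.map_id, Category.id_comp])
    obtain ⟨y, hy⟩ := h C _ q
    exact ⟨y.left, congrArg CommaMorphism.left hy⟩
  choose y hy using h'
  let Y' := 𝒰.glueMorphisms y fun k k' => by
    rw [← cancel_mono i.left, Category.assoc, Category.assoc, hy, hy, ← Category.assoc, pullback.condition,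
      Category.assoc]
  have hY : Y' ≫ i.left = g.left := 𝒰.hom_ext _ _ fun k => by rw [Scheme.Cover.ι_glueMorphisms_assoc, hy]
  exact ⟨Over.homMk Y' (by rw [← Over.w i, ← Category.assoc, hY, Over.w]), Over.OverMorphism.ext hY⟩

theorem dsPt_injective {M : Type} [AddCommGroup M] :
    Function.Injective (dsPt : (Multiplicative M →* Bˣ) → (tb b B ⟶ Red.DS S M)) := fun χ χ' h =>
  MonoidHom.ext fun k => by
    have := congrArg (fun p => gmUnit (p ≫ Red.chi S k.toAdd)) h
    simpa [gmUnit_chi] using this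

variable {M : Type} [AddCommGroup M] (N : AddSubgroup M)

theorem mono_DSmap_mk : Mono (Red.DSmap S (QuotientAddGroup.mk' N)) := ⟨fun a a' h => hom_ext_of_pts fun A _ b q => by
  obtain ⟨χ, hχ⟩ := dsPt_surjective (q ≫ a)
  obtain ⟨χ', hχ'⟩ := dsPt_surjective (q ≫ a')
  have h' := congrArg (q ≫ ·) h
  simp only [← Category.assoc, ← hχ, ← hχ', dsPt_DSmap] at h'
  rw [← hχ, ← hχ']
  congr 1
  refine MonoidHom.ext fun k => ?_
  obtain ⟨k', hk⟩ := QuotientAddGroup.mk'_surjective N k.toAdd
  have := DFunLike.congr_fun (dsPt_injective h') (Multiplicative.ofAdd k')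
  show χ (Multiplicative.ofAdd k.toAdd) = χ' (Multiplicative.ofAdd k.toAdd)
  rw [← hk]
  exact this⟩

/-- A character trivial on a subgroup comes from the quotient. -/
theorem exists_quot_char (χ : Multiplicative M →* Bˣ) (h : χ.comp (AddMonoidHom.toMultiplicative N.subtype) = 1) :
    ∃ χ' : Multiplicative (M ⧸ N) →* Bˣ, χ'.comp (AddMonoidHom.toMultiplicative (QuotientAddGroup.mk' N)) = χ :=
  ⟨AddMonoidHom.toMultiplicativeLeft (QuotientAddGroup.lift N (MonoidHom.toAdditiveRight χ) fun x hx => by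
      show Additive.ofMul (χ (Multiplicative.ofAdd x)) = 0
      exact congrArg Additive.ofMul (DFunLike.congr_fun h (Multiplicative.ofAdd ⟨x, hx⟩))),
    MonoidHom.ext fun _ => rfl⟩

theorem dsPt_one : (dsPt (1 : Multiplicative M →* Bˣ) : tb b B ⟶ Red.DS S M) = 1 := by
  have h := dsPt_mul (b := b) (1 : Multiplicative M →* Bˣ) 1
  letI : Group (tb b B ⟶ Red.DS S M) := Hom.group
  rw [show (1 : Multiplicative M →* Bˣ) * 1 = 1 from MonoidHom.ext fun _ => _root_.one_mul _] at h
  exact mul_eq_left.mp h.symm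

variable {G : Over S} [GrpObj G] [IsAffineHom G.hom] {D : Red.SplitRed G} {n m : ℕ} {N : AddSubgroup D.M}
variable {base : D.P.Base} {φ : D.M →+ ℤ} {l : Fin n → D.idx} {l' : Fin m → D.idx}

/-- The source of the cell of the derived group. -/
abbrev DerSrc (N : AddSubgroup D.M) (n m : ℕ) : Over S :=
  RedSub.pow (Red.Ga S) n ⊗ (Red.DS S (D.M ⧸ N) ⊗ RedSub.pow (Red.Ga S) m)

/-- The inclusion of the cell of the derived group into the cell. -/
def derIncl (D : Red.SplitRed G) (N : AddSubgroup D.M) (n m : ℕ) : DerSrc (D := D) N n m ⟶ CellSrc D n m :=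
  lift (fst _ _) (lift (snd _ _ ≫ fst _ _ ≫ Red.DSmap S (QuotientAddGroup.mk' N) ≫ D.split.inv.hom.hom)
    (snd _ _ ≫ snd _ _))

theorem derIncl_cellMap (l : Fin n → D.idx) (l' : Fin m → D.idx) :
    derIncl D N n m ≫ RedSub.cellMap D l l' = (fst _ _ ≫ RedSub.prodMap (Red.Ga S) n (fun k => D.u (l k))) *
      ((snd _ _ ≫ fst _ _ ≫ Red.DSmap S (QuotientAddGroup.mk' N) ≫ D.split.inv.hom.hom ≫ D.i) *
        (snd _ _ ≫ snd _ _ ≫ RedSub.prodMap (Red.Ga S) m (fun k => D.u (l' k)))) := by
  rw [RedSub.cellMap, MonObj.comp_mul, MonObj.comp_mul, derIncl]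
  simp only [lift_fst_assoc, lift_snd_assoc, Category.assoc]

theorem derIncl_cellChar : derIncl D N n m ≫ cellChar D N n m = 1 := by
  refine hom_ext_of_pts fun A _ b q => ?_
  have h : D.split.inv.hom.hom ≫ D.split.hom.hom.hom = 𝟙 _ := congrArg (fun z => z.hom.hom) D.split.inv_hom_id
  obtain ⟨χ, hχ⟩ := dsPt_surjective (q ≫ snd _ _ ≫ fst _ _)
  rw [MonObj.comp_one, derIncl, cellChar]
  simp only [lift_fst_assoc, lift_snd_assoc, Category.assoc, reassoc_of% h]
  rw [← Category.assoc (snd _ _), ← Category.assoc, ← hχ, ← Category.assoc, dsPt_DSmap, dsPt_DSmap, ← dsPt_one]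
  congr 1
  refine MonoidHom.ext fun k => ?_
  show χ (Multiplicative.ofAdd (QuotientAddGroup.mk' N (k.toAdd : D.M))) = 1
  rw [show QuotientAddGroup.mk' N (k.toAdd : D.M) = 0 from (QuotientAddGroup.eq_zero_iff _).mpr k.toAdd.2]
  exact map_one χ

theorem exists_derIncl {X : Over S} (y : X ⟶ CellSrc D n m) (h : y ≫ cellChar D N n m = 1) :
    ∃ y' : X ⟶ DerSrc (D := D) N n m, y' ≫ derIncl D N n m = y := by
  haveI := mono_DSmap_mk (S := S) N
  have hs : D.split.hom.hom.hom ≫ D.split.inv.hom.hom = 𝟙 _ := congrArg (fun z => z.hom.hom) D.split.hom_inv_id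
  obtain ⟨t, ht⟩ := exists_lift_of_pts (Red.DSmap S (QuotientAddGroup.mk' N))
    (y ≫ snd _ _ ≫ fst _ _ ≫ D.split.hom.hom.hom) fun A _ b q => by
      obtain ⟨χ, hχ⟩ := dsPt_surjective (q ≫ y ≫ snd _ _ ≫ fst _ _ ≫ D.split.hom.hom.hom)
      have h' := congrArg (q ≫ ·) h
      simp only [cellChar, MonObj.comp_one] at h'
      have e : dsPt χ ≫ Red.DSmap S N.subtype = (1 : tb b A ⟶ _) := by
        rw [hχ, ← h']; simp only [Category.assoc]
      rw [dsPt_DSmap, ← dsPt_one] at e
      obtain ⟨χ', hχ'⟩ := exists_quot_char N χ (dsPt_injective e)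
      exact ⟨dsPt χ', by rw [dsPt_DSmap, hχ', hχ]⟩
  refine ⟨lift (y ≫ fst _ _) (lift t (y ≫ snd _ _ ≫ snd _ _)), ?_⟩
  rw [derIncl, comp_lift, comp_lift]
  simp only [lift_fst_assoc, lift_snd_assoc, lift_fst, lift_snd]
  rw [← Category.assoc t, ht]
  simp only [Category.assoc, hs, Category.comp_id]
  ext1
  · rw [lift_fst]
  · rw [lift_snd]
    ext1
    · rw [lift_fst, Category.assoc]
    · rw [lift_snd, Category.assoc]

/-- The cell of the derived group is the part of the cell killed by the homomorphism to the torus. -/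
theorem exists_derSrc {f : G ⟶ Red.DS S ↥N} (hf : RedSub.cellMap D l l' ≫ f = cellChar D N n m) {X : Over S}
    {g : X ⟶ G} (y : X ⟶ CellSrc D n m) (hy : y ≫ RedSub.cellMap D l l' = g) (hg : g ≫ f = 1) :
    ∃ y' : X ⟶ DerSrc (D := D) N n m, g = y' ≫ derIncl D N n m ≫ RedSub.cellMap D l l' := by
  obtain ⟨y', hy'⟩ := exists_derIncl y (N := N) (by rw [← hf, ← Category.assoc, hy, hg])
  exact ⟨y', by rw [← Category.assoc, hy', hy]⟩

theorem der_comp_hom {f : G ⟶ Red.DS S ↥N} (hf : RedSub.cellMap D l l' ≫ f = cellChar D N n m) {X : Over S}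
    (g : X ⟶ DerSrc (D := D) N n m) : (g ≫ derIncl D N n m ≫ RedSub.cellMap D l l') ≫ f = 1 := by
  rw [Category.assoc, Category.assoc, hf, derIncl_cellChar, MonObj.comp_one]

theorem torus_comp_hom (hl : PosList D (-φ) l) {f : G ⟶ Red.DS S ↥N}
    (hf : RedSub.cellMap D l l' ≫ f = cellChar D N n m) :
    D.i ≫ f = D.split.hom.hom.hom ≫ Red.DSmap S N.subtype :=
  hom_ext_of_pts fun A _ b q => by
    rw [← Category.assoc, ← cellPt_cellChar (n := n) (m := m) N (fun _ => (0 : A)) q (fun _ => 0), ← hf,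
      ← Category.assoc, cellPt_cellMap, cellWord, word_zero, word_zero, _root_.one_mul, _root_.mul_one]
    rfl

/-- The homomorphism kills the ordered products of the negative root groups. -/
theorem neg_comp_hom {f : G ⟶ Red.DS S ↥N} (hf : RedSub.cellMap D l l' ≫ f = cellChar D N n m) :
    RedSub.prodMap (Red.Ga S) n (fun k => D.u (l k)) ≫ f = 1 :=
  hom_ext_of_pts fun A _ b q => by
    rw [MonObj.comp_one, ← powPt_powCoord q, ← Category.assoc, powPt_prodMap,
      show word D l (powCoord q) = cellPt D (powCoord q) (1 : tb b A ⟶ D.T) (fun _ => 0) ≫ RedSub.cellMap D l l' by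
        rw [cellPt_cellMap, cellWord, word_zero, tG_one, _root_.mul_one, _root_.mul_one],
      Category.assoc, hf, cellPt_cellChar, ← map_one (tHom D)]
    show tpt D 1 ≫ _ = _
    rw [tpt_proj, MonoidHom.one_comp, dsPt_one]

/-- The homomorphism kills the ordered products of the positive root groups. -/
theorem pos_comp_hom {f : G ⟶ Red.DS S ↥N} (hf : RedSub.cellMap D l l' ≫ f = cellChar D N n m) :
    RedSub.prodMap (Red.Ga S) m (fun k => D.u (l' k)) ≫ f = 1 :=
  hom_ext_of_pts fun A _ b q => by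
    rw [MonObj.comp_one, ← powPt_powCoord q, ← Category.assoc, powPt_prodMap,
      show word D l' (powCoord q) = cellPt D (fun _ => 0) (1 : tb b A ⟶ D.T) (powCoord q) ≫ RedSub.cellMap D l l' by
        rw [cellPt_cellMap, cellWord, word_zero, tG_one, _root_.one_mul, _root_.one_mul],
      Category.assoc, hf, cellPt_cellChar, ← map_one (tHom D)]
    show tpt D 1 ≫ _ = _
    rw [tpt_proj, MonoidHom.one_comp, dsPt_one]

/-- A factorisation through an open immersion. -/
theorem exists_lift_range {X Y : Over S} (i : Y ⟶ G) [IsOpenImmersion i.left] (g : X ⟶ G)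
    (hr : Set.range g.left ⊆ Set.range i.left) : ∃ y : X ⟶ Y, y ≫ i = g :=
  ⟨Over.homMk (IsOpenImmersion.lift i.left g.left hr)
    (by rw [← Over.w i, IsOpenImmersion.lift_fac_assoc, Over.w]),
    Over.OverMorphism.ext (IsOpenImmersion.lift_fac _ _ _)⟩

theorem range_one_subset (hl : PosList D (-φ) l) (hl' : PosList D φ l') :
    Set.range (1 : 𝟙_ (Over S) ⟶ G).left ⊆ Set.range (RedSub.cellMap D l l').left := by
  rintro _ ⟨s, rfl⟩
  obtain ⟨K, _, _, β, q, hq⟩ := exists_geom_point (X := 𝟙_ (Over S)) s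
  rw [← hq]
  show (q ≫ (1 : 𝟙_ (Over S) ⟶ G)).left (IsLocalRing.closedPoint K) ∈ _
  rw [MonObj.comp_one, ← cellMap_one D l l' β]
  exact ⟨_, rfl⟩

end Groth.Agent.RedCell22
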