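import Groth.Agent.RedCell22.BruhatField

/-!
# Cells over local algebras
-/

set_option autoImplicit false
set_option linter.unusedSectionVars false
set_option linter.style.haveILetI false

universe u

open CategoryTheory CategoryTheory.Limits AlgebraicGeometry MonoidalCategory CartesianMonoidalCategory
open MonObj GrpObj

noncomputable section

namespace Groth.Agent.RedCell22

variable {S : Scheme.{u}} {G : Over S} [GrpObj G] [IsAffineHom G.hom] {D : Red.SplitRed G}
variable {A : Type u} [CommRing A] {b : Spec (CommRingCat.of A) ⟶ S}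
variable {B C : Type u} [CommRing B] [Algebra A B] [CommRing C] [Algebra A C]

theorem InOmega.map {φ : D.M →+ ℤ} {g : tb b B ⟶ G} (h : InOmega D φ g) (ψ : B →ₐ[A] C) :
    InOmega D φ (tm b ψ ≫ g) := by
  obtain ⟨v, t, u, hv, hu, rfl⟩ := h
  refine ⟨tm b ψ ≫ v, tm b ψ ≫ t, tm b ψ ≫ u, hv.map _ ψ, hu.map _ ψ, ?_⟩
  rw [tm_mul, tm_mul]
  exact congrArg (fun z => _ * z * _) (Category.assoc _ _ _).symm

/-- A point fixed by a regular cocharacter which lies in the cell is in the torus. -/
theorem exists_tG_of_fixed {φ : D.M →+ ℤ} {g : tb b B ⟶ G} (hg : (lam D φ).IsFixed g) (h : InOmega D φ g) :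
    ∃ t : tb b B ⟶ D.T, g = tG D t := by
  obtain ⟨v, t, u, hv, hu, he⟩ := h
  have hv1 : v = 1 := eq_one_of_opposite D (by
    rw [show v = g * u⁻¹ * (tG D t)⁻¹ by rw [he]; group]
    exact ((hg.hasLim _).mul _ ((hu.hasLim _).inv _)).mul _ ((hasLim_tG D φ t).inv _)) hv
  rw [hv1, _root_.one_mul] at he
  have hu1 : u = 1 := Cochar.eq_one_of_fixed_of_limOne _ (by
    rw [show u = (tG D t)⁻¹ * g by rw [he]; group]
    exact (fixed_tG D φ t).inv.mul hg) hu
  exact ⟨t, by rw [he, hu1, _root_.mul_one]⟩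

/-- The splitting of a point of the cell along a simple root. -/
theorem exists_levi_split (base : D.P.Base) {a : D.idx} (ha : a ∈ base.support) {φ f : D.M →+ ℤ}
    (hφ : ∀ c ∈ base.support, 0 < φ (D.P.root c)) (hfa : f (D.P.root a) = 0)
    (hf : ∀ r, r ≠ a → D.P.root r ≠ -D.P.root a → f (D.P.root r) ≠ 0)
    (hp : ∀ r, 0 < f (D.P.root r) → 0 < φ (D.P.root r)) (hn : ∀ r, f (D.P.root r) < 0 → φ (D.P.root r) < 0)
    {g : tb b B ⟶ G} (hg : InOmega D φ g) :
    ∃ (wn : tb b B ⟶ G) (y : B) (t : tb b B ⟶ D.T) (x : B) (wp : tb b B ⟶ G), (lam D (-f)).HasLimOne wn ∧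
      (lam D f).HasLimOne wp ∧
      g = wn * (ua D (D.P.reflectionPerm a a) y * tG D t * ua D a x) * wp := by
  have hfna : f (D.P.root (D.P.reflectionPerm a a)) = 0 := by
    rw [Groth.Agent.RootData.root_neg, map_neg, hfa, neg_zero]
  obtain ⟨mp, lp, hlp⟩ := exists_posList D f
  obtain ⟨mn, ln, hln⟩ := exists_posList D (-f)
  have hpl : PosList D φ (Fin.append (fun _ : Fin 1 => a) lp) := by
    refine ⟨Fin.append_injective_iff.mpr ⟨Function.injective_of_subsingleton _, hlp.inj, fun _ j h => ?_⟩,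
      fun r => ⟨?_, fun hr => ?_⟩⟩
    · have := hlp.pos D j
      rw [← h, hfa] at this
      exact lt_irrefl _ this
    · rintro ⟨k, rfl⟩
      refine Fin.addCases (fun j => ?_) (fun j => ?_) k
      · rw [Fin.append_left]; exact hφ a ha
      · rw [Fin.append_right]; exact hp _ (hlp.pos D j)
    · by_cases h : r = a
      · exact ⟨Fin.castAdd mp 0, by simp [h]⟩
      have h2 : D.P.root r ≠ -D.P.root a := fun h2 => by
        rw [h2, map_neg] at hr
        linarith [hφ a ha]
      have h3 : 0 < f (D.P.root r) := by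
        rcases lt_or_gt_of_ne (hf r h h2) with h3 | h3
        · linarith [hn r h3]
        · exact h3
      obtain ⟨j, rfl⟩ := (hlp.mem_iff r).mpr h3
      exact ⟨Fin.natAdd 1 j, by simp⟩
  have hnl : PosList D (-φ) (Fin.append ln (fun _ : Fin 1 => D.P.reflectionPerm a a)) := by
    refine ⟨Fin.append_injective_iff.mpr ⟨hln.inj, Function.injective_of_subsingleton _, fun j _ h => ?_⟩,
      fun r => ⟨?_, fun hr => ?_⟩⟩
    · have := hln.pos D j
      rw [AddMonoidHom.neg_apply, h, hfna] at this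
      simp at this
    · rintro ⟨k, rfl⟩
      rw [AddMonoidHom.neg_apply, neg_pos]
      refine Fin.addCases (fun j => ?_) (fun j => ?_) k
      · rw [Fin.append_left]; exact hn _ (by simpa using hln.pos D j)
      · rw [Fin.append_right, Groth.Agent.RootData.root_neg, map_neg, neg_neg_iff_pos]; exact hφ a ha
    · rw [AddMonoidHom.neg_apply, neg_pos] at hr
      by_cases h2 : D.P.root r = -D.P.root a
      · exact ⟨Fin.natAdd mn 0, by
          rw [Fin.append_right]; exact D.P.root.injective ((Groth.Agent.RootData.root_neg D.P a).trans h2.symm)⟩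
      have h : r ≠ a := fun h => by subst h; linarith [hφ r ha]
      have h3 : f (D.P.root r) < 0 := by
        rcases lt_or_gt_of_ne (hf r h h2) with h3 | h3
        · exact h3
        · linarith [hp r h3]
      obtain ⟨j, rfl⟩ := (hln.mem_iff r).mpr (by simpa using h3)
      exact ⟨Fin.castAdd 1 j, by simp⟩
  obtain ⟨q, rfl⟩ := hg.exists_cellPt hnl hpl
  obtain ⟨yy, t, xx, rfl⟩ := exists_cellPt D q
  refine ⟨word D ln fun k => yy (Fin.castAdd 1 k), yy (Fin.natAdd mn 0), t, xx (Fin.castAdd mp 0),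
    word D lp fun k => xx (Fin.natAdd 1 k), hasLimOne_word D (hln.pos D) _, hasLimOne_word D (hlp.pos D) _, ?_⟩
  rw [cellPt_cellMap, cellWord, word_append_one, word_one_append]
  simp [_root_.mul_assoc]

/-- A point of the cell fixed by the cocharacter of a simple root is in the cell of the root. -/
theorem exists_pm_of_fixed (base : D.P.Base) {a : D.idx} (ha : a ∈ base.support) {φ f : D.M →+ ℤ}
    (hφ : ∀ c ∈ base.support, 0 < φ (D.P.root c)) (hfa : f (D.P.root a) = 0)
    (hf : ∀ r, r ≠ a → D.P.root r ≠ -D.P.root a → f (D.P.root r) ≠ 0)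
    (hp : ∀ r, 0 < f (D.P.root r) → 0 < φ (D.P.root r)) (hn : ∀ r, f (D.P.root r) < 0 → φ (D.P.root r) < 0)
    {g : tb b B ⟶ G} (hfix : (lam D f).IsFixed g) (hg : InOmega D φ g) :
    ∃ (y : B) (t : tb b B ⟶ D.T) (x : B), g = ua D (D.P.reflectionPerm a a) y * tG D t * ua D a x := by
  have hfna : f (D.P.root (D.P.reflectionPerm a a)) = 0 := by
    rw [Groth.Agent.RootData.root_neg, map_neg, hfa, neg_zero]
  obtain ⟨wn, y, t, x, wp, hwn, hwp, he⟩ := exists_levi_split base ha hφ hfa hf hp hn hg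
  let L : tb b B ⟶ G := ua D (D.P.reflectionPerm a a) y * tG D t * ua D a x
  have hL : (lam D f).IsFixed L := ((fixed_ua D hfna y).mul (fixed_tG D f t)).mul (fixed_ua D hfa x)
  have hwn1 : wn = 1 := eq_one_of_opposite D (by
    rw [show wn = g * wp⁻¹ * L⁻¹ by rw [he]; simp only [L]; group]
    exact ((hfix.hasLim _).mul _ ((hwp.hasLim _).inv _)).mul _ ((hL.hasLim _).inv _)) hwn
  rw [hwn1, _root_.one_mul] at he
  have hwp1 : wp = 1 := Cochar.eq_one_of_fixed_of_limOne _ (by
    rw [show wp = L⁻¹ * g by rw [he]; simp only [L]; group]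
    exact hL.inv.mul hfix) hwp
  exact ⟨y, t, x, by rw [he, hwp1, _root_.mul_one]⟩

/-- The geometric closed fibre of a local algebra. -/
theorem exists_closedGeom (B : Type u) [CommRing B] [Algebra A B] [IsLocalRing B] :
    ∃ (K : Type u) (_ : Field K) (_ : IsAlgClosed K) (_ : Algebra A K) (ψ : B →ₐ[A] K), IsLocalHom ψ.toRingHom := by
  let k := IsLocalRing.ResidueField B
  let K := AlgebraicClosure k
  let r : B →+* K := (algebraMap k K).comp (IsLocalRing.residue B)
  letI : Algebra A K := (r.comp (algebraMap A B)).toAlgebra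
  refine ⟨K, inferInstance, inferInstance, inferInstance, ⟨r, fun a => rfl⟩, ⟨fun x hx => ?_⟩⟩
  by_contra hnu
  have h0 : r x = 0 := by
    show algebraMap k K (IsLocalRing.residue B x) = 0
    rw [(IsLocalRing.residue_eq_zero_iff x).mpr hnu, map_zero]
  exact not_isUnit_zero (h0 ▸ hx : IsUnit (0 : K))

/-- A point of a local algebra whose geometric closed point is in the cell is a point of the cell. -/
theorem inOmega_of_closed [IsLocalRing B] {K : Type u} [Field K] [IsAlgClosed K] [Algebra A K] (ψ : B →ₐ[A] K)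
    [IsLocalHom ψ.toRingHom] {φ : D.M →+ ℤ} (hreg : ∀ r, φ (D.P.root r) ≠ 0) {g : tb b B ⟶ G}
    (h : InOmega D φ (tm b ψ ≫ g)) : InOmega D φ g := by
  obtain ⟨m, lp, hlp⟩ := exists_posList D φ
  obtain ⟨n, ln, hln⟩ := exists_posList D (-φ)
  haveI := isOpenImmersion_cell hln hlp hreg
  let cm := RedSub.cellMap D ln lp
  obtain ⟨p, hp⟩ := h.exists_cellPt hln hlp
  have hc : g.left (IsLocalRing.closedPoint B) ∈ cm.left.opensRange := by
    have e : (tm b ψ).left (IsLocalRing.closedPoint K) = IsLocalRing.closedPoint B :=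
      IsLocalRing.comap_closedPoint ψ.toRingHom
    rw [← e]
    show (tm b ψ ≫ g).left (IsLocalRing.closedPoint K) ∈ _
    rw [← hp]
    exact ⟨_, rfl⟩
  have hr : Set.range g.left ⊆ Set.range cm.left := by
    rintro _ ⟨z, rfl⟩
    exact ((IsLocalRing.specializes_closedPoint z).map g.left.continuous).mem_open cm.left.opensRange.2 hc
  let q : tb b B ⟶ CellSrc D n m := Over.homMk (IsOpenImmersion.lift cm.left g.left hr)
    (by rw [← Over.w cm, IsOpenImmersion.lift_fac_assoc, Over.w])
  have hq : q ≫ cm = g := Over.OverMorphism.ext (IsOpenImmersion.lift_fac _ _ _)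
  rw [← hq]
  exact inOmega_cellMap hln hlp q

end Groth.Agent.RedCell22
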