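import Groth.Agent.RedCell22.CellExt
import Groth.Agent.RedCell22.LocalAlg

/-!
# General points of the cell over algebras
-/

set_option autoImplicit false
set_option linter.unusedSectionVars false
set_option linter.style.haveILetI false

universe u

open CategoryTheory CategoryTheory.Limits AlgebraicGeometry MonoidalCategory CartesianMonoidalCategory
open MonObj GrpObj

noncomputable section

namespace Groth.Agent.RedCell22

variable {S : Scheme.{u}} {G : Over S} [GrpObj G] [IsAffineHom G.hom] {D : Red.SplitRed G}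
variable {A : Type u} [CommRing A] {b : Spec (CommRingCat.of A) ⟶ S}
variable {B : Type u} [CommRing B] [Algebra A B]

/-- Equality in an algebra may be checked after extensions over which finitely many points are moved into the
cell by a common point of the cell. -/
theorem eq_of_generic {φ : D.M →+ ℤ} (hreg : ∀ r, φ (D.P.root r) ≠ 0) (L : List (tb b B ⟶ G)) {e₁ e₂ : B}
    (h : ∀ (C : Type u) [CommRing C] [Algebra A C] (ψ : B →ₐ[A] C) (w : tb b C ⟶ G), InOmega D φ w →
      (∀ g ∈ L, InOmega D φ ((tm b ψ ≫ g) * w)) → ψ e₁ = ψ e₂) : e₁ = e₂ := by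
  obtain ⟨m, lp, hlp⟩ := exists_posList D φ
  obtain ⟨n, ln, hln⟩ := exists_posList D (-φ)
  obtain ⟨X', π, w, hπ, hw⟩ := exists_generic hln hlp hreg (tb b B) L
  let cm := RedSub.cellMap D ln lp
  have key : π ≫ (gaPt e₁ : tb b B ⟶ Red.Ga S) = π ≫ gaPt e₂ := by
    refine Over.OverMorphism.ext (X'.left.affineOpenCover.openCover.hom_ext _ _ fun i => ?_)
    let C : Type u := X'.left.affineOpenCover.X i
    let j : Spec (CommRingCat.of C) ⟶ X'.left := X'.left.affineOpenCover.f i
    let r : B →+* C := (Spec.preimage (j ≫ π.left)).hom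
    letI : Algebra A C := (r.comp (algebraMap A B)).toAlgebra
    let ψ : B →ₐ[A] C := ⟨r, fun _ => rfl⟩
    have hr : Spec.map (CommRingCat.ofHom r) = j ≫ π.left := Spec.map_preimage _
    let q : tb b C ⟶ X' := Over.homMk j (by
      show j ≫ X'.hom = Spec.map (CommRingCat.ofHom (r.comp (algebraMap A B))) ≫ b
      rw [CommRingCat.ofHom_comp, Spec.map_comp, hr, Category.assoc, Category.assoc]
      exact congrArg (j ≫ ·) (Over.w π).symm)
    have hq : q ≫ π = tm b ψ := Over.OverMorphism.ext hr.symm
    have h0 := h C ψ ((q ≫ w) ≫ cm) (inOmega_cellMap hln hlp _) fun g hg => by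
      obtain ⟨z, hz⟩ := hw g hg
      rw [← hq, Category.assoc, Category.assoc, ← MonObj.comp_mul, ← hz, ← Category.assoc]
      exact inOmega_cellMap hln hlp _
    have h1 : q ≫ π ≫ (gaPt e₁ : tb b B ⟶ Red.Ga S) = q ≫ π ≫ gaPt e₂ := by
      rw [← Category.assoc, hq, gaPt_map, h0, ← gaPt_map, ← hq, Category.assoc]
    exact congrArg CommaMorphism.left h1
  have h2 := (cancel_epi π).mp key
  rw [← gs_gaFn_gaPt (b := b) e₁, h2, gs_gaFn_gaPt]

end Groth.Agent.RedCell22
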