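import Groth.Agent.RedCell22.RankOneChar
import Groth.Agent.RedCell22.GenericPts

/-!
# A character killed by all coroots is multiplicative on the cell
-/

set_option autoImplicit false
set_option linter.unusedSectionVars false
set_option linter.style.haveILetI false

universe u

open CategoryTheory CategoryTheory.Limits AlgebraicGeometry MonoidalCategory CartesianMonoidalCategory
open MonObj GrpObj

noncomputable section

namespace Groth.Agent.RedCell22

variable {S : Scheme.{u}} {G : Over S} [GrpObj G] [IsAffineHom G.hom] {D : Red.SplitRed G}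
variable {A : Type u} [CommRing A] {b : Spec (CommRingCat.of A) ⟶ S}
variable {B C : Type u} [CommRing B] [Algebra A B] [CommRing C] [Algebra A C]

/-- Left multiplication by a point multiplies the value of a character on the cell by a unit. -/
def Mult (D : Red.SplitRed G) (φ : D.M →+ ℤ) (m : D.M) (g : tb b B ⟶ G) (c : Bˣ) : Prop :=
  ∀ (C : Type u) [CommRing C] [Algebra A C] (ψ : B →ₐ[A] C) (v : tb b C ⟶ G) (u u' : Cˣ),
    Val D φ m v u → Val D φ m ((tm b ψ ≫ g) * v) u' → u' = Units.map ψ.toMonoidHom c * u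

/-- A product of points multiplying the value of a character by given units. -/
def GenProd (D : Red.SplitRed G) (φ : D.M →+ ℤ) (m : D.M) (g : tb b B ⟶ G) (c : Bˣ) : Prop :=
  ∃ L : List ((tb b B ⟶ G) × Bˣ),
    (∀ p ∈ L, Mult D φ m p.1 p.2) ∧ (L.map Prod.fst).prod = g ∧ (L.map Prod.snd).prod = c

variable {φ : D.M →+ ℤ} {m : D.M} {g g' : tb b B ⟶ G} {c c' : Bˣ}

theorem Mult.map (h : Mult D φ m g c) (ψ : B →ₐ[A] C) :
    Mult D φ m (tm b ψ ≫ g) (Units.map ψ.toMonoidHom c) := by
  intro E _ _ χ v u u' hv hv'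
  rw [← Category.assoc, tm_comp] at hv'
  exact h E (χ.comp ψ) v u u' hv hv'

theorem Mult.inv (h : Mult D φ m g c) : Mult D φ m g⁻¹ c⁻¹ := by
  intro C _ _ ψ v u u' hv hv'
  rw [tm_inv] at hv'
  have h1 := h C ψ _ u' u hv' (by rwa [mul_inv_cancel_left])
  rw [map_inv, h1, inv_mul_cancel_left]

theorem mult_neg (hg : (lam D (-φ)).HasLimOne g) : Mult D φ m g 1 := by
  intro C _ _ ψ v u u' hv hv'
  rw [map_one, _root_.one_mul]
  exact hv'.unique (hv.mul_left (hg.map _ ψ))

theorem mult_tG (t : tb b B ⟶ D.T) : Mult D φ m (tG D t) (chr D m t) := by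
  intro C _ _ ψ v u u' hv hv'
  rw [tG_map] at hv'
  have h := hv.torus_left (tm b ψ ≫ t)
  rw [chr_map] at h
  exact hv'.unique h

theorem GenProd.of (h : Mult D φ m g c) : GenProd D φ m g c := ⟨[(g, c)], by simpa using h, by simp, by simp⟩

theorem GenProd.mul (h : GenProd D φ m g c) (h' : GenProd D φ m g' c') : GenProd D φ m (g * g') (c * c') := by
  obtain ⟨L, hL, rfl, rfl⟩ := h
  obtain ⟨L', hL', rfl, rfl⟩ := h'
  refine ⟨L ++ L', fun p hp => ?_, by simp, by simp⟩
  rcases List.mem_append.mp hp with hp | hp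
  · exact hL p hp
  · exact hL' p hp

theorem GenProd.one : GenProd D φ m (1 : tb b B ⟶ G) 1 := ⟨[], by simp, rfl, rfl⟩

theorem GenProd.inv (h : GenProd D φ m g c) : GenProd D φ m g⁻¹ c⁻¹ := by
  obtain ⟨L, hL, rfl, rfl⟩ := h
  induction L with
  | nil => simpa using GenProd.one
  | cons p L ih =>
    simp only [List.map_cons, List.prod_cons, _root_.mul_inv_rev]
    exact (ih fun q hq => hL q (List.mem_cons_of_mem _ hq)).mul (GenProd.of (hL p (List.mem_cons_self ..)).inv)

/-- Multiplication by a list of points along which the cell is not left. -/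
theorem val_prod {L : List ((tb b B ⟶ G) × Bˣ)} (hL : ∀ p ∈ L, Mult D φ m p.1 p.2) (ψ : B →ₐ[A] C)
    {v : tb b C ⟶ G} {u : Cˣ} (hv : Val D φ m v u)
    (h : ∀ g ∈ suffixes (L.map Prod.fst), InOmega D φ ((tm b ψ ≫ g) * v)) :
    Val D φ m ((tm b ψ ≫ (L.map Prod.fst).prod) * v) (Units.map ψ.toMonoidHom (L.map Prod.snd).prod * u) := by
  induction L with
  | nil => simpa [MonObj.comp_one] using hv
  | cons p L ih =>
    have h1 := ih (fun q hq => hL q (List.mem_cons_of_mem _ hq)) fun g hg => h g (List.mem_cons_of_mem _ hg)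
    obtain ⟨u', hu'⟩ := (h _ (List.mem_cons_self ..)).exists_val m
    simp only [List.map_cons, List.prod_cons, tm_mul, _root_.mul_assoc, map_mul] at hu' ⊢
    rwa [hL p (List.mem_cons_self ..) C ψ _ _ u' h1 hu'] at hu'

/-- Equal products of multipliers have the same value. -/
theorem GenProd.unique (hreg : ∀ r, φ (D.P.root r) ≠ 0) (h : GenProd D φ m g c) (h' : GenProd D φ m g c') :
    c = c' := by
  obtain ⟨L, hL, hg, hc⟩ := h
  obtain ⟨L', hL', hg', hc'⟩ := h'
  refine Units.ext (eq_of_generic (b := b) hreg (suffixes (L.map Prod.fst) ++ suffixes (L'.map Prod.fst))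
    fun C _ _ ψ w hw hmem => ?_)
  obtain ⟨u, hu⟩ := hw.exists_val m
  have h1 := val_prod hL ψ hu fun g hg => hmem g (List.mem_append_left _ hg)
  have h2 := val_prod hL' ψ hu fun g hg => hmem g (List.mem_append_right _ hg)
  rw [hg, hc] at h1
  rw [hg', hc'] at h2
  exact congrArg Units.val (mul_right_cancel (h1.unique h2))

section Base

variable (base : D.P.Base) (hφ : ∀ c ∈ base.support, 0 < φ (D.P.root c)) (hm : ∀ c, D.P.coroot c m = 0)
include hφ hm

/-- At a field a point is not in the cell and in the translate by a simple reflection at once. -/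
theorem not_inOmega_translate {a : D.idx} {n : 𝟙_ (Over S) ⟶ G} (hn : IsReflPt D a n) {K : Type u} [Field K]
    [Algebra A K] {v u : tb b K ⟶ G} {t : tb b K ⟶ D.T} (hv : (lam D (-φ)).HasLimOne v)
    (hu : (lam D φ).HasLimOne u) : ¬ InOmega D φ (v * (toUnit _ ≫ n) * tG D t * u) := by
  intro h
  classical
  choose nr₀ hnr₀ using D.refl
  let nr := Function.update nr₀ a n
  have hnr : RedSub.RealisesReflections D nr := fun c => by
    rcases eq_or_ne c a with rfl | hc
    · simp only [nr, Function.update_self]; exact hn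
    · simp only [nr, Function.update_of_ne hc]; exact hnr₀ c
  have h1 : InBruhat nr φ [a] (v * (toUnit _ ≫ n) * tG D t * u) :=
    ⟨v, t, u, hv, hu, by rw [nWord_cons, nWord_nil]; simp [nr]⟩
  obtain ⟨v', t', u', hv', hu', he⟩ := h
  have h2 : InBruhat nr φ [] (v * (toUnit _ ≫ n) * tG D t * u) :=
    ⟨v', t', u', hv', hu', by rw [nWord_nil, _root_.mul_one]; exact he⟩
  have h3 := congrArg (fun e : Equiv.Perm D.idx => D.P.root (e a)) (wordPerm_eq_of_inBruhat base hnr hφ h1 h2)
  simp [RedSub.wordPerm] at h3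
  haveI : IsAddTorsionFree D.M := .of_isTorsionFree ℤ D.M
  have h4 : D.P.root a = 0 := by
    have := congrArg (fun x => x + D.P.root a) h3
    simp only [neg_add_cancel] at this
    exact (smul_eq_zero.mp ((two_smul ℤ _).trans this.symm)).resolve_left two_ne_zero
  exact D.P.ne_zero a h4

/-- Over a local algebra a simple root group does not change the value. -/
theorem val_simple_local [IsLocalRing B] {a : D.idx} (ha : a ∈ base.support) (x : B) {v : tb b B ⟶ G} {u u' : Bˣ}
    (hv : Val D φ m v u) (hv' : Val D φ m (ua D a x * v) u') : u' = u := by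
  have hreg : ∀ r, φ (D.P.root r) ≠ 0 := fun r => (mem_posRoots_iff D.P base hφ r).2.2
  obtain ⟨n, hn⟩ := D.refl a
  let na := D.P.reflectionPerm a a
  obtain ⟨f, hfa, hf, hp, hn'⟩ := exists_simple_form base ha hφ
  have hfna : f (D.P.root na) = 0 := by rw [Groth.Agent.RootData.root_neg, map_neg, hfa, neg_zero]
  obtain ⟨wn, y, t, x', wp, hwn, hwp, hve⟩ := exists_levi_split base ha hφ hfa hf hp hn' hv.inOmega
  let P : tb b B ⟶ G := ua D a x
  let wn' : tb b B ⟶ G := P * wn * P⁻¹
  have hwn' : (lam D (-φ)).HasLimOne wn' := by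
    have h1 : (lam D (-f)).HasLimOne wn' := hwn.conj_fixed (fixed_neg (fixed_ua D hfa x))
    obtain ⟨k, ln, hln⟩ := exists_posList D (-f)
    obtain ⟨z, hz⟩ := exists_word hln h1
    rw [← hz]
    exact hasLimOne_word D (fun i => by simpa using hn' _ (by simpa using hln.pos D i)) z
  have hwpφ : (lam D φ).HasLimOne (ua D a x' * wp) := by
    obtain ⟨k, lp, hlp⟩ := exists_posList D f
    obtain ⟨z, hz⟩ := exists_word hlp hwp
    rw [← hz]
    exact (hasLimOne_ua D (hφ a ha) x').mul _ (hasLimOne_word D (fun i => hp _ (hlp.pos D i)) z)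
  have hwnφ : (lam D (-φ)).HasLimOne wn := by
    obtain ⟨k, ln, hln⟩ := exists_posList D (-f)
    obtain ⟨z, hz⟩ := exists_word hln hwn
    rw [← hz]
    exact hasLimOne_word D (fun i => by simpa using hn' _ (by simpa using hln.pos D i)) z
  have e : P * v = wn' * (P * ua D na y) * tG D t * (ua D a x' * wp) := by
    rw [hve]
    simp only [wn', P, na]
    group
  have hin : InOmega D φ (P * ua D na y) := by
    obtain ⟨K, _, _, _, ψ, hψ⟩ := exists_closedGeom (A := A) B
    haveI := hψ
    refine inOmega_of_closed ψ hreg ?_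
    obtain ⟨R, hRp, hRm, hRT, hRN⟩ := exists_rank1 (b := b) (K := K) base a hn
    have hfix : (lam D f).IsFixed (ua D a (ψ x) * ua D na (ψ y) : tb b K ⟶ G) :=
      (fixed_ua D hfa _).mul (fixed_ua D hfna _)
    rw [tm_mul, ua_map, ua_map]
    rcases levi_cases base hfa hf R hRp hRm hRT hfix with hc | ⟨r, t₀, ht₀, he⟩
    · have := inOmega_of_inCell hp hn' (hφ a ha) R hRp hRm hRT (Cochar.hasLimOne_one _) (Cochar.hasLimOne_one _) hc
      rwa [_root_.one_mul, _root_.mul_one] at this
    · exfalso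
      rw [hRT] at ht₀
      obtain ⟨s, rfl⟩ := ht₀
      have hK := (hv'.inOmega.map ψ)
      rw [show tm b ψ ≫ (ua D a x * v) = tm b ψ ≫ (P * v) from rfl, e] at hK
      simp only [P, tm_mul, ua_map, tG_map] at hK
      rw [he, hRp, hRN] at hK
      let τ : tb b K ⟶ D.T := s * (tm b ψ ≫ t)
      refine not_inOmega_translate base hφ hm hn (t := τ) (hwn'.map _ ψ) (u := ((tG D τ)⁻¹ * ua D a r * tG D τ) *
        (ua D a (ψ x') * (tm b ψ ≫ wp))) ?_ ?_
      · refine Cochar.HasLimOne.mul _ ?_ ?_
        · simpa using (hasLimOne_ua D (hφ a ha) r).conj_fixed (fixed_tG D φ τ).inv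
        · have := hwpφ.map _ ψ
          rwa [tm_mul, ua_map] at this
      · convert hK using 1
        simp only [τ, tGHom, MonoidHom.mk'_apply, tG_mul]
        group
  have h1 := (((val_pm base ha hφ (hm a) hn hin).torus_right t).mul_left hwn').mul_right hwpφ
  rw [_root_.one_mul, ← _root_.mul_assoc wn', ← e] at h1
  rw [hv'.unique h1, hv.unique ⟨wn * ua D na y, t, ua D a x' * wp, hwnφ.mul _ (val_root_neg base ha hφ (hm a) hn y),
    hwpφ, rfl, by rw [hve]; simp only [na]; group⟩]

/-- A simple root group does not change the value. -/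
theorem mult_simple {a : D.idx} (ha : a ∈ base.support) (x : B) : Mult D φ m (ua D a x : tb b B ⟶ G) 1 := by
  intro C _ _ ψ v u u' hv hv'
  rw [map_one, _root_.one_mul]
  rw [ua_map] at hv'
  refine Units.ext (MaximalSpectrum.toPiLocalization_injective C (funext fun P => ?_))
  let χ : C →ₐ[A] Localization.AtPrime P.asIdeal := IsScalarTower.toAlgHom A C _
  have h2 := hv'.map χ
  rw [tm_mul, ua_map] at h2
  exact congrArg Units.val (val_simple_local base hφ hm ha (χ (ψ x)) (hv.map χ) h2)

/-- A root group multiplies the value by one. -/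
theorem genProd_ua (r : D.idx) (x : B) : GenProd D φ m (ua D r x : tb b B ⟶ G) 1 := by
  have hneg : ∀ a ∈ base.support, ∀ x : B, GenProd D φ m (ua D (D.P.reflectionPerm a a) x : tb b B ⟶ G) 1 :=
    fun a ha x => .of (mult_neg (hasLimOne_ua D (by
      show 0 < -(φ (D.P.root _))
      rw [Groth.Agent.RootData.root_neg, map_neg, neg_neg]
      exact hφ a ha) x))
  have hinv : ∀ r : D.idx, D.P.reflectionPerm (D.P.reflectionPerm r r) (D.P.reflectionPerm r r) = r := fun r =>
    D.P.root.injective (by rw [Groth.Agent.RootData.root_neg, Groth.Agent.RootData.root_neg, neg_neg])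
  suffices h : (∀ x : B, GenProd D φ m (ua D r x : tb b B ⟶ G) 1) ∧
      ∀ x : B, GenProd D φ m (ua D (D.P.reflectionPerm r r) x : tb b B ⟶ G) 1 from h.1 x
  haveI := isReduced_of_base base
  refine base.induction_reflect r (p := fun i => (∀ x : B, GenProd D φ m (ua D i x : tb b B ⟶ G) 1) ∧
      ∀ x : B, GenProd D φ m (ua D (D.P.reflectionPerm i i) x : tb b B ⟶ G) 1)
    (fun i hi => ⟨hi.2, by rw [hinv]; exact hi.1⟩)
    (fun i hi => ⟨fun x => .of (mult_simple base hφ hm hi x), hneg i hi⟩) fun i j hi hj => ?_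
  obtain ⟨n, hn⟩ := D.refl j
  obtain ⟨y₁, t₁, x₁, h₁⟩ := exists_refl_decomp (A := A) (b := b) base hj hn
  let φB : A →ₐ[A] B := Algebra.ofId A B
  have hN : GenProd D φ m (toUnit _ ≫ n : tb b B ⟶ G) (chr D m (tm b φB ≫ t₁)) := by
    have h' := congrArg (tm b φB ≫ ·) h₁
    simp only [tm_mul, toUnit_map, ua_map, map_one, tG_map] at h'
    rw [eq_mul_inv_of_mul_eq h']
    have := (((hneg j hj (φB y₁)).mul (.of (mult_tG (φ := φ) (m := m) (tm b φB ≫ t₁)))).mul
      (.of (mult_simple base hφ hm hj (φB x₁)))).mul (hneg j hj 1).inv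
    simpa using this
  have key : ∀ c : D.idx, (∀ x : B, GenProd D φ m (ua D c x : tb b B ⟶ G) 1) →
      ∀ x : B, GenProd D φ m (ua D (D.P.reflectionPerm j c) x : tb b B ⟶ G) 1 := by
    intro c hc x
    obtain ⟨e, he⟩ := exists_conj_refl (A := A) (b := b) base hn c
    have h1 := he B (algebraMap A B (↑e⁻¹ : A) * x)
    rw [← _root_.mul_assoc, ← map_mul, Units.mul_inv, map_one, _root_.one_mul] at h1
    rw [← h1]
    have := (hN.mul (hc (algebraMap A B (↑e⁻¹ : A) * x))).mul hN.inv
    simpa using this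
  refine ⟨key i hi.1, fun x => ?_⟩
  rw [show D.P.reflectionPerm (D.P.reflectionPerm j i) (D.P.reflectionPerm j i) =
    D.P.reflectionPerm j (D.P.reflectionPerm i i) from D.P.root.injective (by
      rw [Groth.Agent.RootData.root_neg, D.P.root_reflectionPerm j, D.P.root_reflectionPerm j,
        Groth.Agent.RootData.root_neg, map_neg])]
  exact key _ hi.2 x

theorem genProd_of_val {g : tb b B ⟶ G} {u : Bˣ} (h : Val D φ m g u) : GenProd D φ m g u := by
  obtain ⟨v, t, w, hv, hw, rfl, rfl⟩ := h
  obtain ⟨k, lp, hlp⟩ := exists_posList D φ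
  obtain ⟨z, rfl⟩ := exists_word hlp hw
  have hlist : ∀ L : List (tb b B ⟶ G), (∀ g ∈ L, GenProd D φ m g 1) → GenProd D φ m L.prod 1 := by
    intro L hL
    induction L with
    | nil => simpa using GenProd.one
    | cons a L ih =>
      simpa using (hL a (List.mem_cons_self ..)).mul (ih fun g hg => hL g (List.mem_cons_of_mem _ hg))
  have hw' : GenProd D φ m (word D lp z) 1 := hlist _ fun g hg => by
    obtain ⟨i, rfl⟩ := (List.mem_ofFn' _ _).mp hg
    exact genProd_ua base hφ hm _ _
  have := ((GenProd.of (mult_neg (φ := φ) (m := m) hv)).mul (.of (mult_tG t))).mul hw'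
  simpa using this

/-- The value is multiplicative on the cell. -/
theorem val_mul {x y : tb b B ⟶ G} {u u' u'' : Bˣ} (hx : Val D φ m x u) (hy : Val D φ m y u')
    (hz : Val D φ m (x * y) u'') : u'' = u * u' :=
  (genProd_of_val base hφ hm hz).unique (fun r => (mem_posRoots_iff D.P base hφ r).2.2)
    ((genProd_of_val base hφ hm hx).mul (genProd_of_val base hφ hm hy))

end Base

end Groth.Agent.RedCell22
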