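import Groth.Agent.RedCell22.DerivedChar

/-!
# The homomorphism to the torus of characters killed by the coroots
-/

set_option autoImplicit false
set_option linter.unusedSectionVars false
set_option linter.style.haveILetI false

universe u

open CategoryTheory CategoryTheory.Limits AlgebraicGeometry MonoidalCategory CartesianMonoidalCategory
open MonObj GrpObj

noncomputable section

namespace Groth.Agent.RedCell22

variable {S : Scheme.{u}} {G : Over S} [GrpObj G] [IsAffineHom G.hom] {D : Red.SplitRed G} {n m : ℕ}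
variable {A : Type u} [CommRing A] {b : Spec (CommRingCat.of A) ⟶ S}
variable {B : Type u} [CommRing B] [Algebra A B]

/-- The projection of the cell to the torus of a subgroup of characters. -/
def cellChar (D : Red.SplitRed G) (N : AddSubgroup D.M) (n m : ℕ) : CellSrc D n m ⟶ Red.DS S ↥N :=
  snd _ _ ≫ fst _ _ ≫ D.split.hom.hom.hom ≫ Red.DSmap S N.subtype

theorem tpt_proj (N : AddSubgroup D.M) (χ : Multiplicative D.M →* Bˣ) :
    (tpt D χ : tb b B ⟶ D.T) ≫ D.split.hom.hom.hom ≫ Red.DSmap S N.subtype =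
      dsPt (χ.comp (AddMonoidHom.toMultiplicative N.subtype)) := by
  have h : D.split.inv.hom.hom ≫ D.split.hom.hom.hom = 𝟙 _ := congrArg (fun z => z.hom.hom) D.split.inv_hom_id
  rw [tpt, Category.assoc, reassoc_of% h, dsPt_DSmap]

theorem cellPt_cellChar (N : AddSubgroup D.M) (y : Fin n → B) (t : tb b B ⟶ D.T) (x : Fin m → B) :
    cellPt D y t x ≫ cellChar D N n m = t ≫ D.split.hom.hom.hom ≫ Red.DSmap S N.subtype := by
  rw [cellPt, cellChar, lift_snd_assoc, lift_fst_assoc]

/-- Morphisms from a scheme over the base agree if they agree on the points with values in rings. -/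
theorem hom_ext_of_pts {X Y : Over S} {f g : X ⟶ Y}
    (h : ∀ (A : Type u) [CommRing A] (b : Spec (CommRingCat.of A) ⟶ S) (q : tb b A ⟶ X), q ≫ f = q ≫ g) :
    f = g := by
  refine Over.OverMorphism.ext (X.left.affineOpenCover.openCover.hom_ext _ _ fun i => ?_)
  let C : Type u := X.left.affineOpenCover.X i
  let j : Spec (CommRingCat.of C) ⟶ X.left := X.left.affineOpenCover.f i
  let q : tb (j ≫ X.hom) C ⟶ X := Over.homMk j (by
    show j ≫ X.hom = Spec.map (CommRingCat.ofHom (algebraMap C C)) ≫ j ≫ X.hom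
    rw [show CommRingCat.ofHom (algebraMap C C) = 𝟙 _ from rfl, Spec.map_id, Category.id_comp])
  exact congrArg CommaMorphism.left (h C (j ≫ X.hom) q)

variable {base : D.P.Base} {φ : D.M →+ ℤ} {l : Fin n → D.idx} {l' : Fin m → D.idx} {N : AddSubgroup D.M}

/-- The projection is multiplicative on the cell. -/
theorem cellChar_mult (hφ : ∀ c ∈ base.support, 0 < φ (D.P.root c)) (hl : PosList D (-φ) l) (hl' : PosList D φ l')
    (hN : ∀ x ∈ N, ∀ c : D.idx, D.P.coroot c x = 0) (X : Over S) (x y z : X ⟶ CellSrc D n m)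
    (h : z ≫ RedSub.cellMap D l l' = (x ≫ RedSub.cellMap D l l') * (y ≫ RedSub.cellMap D l l')) :
    z ≫ cellChar D N n m = (x ≫ cellChar D N n m) * (y ≫ cellChar D N n m) := by
  refine hom_ext_of_pts fun A _ b q => ?_
  rw [MonObj.comp_mul, ← Category.assoc, ← Category.assoc, ← Category.assoc]
  have h' := congrArg (q ≫ ·) h
  simp only [MonObj.comp_mul, ← Category.assoc] at h'
  obtain ⟨y₁, t₁, x₁, e₁⟩ := exists_cellPt D (q ≫ x)
  obtain ⟨y₂, t₂, x₂, e₂⟩ := exists_cellPt D (q ≫ y)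
  obtain ⟨y₃, t₃, x₃, e₃⟩ := exists_cellPt D (q ≫ z)
  rw [e₁, e₂, e₃, cellPt_cellMap, cellPt_cellMap, cellPt_cellMap, cellWord, cellWord, cellWord] at h'
  rw [e₁, e₂, e₃, cellPt_cellChar, cellPt_cellChar, cellPt_cellChar]
  obtain ⟨χ₁, rfl⟩ := tpt_surjective D t₁
  obtain ⟨χ₂, rfl⟩ := tpt_surjective D t₂
  obtain ⟨χ₃, rfl⟩ := tpt_surjective D t₃
  rw [tpt_proj, tpt_proj, tpt_proj, ← dsPt_mul]
  refine congrArg dsPt (MonoidHom.ext fun k => ?_)
  have hval : ∀ (χ : Multiplicative D.M →* Aˣ) (y : Fin n → A) (x : Fin m → A),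
      Val D φ (k.toAdd : D.M) (word D l y * (tG D (tpt D χ) * word D l' x) : tb b A ⟶ G)
        (χ (Multiplicative.ofAdd (k.toAdd : D.M))) := fun χ y x =>
    ⟨_, tpt D χ, _, hasLimOne_word D (hl.pos D) y, hasLimOne_word D (hl'.pos D) x, chr_tpt D χ _,
      (_root_.mul_assoc _ _ _).symm⟩
  exact val_mul base hφ (hN _ k.toAdd.2) (hval χ₁ y₁ x₁) (hval χ₂ y₂ x₂) (h' ▸ hval χ₃ y₃ x₃)

/-- The homomorphism to the torus of the characters killed by all coroots. -/
theorem exists_derivedHom (hφ : ∀ c ∈ base.support, 0 < φ (D.P.root c)) (hl : PosList D (-φ) l)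
    (hl' : PosList D φ l') (hN : ∀ x ∈ N, ∀ c : D.idx, D.P.coroot c x = 0) :
    ∃ f : G ⟶ Red.DS S ↥N, IsMonHom f ∧ RedSub.cellMap D l l' ≫ f = cellChar D N n m :=
  (existsUnique_extension hl hl' (fun r => (mem_posRoots_iff D.P base hφ r).2.2) _
    (cellChar_mult hφ hl hl' hN)).exists

end Groth.Agent.RedCell22
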