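import Groth.Agent.RedCell22.Independent
import Groth.Agent.PPoly4.CotReg
import Groth.Agent.GeomReg.Basic

/-!
# The tangent space at the unit of a split group has dimension at most rank plus number of roots
-/

set_option autoImplicit false
set_option linter.unusedSectionVars false
set_option linter.style.haveILetI false

universe u

open CategoryTheory CategoryTheory.Limits AlgebraicGeometry MonoidalCategory CartesianMonoidalCategory
open MonObj GrpObj

noncomputable section

namespace Groth.Agent.RedCell22

variable {S : Scheme.{u}}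

/-- A derivation at the unit. -/
def IsPtDer {A : Type u} [CommRing A] (b : Spec (CommRingCat.of A) ⟶ S) (G : Over S) [GrpObj G] [IsAffineHom G.hom]
    {K : Type u} [CommRing K] [Algebra A K] (d : FunRing b G →ₗ[A] K) : Prop :=
  ∀ f f', d (f * f') = algebraMap A K (eps b G f) * d f' + algebraMap A K (eps b G f') * d f

section Elem

variable {A : Type u} [CommRing A] {b : Spec (CommRingCat.of A) ⟶ S} {G : Over S} [GrpObj G] [IsAffineHom G.hom]
variable {K : Type u} [Field K] [Algebra A K]

theorem exists_tangent {d : FunRing b G →ₗ[A] K} (hd : IsPtDer b G d) :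
    ∃ g : tb b (DualNumber K) ⟶ G, Inf (Ideal.span {(DualNumber.eps : DualNumber K)}) g ∧
      ∀ f, (dl g f).snd = d f := by
  let d' : FunRing b G →ₗ[A] DualNumber K := ((TrivSqZeroExt.inrHom K K).restrictScalars A).comp d
  have hmem : ∀ f, d' f ∈ Ideal.span {(DualNumber.eps : DualNumber K)} := fun f =>
    Ideal.mem_span_singleton'.mpr ⟨TrivSqZeroExt.inl (d f), by
      simp only [d', DualNumber.eps, TrivSqZeroExt.inl_mul_inr, smul_eq_mul, _root_.mul_one, LinearMap.comp_apply]
      rfl⟩
  obtain ⟨g, hg⟩ := exists_of_der (span_eps_sq K) d' hmem fun f f' => by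
    show TrivSqZeroExt.inr (d (f * f')) = _ * TrivSqZeroExt.inr (d f') + _ * TrivSqZeroExt.inr (d f)
    rw [hd, IsScalarTower.algebraMap_apply A K (DualNumber K), IsScalarTower.algebraMap_apply A K (DualNumber K)]
    simp only [TrivSqZeroExt.algebraMap_eq_inl, TrivSqZeroExt.inl_mul_inr, smul_eq_mul, ← TrivSqZeroExt.inr_add]
  exact ⟨g, fun f => (hg f).symm ▸ hmem f, fun f => by rw [hg]; rfl⟩

theorem fst_dl_of_inf {g : tb b (DualNumber K) ⟶ G} (h : Inf (Ideal.span {(DualNumber.eps : DualNumber K)}) g)
    (f : FunRing b G) : (dl g f).fst = 0 := by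
  obtain ⟨x, hx⟩ := Ideal.mem_span_singleton'.mp (h f)
  rw [← hx]
  simp

/-- Scaling the dual direction. -/
def scale (A : Type u) [CommRing A] [Algebra A K] (c : K) : DualNumber K →ₐ[A] DualNumber K :=
  (TrivSqZeroExt.map (c • (LinearMap.id : K →ₗ[K] K))).restrictScalars A

theorem inf_scale {g : tb b (DualNumber K) ⟶ G} (h : Inf (Ideal.span {(DualNumber.eps : DualNumber K)}) g) (c : K) :
    Inf (Ideal.span {(DualNumber.eps : DualNumber K)}) (tm b (scale A c) ≫ g) := fun f => by
  rw [dl_map]
  obtain ⟨x, hx⟩ := Ideal.mem_span_singleton'.mp (h f)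
  refine Ideal.mem_span_singleton'.mpr ⟨scale A c x * TrivSqZeroExt.inl c, ?_⟩
  rw [← hx, map_mul]
  refine TrivSqZeroExt.ext ?_ ?_ <;> simp [scale]

/-- The combination of a family of tangent vectors. -/
def comb {n : ℕ} (g : Fin n → (tb b (DualNumber K) ⟶ G)) (c : Fin n → K) : tb b (DualNumber K) ⟶ G :=
  (List.ofFn fun i => tm b (scale A (c i)) ≫ g i).prod

theorem dl_comb {n : ℕ} {g : Fin n → (tb b (DualNumber K) ⟶ G)} (c : Fin n → K)
    (h : ∀ i, Inf (Ideal.span {(DualNumber.eps : DualNumber K)}) (g i)) (f : FunRing b G) :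
    Inf (Ideal.span {(DualNumber.eps : DualNumber K)}) (comb g c) ∧
      dl (comb g c) f = TrivSqZeroExt.inr (∑ i, c i * (dl (g i) f).snd) := by
  induction n with
  | zero => exact ⟨by simpa [comb] using inf_one _, by simp [comb, dl_one]⟩
  | succ n ih =>
    obtain ⟨h1, h2⟩ := ih (fun i => c i.succ) (fun i => h i.succ)
    have h0 := inf_scale (h 0) (c 0)
    have e : comb g c = (tm b (scale A (c 0)) ≫ g 0) * comb (fun i => g i.succ) (fun i => c i.succ) := by
      rw [comb, List.ofFn_succ, List.prod_cons]; rfl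
    rw [e]
    refine ⟨h0.mul_mem h1, ?_⟩
    rw [dl_mul (span_eps_sq K) h0 h1, h2, dl_map, Fin.sum_univ_succ, TrivSqZeroExt.inr_add]
    congr 1
    refine TrivSqZeroExt.ext ?_ ?_ <;> simp [scale, fst_dl_of_inf (h 0)]

theorem comb_eq_one_iff {n : ℕ} {g : Fin n → (tb b (DualNumber K) ⟶ G)} (c : Fin n → K)
    (h : ∀ i, Inf (Ideal.span {(DualNumber.eps : DualNumber K)}) (g i)) :
    comb g c = 1 ↔ ∀ f, ∑ i, c i * (dl (g i) f).snd = 0 := by
  constructor
  · intro e f
    have := (dl_comb c h f).2
    rw [e, dl_one] at this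
    simpa using congrArg TrivSqZeroExt.snd this.symm
  · intro e
    exact eq_of_dl fun f => by rw [(dl_comb c h f).2, e f, dl_one, TrivSqZeroExt.inr_zero]

end Elem

section Transport

theorem spec_comp_assoc {R R' R'' : Type u} [CommRing R] [CommRing R'] [CommRing R''] (f : R →+* R') (g : R' →+* R'')
    (q : Spec (CommRingCat.of R) ⟶ S) : Spec.map (CommRingCat.ofHom (g.comp f)) ≫ q =
      Spec.map (CommRingCat.ofHom g) ≫ Spec.map (CommRingCat.ofHom f) ≫ q := by
  rw [CommRingCat.ofHom_comp, Spec.map_comp, Category.assoc]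

variable {A A' : Type u} [CommRing A] [CommRing A'] (b : Spec (CommRingCat.of A) ⟶ S)
  (b' : Spec (CommRingCat.of A') ⟶ S) {B : Type u} [CommRing B] [Algebra A B] [Algebra A' B]
  (h : Spec.map (CommRingCat.ofHom (algebraMap A' B)) ≫ b' = Spec.map (CommRingCat.ofHom (algebraMap A B)) ≫ b)

/-- A test object for two base rings. -/
def moveTb : tb b' B ⟶ tb b B := Over.homMk (𝟙 _) ((Category.id_comp _).trans h.symm)

instance : IsIso (moveTb b b' h) := by
  haveI : IsIso ((Over.forget S).map (moveTb b b' h)) := inferInstanceAs (IsIso (𝟙 _))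
  exact isIso_of_reflects_iso _ (Over.forget S)

end Transport

variable {A : Type u} [CommRing A] {b : Spec (CommRingCat.of A) ⟶ S}
variable {G : Over S} [GrpObj G] (D : Red.SplitRed G) [IsAffineHom G.hom]

theorem card_tIdx : Fintype.card (TIdx D) = Module.finrank ℤ D.M + Fintype.card D.idx := by
  rw [Fintype.card_sum, Module.finrank_eq_card_chooseBasisIndex, _root_.add_comm]

/-- At a geometric point of the base the derivations at the unit are spanned by few values. -/
theorem exists_few_values (D : Red.SplitRed G) (s : S) :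
    ∃ (m : ℕ) (w : Fin m → FunRing (Red.geomPt s) G), m ≤ Fintype.card (TIdx D) ∧
      ∀ {K : Type u} [CommRing K] [Algebra (AlgebraicClosure (S.residueField s)) K]
        (d : FunRing (Red.geomPt s) G →ₗ[AlgebraicClosure (S.residueField s)] K),
        IsPtDer (Red.geomPt s) G d → (∀ l, d (w l) = 0) → d = 0 := by
  let k := AlgebraicClosure (S.residueField s)
  let P := FunRing (Red.geomPt s) G
  haveI : Smooth G.hom := D.reductive.2.1
  haveI : Algebra.Smooth k P := by
    rw [← RingHom.smooth_algebraMap]
    show RingHom.Smooth (((Limits.pullback.snd G.hom (Red.geomPt s)).appTop.hom.comp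
      (Scheme.ΓSpecIso (CommRingCat.of k)).inv.hom))
    refine RingHom.Smooth.stableUnderComposition _ _ ?_ ?_
    · exact RingHom.Smooth.of_bijective
        (Scheme.ΓSpecIso (CommRingCat.of k)).commRingCatIsoToRingEquiv.symm.bijective
    · exact HasRingHomProperty.appTop (P := @Smooth) _
        (inferInstanceAs (Smooth (Limits.pullback.snd G.hom (Red.geomPt s))))
  haveI : IsRegularRing P := GeomReg.isRegularRing_of_smooth k P
  let J : Ideal P := RingHom.ker (eps (Red.geomPt s) G)
  haveI : J.IsMaximal := RingHom.ker_isMaximal_of_surjective _ fun a => ⟨algebraMap k P a, AlgHom.commutes _ a⟩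
  letI := Ideal.Quotient.field J
  obtain ⟨hfin, hrank⟩ := PPoly4.finrank_cotangent_eq_height J
  have hle : Module.finrank (P ⧸ J) J.Cotangent ≤ Fintype.card (TIdx D) := by
    have h1 : (J.height : WithBot ℕ∞) ≤ ringKrullDim P := Ideal.height_le_ringKrullDim_of_ne_top (Ideal.IsMaximal.ne_top inferInstance)
    rw [← hrank, ← PrimeSpectrum.topologicalKrullDim_eq_ringKrullDim] at h1
    have h2 : topologicalKrullDim (PrimeSpectrum P) = topologicalKrullDim ↥(Red.geomFibre s G).left :=
      ((Scheme.homeoOfIso (pullback G.hom (Red.geomPt s)).isoSpec).isHomeomorph.topologicalKrullDim_eq _).symm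
    rw [h2, D.dim_fibre s, ← card_tIdx] at h1
    exact_mod_cast h1
  let e := Module.finBasis (P ⧸ J) J.Cotangent
  choose w hw using fun l => J.toCotangent_surjective (e l)
  refine ⟨_, fun l => (w l : P), hle, ?_⟩
  intro K _ _ d hd hzero
  have hJ2 : ∀ x ∈ J ^ 2, d x = 0 := fun x hx => by
    rw [pow_two] at hx
    refine Submodule.mul_induction_on hx (fun p hp q hq => ?_) (fun p q hp hq => by rw [map_add, hp, hq, _root_.add_zero])
    rw [RingHom.mem_ker] at hp hq
    rw [hd, hp, hq]
    simp
  have hJ : ∀ x : P, x ∈ J → d x = 0 := fun x hx => by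
    have hspan : J.toCotangent ⟨x, hx⟩ ∈ Submodule.span (P ⧸ J) (Set.range e) := by
      rw [e.span_eq]; trivial
    obtain ⟨c, hc⟩ := (Submodule.mem_span_range_iff_exists_fun _).mp hspan
    choose p hp using fun l => Ideal.Quotient.mk_surjective (c l)
    have : J.toCotangent ⟨x, hx⟩ = J.toCotangent (∑ l, p l • w l) := by
      rw [map_sum, ← hc]
      refine Finset.sum_congr rfl fun l _ => ?_
      rw [map_smul, hw, ← hp l]
      rfl
    rw [Ideal.toCotangent_eq] at this
    have h2 := hJ2 _ this
    rw [map_sub, sub_eq_zero] at h2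
    rw [h2, Submodule.coe_sum, map_sum]
    refine Finset.sum_eq_zero fun l _ => ?_
    show d (p l * (w l : P)) = 0
    rw [hd, hzero l, RingHom.mem_ker.mp (w l).2]
    simp
  refine LinearMap.ext fun x => ?_
  have h1 : d 1 = 0 := by simpa using hd 1 1
  have := hJ (x - algebraMap k P (eps (Red.geomPt s) G x)) (by
    show eps (Red.geomPt s) G (x - _) = 0
    rw [map_sub, AlgHom.commutes]
    simp)
  rw [map_sub, Algebra.algebraMap_eq_smul_one, map_smul, h1, smul_zero, sub_zero] at this
  exact this

/-- Over an algebraically closed field, more derivations at the unit than rank plus roots are dependent. -/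
theorem exists_relation {K : Type u} [Field K] [IsAlgClosed K] [Algebra A K] {n : ℕ}
    (hn : Fintype.card (TIdx D) < n) (d : Fin n → (FunRing b G →ₗ[A] K)) (hd : ∀ i, IsPtDer b G (d i)) :
    ∃ c : Fin n → K, c ≠ 0 ∧ ∀ f, ∑ i, c i * d i f = 0 := by
  let bK : Spec (CommRingCat.of K) ⟶ S := Spec.map (CommRingCat.ofHom (algebraMap A K)) ≫ b
  let s : S := bK (IsLocalRing.closedPoint K)
  let ψ : S.residueField s →+* K := (Scheme.descResidueField (Scheme.stalkClosedPointTo bK)).hom
  have hψ : Spec.map (CommRingCat.ofHom ψ) ≫ S.fromSpecResidueField s = bK :=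
    Scheme.descResidueField_stalkClosedPointTo_fromSpecResidueField K S bK
  letI : Algebra (S.residueField s) K := ψ.toAlgebra
  let emb : AlgebraicClosure (S.residueField s) →ₐ[S.residueField s] K := IsAlgClosed.lift
  letI : Algebra (AlgebraicClosure (S.residueField s)) K := emb.toRingHom.toAlgebra
  let b0 := Red.geomPt s
  have hmove : Spec.map (CommRingCat.ofHom (algebraMap (AlgebraicClosure (S.residueField s)) (DualNumber K))) ≫ b0 =
      Spec.map (CommRingCat.ofHom (algebraMap A (DualNumber K))) ≫ b := by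
    have e1 : algebraMap A (DualNumber K) = (TrivSqZeroExt.inlHom K K).comp (algebraMap A K) := rfl
    have e2 : algebraMap (AlgebraicClosure (S.residueField s)) (DualNumber K) =
        (TrivSqZeroExt.inlHom K K).comp (algebraMap (AlgebraicClosure (S.residueField s)) K) := rfl
    rw [e1, e2, CommRingCat.ofHom_comp, CommRingCat.ofHom_comp, Spec.map_comp, Spec.map_comp, Category.assoc,
      Category.assoc]
    refine congrArg (fun q : Spec (CommRingCat.of K) ⟶ S =>
      Spec.map (CommRingCat.ofHom (TrivSqZeroExt.inlHom K K)) ≫ q) ?_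
    show _ ≫ _ ≫ _ = bK
    rw [← Category.assoc, ← Spec.map_comp, ← CommRingCat.ofHom_comp, ← hψ]
    congr 3
    exact emb.comp_algebraMap
  let e := moveTb b b0 hmove
  choose g hgI hgd using fun i => exists_tangent (hd i)
  let g' : Fin n → (tb b0 (DualNumber K) ⟶ G) := fun i => e ≫ g i
  have hg'I : ∀ i, Inf (Ideal.span {(DualNumber.eps : DualNumber K)}) (g' i) := fun i => by
    rw [inf_iff_eq_one]
    have h1 := (inf_iff_eq_one _ _).mp (hgI i)
    let I0 := Ideal.span {(DualNumber.eps : DualNumber K)}
    have hq : Spec.map (CommRingCat.ofHom (algebraMap (AlgebraicClosure (S.residueField s)) (DualNumber K ⧸ I0))) ≫ b0 =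
        Spec.map (CommRingCat.ofHom (algebraMap A (DualNumber K ⧸ I0))) ≫ b := by
      have e3 : algebraMap A (DualNumber K ⧸ I0) = (Ideal.Quotient.mk I0).comp (algebraMap A (DualNumber K)) := rfl
      have e4 : algebraMap (AlgebraicClosure (S.residueField s)) (DualNumber K ⧸ I0) =
          (Ideal.Quotient.mk I0).comp (algebraMap (AlgebraicClosure (S.residueField s)) (DualNumber K)) := rfl
      rw [e3, e4]
      exact (spec_comp_assoc _ _ _).trans ((congrArg (fun q : Spec (CommRingCat.of (DualNumber K)) ⟶ S =>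
        Spec.map (CommRingCat.ofHom (R := DualNumber K) (S := DualNumber K ⧸ I0) (Ideal.Quotient.mk I0)) ≫ q)
        hmove).trans (spec_comp_assoc _ _ _).symm)
    have : tm b0 (Ideal.Quotient.mkₐ _ I0) ≫ e = moveTb b b0 hq ≫ tm b (Ideal.Quotient.mkₐ A I0) := by
      ext1
      simp only [Over.comp_left, tm_left, e, moveTb, Over.homMk_left]
      rw [Category.comp_id, Category.id_comp]
      rfl
    rw [← Category.assoc, this, Category.assoc, h1, MonObj.comp_one]
  obtain ⟨m, w, hm, hw⟩ := exists_few_values D s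
  let L : (Fin n → K) →ₗ[K] (Fin m → K) :=
    { toFun := fun c l => ∑ i, c i * (dl (g' i) (w l)).snd
      map_add' := fun c c' => funext fun l => by simp [add_mul, Finset.sum_add_distrib]
      map_smul' := fun r c => funext fun l => by simp [Finset.mul_sum, _root_.mul_assoc] }
  obtain ⟨c, hc, hc0⟩ : ∃ c, L c = 0 ∧ c ≠ 0 := by
    have : ¬ Function.Injective L := fun hinj => by
      have := LinearMap.finrank_le_finrank_of_injective hinj
      simp only [Module.finrank_fin_fun] at this
      omega
    rw [← LinearMap.ker_eq_bot] at this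
    obtain ⟨c, hc, hne⟩ := Submodule.exists_mem_ne_zero_of_ne_bot this
    exact ⟨c, LinearMap.mem_ker.mp hc, hne⟩
  refine ⟨c, hc0, ?_⟩
  have h1 : comb g' c = 1 := by
    rw [comb_eq_one_iff c hg'I]
    let dd : FunRing b0 G →ₗ[AlgebraicClosure (S.residueField s)] K :=
      ((TrivSqZeroExt.sndHom K K).restrictScalars _).comp (dl (comb g' c))
    have hdd : dd = 0 := hw dd (fun f f' => by
      have h2 := congrArg TrivSqZeroExt.snd (dl_mul_fun (span_eps_sq K) (dl_comb c hg'I f).1 f f')
      simp only [IsScalarTower.algebraMap_apply (AlgebraicClosure (S.residueField s)) K (DualNumber K),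
        TrivSqZeroExt.snd_add, DualNumber.snd_mul, TrivSqZeroExt.algebraMap_eq_inl, TrivSqZeroExt.fst_inl,
        TrivSqZeroExt.snd_inl, zero_mul, _root_.add_zero] at h2
      exact h2) fun l => by
        show (dl (comb g' c) (w l)).snd = 0
        rw [(dl_comb c hg'I _).2]
        exact congrFun hc l
    intro f
    have h2 : (dl (comb g' c) f).snd = 0 := LinearMap.congr_fun hdd f
    rwa [(dl_comb c hg'I f).2] at h2
  have h2 : e ≫ comb g c = comb g' c := by
    rw [comb, comb]
    let ψ' : (tb b (DualNumber K) ⟶ G) →* (tb b0 (DualNumber K) ⟶ G) :=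
      MonoidHom.mk' (fun q => e ≫ q) fun p q => MonObj.comp_mul _ _ _
    refine (map_list_prod ψ' _).trans ?_
    rw [List.map_ofFn]
    rfl
  rw [h1, ← MonObj.comp_one e, cancel_epi] at h2
  rw [comb_eq_one_iff c hgI] at h2
  exact fun f => by simpa [hgd] using h2 f

end Groth.Agent.RedCell22
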