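import Groth.Agent.RedCell22.RankOneCover

/-!
# Generation by simple root groups and covering by translates of the cell
-/

set_option autoImplicit false
set_option linter.unusedSectionVars false
set_option linter.style.haveILetI false

universe u

open CategoryTheory CategoryTheory.Limits AlgebraicGeometry MonoidalCategory CartesianMonoidalCategory
open MonObj GrpObj

noncomputable section

namespace Groth.Agent.RedCell22

variable {S : Scheme.{u}} {G : Over S} [GrpObj G] [IsAffineHom G.hom] {D : Red.SplitRed G}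
variable {A : Type u} [CommRing A] {K : Type u} [Field K] [IsAlgClosed K] [Algebra A K]
  {b : Spec (CommRingCat.of A) ⟶ S}

/-- The torus and the simple root groups. -/
def simpleSet (D : Red.SplitRed G) (base : D.P.Base) (b : Spec (CommRingCat.of A) ⟶ S) (K : Type u) [CommRing K]
    [Algebra A K] : Set (tb b K ⟶ G) :=
  Set.range (tG D) ∪
    {g | ∃ r : D.idx, (r ∈ base.support ∨ D.P.reflectionPerm r r ∈ base.support) ∧ ∃ x : K, g = ua D r x}

theorem isReduced_of_base (base : D.P.Base) : D.P.IsReduced :=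
  ⟨fun i j h => by
    by_contra hne
    push Not at hne
    exact h (LinearIndependent.pair_iff.mpr fun s t e => ((indep_of_base base (c := i) (a := j)
      (fun e => hne.1 (congrArg _ e)) hne.2).symm s t e))⟩

/-- Over an algebraically closed field the torus and the simple root groups generate. -/
theorem closure_simpleSet (base : D.P.Base) : Subgroup.closure (simpleSet D base b K) = ⊤ := by
  haveI := isReduced_of_base base
  let H := Subgroup.closure (simpleSet D base b K)
  have hneg : ∀ r : D.idx, D.P.reflectionPerm (D.P.reflectionPerm r r) (D.P.reflectionPerm r r) = r := fun r =>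
    D.P.root.injective (by rw [Groth.Agent.RootData.root_neg, Groth.Agent.RootData.root_neg, neg_neg])
  have hT : ∀ t : tb b K ⟶ D.T, tG D t ∈ H := fun t => Subgroup.subset_closure (Or.inl ⟨t, rfl⟩)
  have hs : ∀ a ∈ base.support, ∀ x : K, ua D a x ∈ H ∧ ua D (D.P.reflectionPerm a a) x ∈ H := fun a ha x =>
    ⟨Subgroup.subset_closure (Or.inr ⟨a, Or.inl ha, x, rfl⟩),
      Subgroup.subset_closure (Or.inr ⟨_, Or.inr (by rw [hneg a]; exact ha), x, rfl⟩)⟩
  have hall : ∀ r : D.idx, (∀ x : K, ua D r x ∈ H) ∧ ∀ x : K, ua D (D.P.reflectionPerm r r) x ∈ H := fun r => by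
    refine base.induction_reflect r (p := fun i => (∀ x : K, ua D i x ∈ H) ∧ ∀ x : K, ua D (D.P.reflectionPerm i i) x ∈ H)
      (fun i hi => ⟨hi.2, by rw [hneg]; exact hi.1⟩) (fun i hi => ⟨fun x => (hs i hi x).1, fun x => (hs i hi x).2⟩)
      fun i j hi hj => ?_
    obtain ⟨n, hn⟩ := D.refl j
    obtain ⟨R, hp, hm, hRT, hN⟩ := exists_rank1 (b := b) (K := K) base j hn
    obtain ⟨y₁, x₁, t, y₂, ht, -, -, he⟩ := R.decomp
    have hNH : (toUnit _ ≫ n : tb b K ⟶ G) ∈ H := by
      rw [hRT] at ht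
      obtain ⟨t, rfl⟩ := ht
      rw [← hN, he, hp, hm]
      exact mul_mem (mul_mem (mul_mem (hs j hj _).2 (hs j hj _).1) (hT t)) (hs j hj _).2
    have key : ∀ c : D.idx, (∀ x : K, ua D c x ∈ H) → ∀ x : K, ua D (D.P.reflectionPerm j c) x ∈ H := by
      intro c hc x
      obtain ⟨e, he⟩ := exists_conj_refl (A := A) (b := b) base hn c
      have h1 := he K (algebraMap A K (↑e⁻¹ : A) * x)
      rw [← _root_.mul_assoc, ← map_mul, Units.mul_inv, map_one, _root_.one_mul] at h1
      rw [← h1]
      exact mul_mem (mul_mem hNH (hc _)) (inv_mem hNH)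
    refine ⟨key i hi.1, fun x => ?_⟩
    rw [show D.P.reflectionPerm (D.P.reflectionPerm j i) (D.P.reflectionPerm j i) =
      D.P.reflectionPerm j (D.P.reflectionPerm i i) from D.P.root.injective (by
        rw [Groth.Agent.RootData.root_neg, D.P.root_reflectionPerm j, D.P.root_reflectionPerm j,
          Groth.Agent.RootData.root_neg, map_neg])]
    exact key _ hi.2 x
  obtain ⟨φ, hφ⟩ := exists_form_base D.P base
  obtain ⟨m, lp, hlp⟩ := exists_posList D φ
  obtain ⟨n, ln, hln⟩ := exists_posList D (-φ)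
  have hcell : ∀ p : tb b K ⟶ CellSrc D n m, p ≫ RedSub.cellMap D ln lp ∈ H := fun p => by
    obtain ⟨y, t, x, rfl⟩ := exists_cellPt D p
    have hw : ∀ {q : ℕ} (l : Fin q → D.idx) (z : Fin q → K), word D l z ∈ H := fun l z =>
      list_prod_mem fun g hg => by
        obtain ⟨k, rfl⟩ := (List.mem_ofFn' _ _).mp hg
        exact (hall (l k)).1 _
    rw [cellPt_cellMap, cellWord]
    exact mul_mem (hw _ _) (mul_mem (hT t) (hw _ _))
  refine eq_top_iff.mpr fun g _ => ?_
  obtain ⟨p, q, rfl⟩ := exists_mul_cell hln hlp (fun a => (mem_posRoots_iff D.P base hφ a).2.2) g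
  exact mul_mem (hcell p) (hcell q)

/-- A union of translates of the cell stable by the simple opposite root groups is everything. -/
theorem exists_translate (base : D.P.Base) {φ : D.M →+ ℤ} (hφ : ∀ c ∈ base.support, 0 < φ (D.P.root c))
    (W : Submonoid (𝟙_ (Over S) ⟶ G))
    (hstep : ∀ a ∈ base.support, ∀ (g : tb b K ⟶ G) (y : K), InOmega D φ g →
      ∃ w ∈ W, InOmega D φ ((toUnit _ ≫ w)⁻¹ * (g * ua D (D.P.reflectionPerm a a) y))) (g : tb b K ⟶ G) :
    ∃ w ∈ W, InOmega D φ ((toUnit _ ≫ w)⁻¹ * g) := by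
  let Z : Set (tb b K ⟶ G) := {g | ∃ w ∈ W, InOmega D φ ((toUnit _ ≫ w)⁻¹ * g)}
  have h1 : (1 : tb b K ⟶ G) ∈ Z := ⟨1, one_mem W, 1, 1, 1, Cochar.hasLimOne_one _, Cochar.hasLimOne_one _, by
    rw [MonObj.comp_one, tG_one]; simp⟩
  have hstab : ∀ s ∈ simpleSet D base b K, ∀ h ∈ Z, h * s ∈ Z := by
    rintro s hs h ⟨w, hw, hh⟩
    have hsimple : ∀ r : D.idx, 0 < φ (D.P.root r) → ∀ x : K, h * ua D r x ∈ Z := fun r hr x => by
      obtain ⟨v, t, u, hv, hu, he⟩ := hh
      exact ⟨w, hw, v, t, u * ua D r x, hv, hu.mul _ (hasLimOne_ua D hr x), by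
        rw [← _root_.mul_assoc, he]; group⟩
    rcases hs with ⟨t', rfl⟩ | ⟨r, hr, x, rfl⟩
    · obtain ⟨v, t, u, hv, hu, he⟩ := hh
      refine ⟨w, hw, v, t * t', (tG D t')⁻¹ * u * tG D t', hv, ?_, by rw [← _root_.mul_assoc, he, tG_mul]; group⟩
      simpa using hu.conj_fixed (fixed_tG D φ t').inv
    rcases hr with hr | hr
    · exact hsimple r (hφ r hr) x
    · have hr' : D.P.reflectionPerm (D.P.reflectionPerm r r) (D.P.reflectionPerm r r) = r :=
        D.P.root.injective (by rw [Groth.Agent.RootData.root_neg, Groth.Agent.RootData.root_neg, neg_neg])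
      obtain ⟨w', hw', h'⟩ := hstep _ hr _ x hh
      rw [hr'] at h'
      refine ⟨w * w', mul_mem hw hw', ?_⟩
      rwa [MonObj.comp_mul, _root_.mul_inv_rev, _root_.mul_assoc, ← _root_.mul_assoc _ h]
  have hinv : ∀ s ∈ simpleSet D base b K, s⁻¹ ∈ simpleSet D base b K := by
    rintro _ (⟨t, rfl⟩ | ⟨r, hr, x, rfl⟩)
    · exact Or.inl ⟨t⁻¹, tG_inv D t⟩
    · exact Or.inr ⟨r, hr, -x, (ua_neg D r x).symm⟩
  have key : ∀ g ∈ Subgroup.closure (simpleSet D base b K), ∀ h ∈ Z, h * g ∈ Z := fun g hg => by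
    induction hg using Subgroup.closure_induction'' with
    | mem s hs => exact hstab s hs
    | inv_mem s hs => exact hstab _ (hinv s hs)
    | one => simp
    | mul x y _ _ hx hy => exact fun h hh => by rw [← _root_.mul_assoc]; exact hy _ (hx h hh)
  have := key g (closure_simpleSet (b := b) (K := K) base ▸ Subgroup.mem_top g) 1 h1
  rwa [_root_.one_mul] at this

end Groth.Agent.RedCell22
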