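import Groth.Agent.RedCell22.ClosedWord

/-!
# Conjugation of the root groups of an ideal in a closed set of roots
-/

set_option autoImplicit false
set_option linter.unusedSectionVars false

universe u

open CategoryTheory CategoryTheory.Limits AlgebraicGeometry MonoidalCategory CartesianMonoidalCategory
open MonObj GrpObj

noncomputable section

namespace Groth.Agent.RedCell22

variable {S : Scheme.{u}} {A : Type u} [CommRing A] {b : Spec (CommRingCat.of A) ⟶ S}
variable {B : Type u} [CommRing B] [Algebra A B]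
variable {G : Over S} [GrpObj G] {D : Red.SplitRed G} {p q : ℕ} {Ψ Ψ' : Set D.idx} {V : Type}

theorem coeff_aeval_kill (Y : Set V) [DecidablePred (· ∈ Y)] (P : MvPolynomial V A) (e : V →₀ ℕ)
    (he : ∀ v ∈ Y, e v = 0) :
    MvPolynomial.coeff e (MvPolynomial.aeval (fun v => if v ∈ Y then 0 else MvPolynomial.X v) P) =
      MvPolynomial.coeff e P := by
  classical
  induction P using MvPolynomial.induction_on generalizing e with
  | C a => simp
  | add P Q hP hQ => rw [map_add, MvPolynomial.coeff_add, MvPolynomial.coeff_add, hP e he, hQ e he]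
  | mul_X P i hP =>
    rw [map_mul, MvPolynomial.aeval_X, MvPolynomial.coeff_mul_X']
    by_cases hi : i ∈ Y
    · rw [if_pos hi, mul_zero, MvPolynomial.coeff_zero, if_neg]
      simp [he i hi]
    · rw [if_neg hi, MvPolynomial.coeff_mul_X']
      refine if_congr Iff.rfl (hP _ fun v hv => ?_) rfl
      simp [he v hv]

variable (Ψ Ψ') in
/-- Combinations of roots of `Ψ` involving one of `Ψ'`. -/
def Mixed (cf : D.idx → ℕ) : Prop := (∀ a, cf a ≠ 0 → a ∈ Ψ) ∧ ∃ a ∈ Ψ', cf a ≠ 0

variable [IsAffineHom G.hom]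

open scoped Classical in
/-- Products over an ideal are stable under conjugation, which fixes the coordinates at its indecomposable roots. -/
theorem exists_word_conj (h : IsClosedSet D.P Ψ) (hsub : Ψ' ⊆ Ψ) {e : Fin p → D.idx}
    (he : RedSub.Enumerates Ψ e) {d : Fin q → D.idx} (hd : RedSub.Enumerates Ψ' d)
    (hid : ∀ cf c, Mixed Ψ Ψ' cf → ∑ a, cf a • D.P.root a = D.P.root c → c ∈ Ψ') (x : Fin p → B) (y : Fin q → B) :
    ∃ z : Fin q → B, (word D d z : tb b B ⟶ G) = word D e x * word D d y * (word D e x)⁻¹ ∧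
      ∀ k, (∀ cf, Mixed Ψ Ψ' cf → ∑ a, cf a • D.P.root a = D.P.root (d k) → ∀ a, cf a = if a = d k then 1 else 0) →
        z k = y k := by
  classical
  obtain ⟨f, hf⟩ := h.exists_form
  obtain ⟨r, d', hl⟩ := exists_extend (fun a ha => hf a (hsub ha)) hd
  let V := Fin p ⊕ Fin q
  let σ : V → D.idx := Sum.elim e d
  have hmem : ∀ i, e i ∈ Ψ := fun i => (Set.ext_iff.mp he.2 _).mp ⟨i, rfl⟩
  have hmem' : ∀ i, d i ∈ Ψ' := fun i => (Set.ext_iff.mp hd.2 _).mp ⟨i, rfl⟩
  have hσ : ∀ v, σ v ∈ Ψ := Sum.rec hmem fun i => hsub (hmem' i)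
  let W : tb b (MvPolynomial V A) ⟶ G := word D e fun i => MvPolynomial.X (.inl i)
  let g : tb b (MvPolynomial V A) ⟶ G := W * word D d (fun i => MvPolynomial.X (.inr i)) * W⁻¹
  have hW : Equivariant D (fun v => D.P.root (σ v)) W := equivariant_word_X e Sum.inl fun _ => rfl
  have hg : Equivariant D (fun v => D.P.root (σ v)) g :=
    (hW.mul (equivariant_word_X d Sum.inr fun _ => rfl)).mul hW.inv
  have hlW : (lam D f).HasLimOne W := hasLimOne_word D (fun i => hf _ (hmem i)) _
  obtain ⟨Q, hQ⟩ := exists_word hl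
    ((hlW.mul _ (hasLimOne_word D (b := b) (fun i => hf _ (hsub (hmem' i))) fun i => MvPolynomial.X (.inr i))).mul _
      (hlW.inv _))
  -- every monomial involves the ideal
  let Y : Set V := Set.range Sum.inr
  have hY : ∀ c e₀, MvPolynomial.coeff e₀ (Q c) ≠ 0 → ∃ v ∈ Y, e₀ v ≠ 0 := by
    intro c e₀ hc
    by_contra hall
    push Not at hall
    let π : MvPolynomial V A →ₐ[A] MvPolynomial V A :=
      MvPolynomial.aeval fun v => if v ∈ Y then 0 else MvPolynomial.X v
    have h1 : (word D (Fin.append d d') (fun i => π (Q i)) : tb b (MvPolynomial V A) ⟶ G) = word D (Fin.append d d') fun _ => 0 := by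
      rw [← word_map, hQ, word_zero, tm_mul, tm_mul, tm_inv, word_map (x := fun i => MvPolynomial.X (Sum.inr i))]
      rw [show (fun k => π (MvPolynomial.X (Sum.inr k))) = fun _ : Fin q => (0 : MvPolynomial V A) from
        funext fun k => by simp [π, Y], word_zero, _root_.mul_one, mul_inv_cancel]
    have h2 := congrArg (MvPolynomial.coeff e₀) (congrFun (word_injective hl h1) c)
    rw [coeff_aeval_kill Y _ _ hall, MvPolynomial.coeff_zero] at h2
    exact hc h2
  -- their weights
  let push : (V →₀ ℕ) → D.idx → ℕ := fun e₀ a => ∑ v ∈ e₀.support with σ v = a, e₀ v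
  have hmix : ∀ c e₀, MvPolynomial.coeff e₀ (Q c) ≠ 0 → Mixed Ψ Ψ' (push e₀) := by
    intro c e₀ hc
    refine ⟨fun a ha => ?_, ?_⟩
    · obtain ⟨v, hv, -⟩ := Finset.exists_ne_zero_of_sum_ne_zero ha
      rw [← (Finset.mem_filter.mp hv).2]
      exact hσ v
    · obtain ⟨v, ⟨i, rfl⟩, hv⟩ := hY c e₀ hc
      refine ⟨d i, hmem' i, fun h0 => hv ?_⟩
      exact (Finset.sum_eq_zero_iff.mp h0) _ (Finset.mem_filter.mpr ⟨Finsupp.mem_support_iff.mpr hv, rfl⟩)
  have hsum : ∀ c e₀, MvPolynomial.coeff e₀ (Q c) ≠ 0 →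
      ∑ a, push e₀ a • D.P.root a = D.P.root (Fin.append d d' c) := by
    intro c e₀ hc
    have hw : Equivariant D (fun v => D.P.root (σ v)) (word D (Fin.append d d') Q : tb b (MvPolynomial V A) ⟶ G) := by
      rw [hQ]; exact hg
    rw [← weight_coord hl hw c e₀ hc, Finsupp.weight_apply, Finsupp.sum,
      ← Finset.sum_fiberwise e₀.support σ]
    refine Finset.sum_congr rfl fun a _ => ?_
    rw [Finset.sum_smul]
    exact Finset.sum_congr rfl fun v hv => by rw [(Finset.mem_filter.mp hv).2]
  have h0 : ∀ j, Q (Fin.natAdd q j) = 0 := fun j => by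
    ext e₀
    rw [MvPolynomial.coeff_zero]
    by_contra hc
    have hj := hid _ _ (hmix _ _ hc) (hsum _ _ hc)
    rw [Fin.append_right] at hj
    obtain ⟨i, hi⟩ : d' j ∈ Set.range d := hd.2.symm ▸ hj
    have := hl.inj (show Fin.append d d' (Fin.castAdd r i) = Fin.append d d' (Fin.natAdd q j) by simp [hi])
    simp [Fin.ext_iff] at this
    omega
  have hsplit : (word D d (fun i => Q (Fin.castAdd r i)) : tb b (MvPolynomial V A) ⟶ G) = g := by
    have e1 : Q = Fin.append (fun i => Q (Fin.castAdd r i)) (fun _ => 0) := funext fun k =>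
      Fin.addCases (fun i => by simp) (fun j => by simp [h0]) k
    rw [e1, word_append, word_zero, _root_.mul_one] at hQ
    exact hQ
  let φ : MvPolynomial V A →ₐ[A] B := MvPolynomial.aeval (Sum.elim x y)
  refine ⟨fun i => φ (Q (Fin.castAdd r i)), ?_, fun k hk => ?_⟩
  · rw [← word_map, hsplit, tm_mul, tm_mul, tm_inv, word_map, word_map]
    simp [φ]
  let c₀ := MvPolynomial.coeff (Finsupp.single (Sum.inr k : V) 1) (Q (Fin.castAdd r k))
  have hmono : Q (Fin.castAdd r k) = MvPolynomial.C c₀ * MvPolynomial.X (Sum.inr k) := by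
    ext e₀
    rw [MvPolynomial.C_mul_X_eq_monomial, MvPolynomial.coeff_monomial]
    split_ifs with he₀
    · rw [← he₀]
    · by_contra hc
      refine he₀ ?_
      have hk' := hk (push e₀) (hmix _ _ hc) (by rw [hsum _ _ hc, Fin.append_left])
      obtain ⟨v, ⟨i, rfl⟩, hv⟩ := hY _ _ hc
      have hsupp : ∀ w, e₀ w ≠ 0 → σ w = d k := fun w hw => by
        by_contra hne
        have := hk' (σ w)
        rw [if_neg hne] at this
        exact hw ((Finset.sum_eq_zero_iff.mp this) w (Finset.mem_filter.mpr ⟨Finsupp.mem_support_iff.mpr hw, rfl⟩))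
      have hik : i = k := hd.1 (hsupp _ hv)
      subst hik
      have h1 := hk' (d i)
      rw [if_pos rfl] at h1
      have hfil : ∀ w ∈ e₀.support, w ∈ e₀.support.filter (σ · = d i) := fun w hw =>
        Finset.mem_filter.mpr ⟨hw, hsupp w (Finsupp.mem_support_iff.mp hw)⟩
      have hle : ∀ w, e₀ w ≠ 0 → w ≠ Sum.inr i → False := fun w hw hne => by
        have h2 : e₀ (Sum.inr i) + e₀ w ≤ ∑ v ∈ e₀.support.filter (σ · = d i), e₀ v := by
          rw [← Finset.sum_pair (Ne.symm hne)]
          refine Finset.sum_le_sum_of_subset fun u hu => ?_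
          rcases Finset.mem_insert.mp hu with rfl | hu
          · exact hfil _ (Finsupp.mem_support_iff.mpr hv)
          · rw [Finset.mem_singleton.mp hu]; exact hfil _ (Finsupp.mem_support_iff.mpr hw)
        change (∑ v ∈ e₀.support.filter (σ · = d i), e₀ v) = 1 at h1
        omega
      ext w
      rcases eq_or_ne w (Sum.inr i) with rfl | hne
      · rw [Finsupp.single_eq_same]
        have h2 : e₀ (Sum.inr i) ≤ ∑ v ∈ e₀.support.filter (σ · = d i), e₀ v :=
          Finset.single_le_sum (fun _ _ => Nat.zero_le _) (hfil _ (Finsupp.mem_support_iff.mpr hv))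
        change (∑ v ∈ e₀.support.filter (σ · = d i), e₀ v) = 1 at h1
        omega
      · rw [Finsupp.single_eq_of_ne hne]
        by_contra hw
        exact hle w (Ne.symm hw) hne
  let ε : MvPolynomial V A →ₐ[A] MvPolynomial (Fin q) A :=
    MvPolynomial.aeval (Sum.elim (fun _ => 0) MvPolynomial.X)
  have hc₀ : c₀ = 1 := by
    have e2 : (word D d (fun i => ε (Q (Fin.castAdd r i))) : tb b (MvPolynomial (Fin q) A) ⟶ G) =
        word D d MvPolynomial.X := by
      rw [← word_map, hsplit, tm_mul, tm_mul, tm_inv, word_map, word_map]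
      simp [ε, word_zero]
    have e3 : (word D (Fin.append d d') (Fin.append (fun i => ε (Q (Fin.castAdd r i))) fun _ => 0) :
        tb b (MvPolynomial (Fin q) A) ⟶ G) = word D (Fin.append d d') (Fin.append MvPolynomial.X fun _ => 0) := by
      rw [word_append, word_append, e2]
    have := congrFun (word_injective hl e3) (Fin.castAdd r k)
    rw [Fin.append_left, Fin.append_left, hmono] at this
    have h4 := congrArg (MvPolynomial.coeff (Finsupp.single k 1)) this
    simpa [ε, MvPolynomial.coeff_C_mul] using h4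
  show φ (Q _) = y k
  rw [hmono, hc₀]
  simp [φ]

end Groth.Agent.RedCell22
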