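import Groth.Agent.RedCell22.CoreSub

/-!
# Isolating an indecomposable root group in a subgroup scheme
-/

set_option autoImplicit false
set_option linter.unusedSectionVars false
set_option linter.style.haveILetI false

universe u

open CategoryTheory CategoryTheory.Limits AlgebraicGeometry MonoidalCategory CartesianMonoidalCategory
open MonObj GrpObj

noncomputable section

namespace Groth.Agent.RedCell22

variable {S : Scheme.{u}} {G H : Over S} [GrpObj G] [GrpObj H] {D : Red.SplitRed G} {h : H ⟶ G}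
variable {A : Type u} [CommRing A] {b : Spec (CommRingCat.of A) ⟶ S}

theorem word_skip {B : Type u} [CommRing B] [Algebra A B] :
    ∀ {n : ℕ} (l : Fin (n + 1) → D.idx) (x : Fin (n + 1) → B) (k : Fin (n + 1)), x k = 0 →
      (word D l x : tb b B ⟶ G) = word D (fun i => l (k.succAbove i)) fun i => x (k.succAbove i)
  | 0, l, x, k, hk => by
    rw [word_cons]
    obtain rfl : k = 0 := Fin.ext (by omega)
    rw [hk, ua_zero, _root_.one_mul]
    rfl
  | n + 1, l, x, k, hk => by
    induction k using Fin.cases with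
    | zero =>
      rw [word_cons, hk, ua_zero, _root_.one_mul]
      simp only [Fin.succAbove_zero]
    | succ k =>
      rw [word_cons, word_skip (fun i => l i.succ) (fun i => x i.succ) k hk]
      conv_rhs => rw [word_cons]
      simp only [Fin.succ_succAbove_zero, Fin.succ_succAbove_succ]

/-- Arbitrary values at a root are reached by points of the torus-stable part, locally for covers. -/
def Lead (D : Red.SplitRed G) (h : H ⟶ G) (b : Spec (CommRingCat.of A) ⟶ S) (Ψ : Set D.idx) (rb : D.idx) : Prop :=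
  ∀ (B : Type u) [CommRing B] [Algebra A B] (y : B),
    ∃ (B' : Type u) (_ : CommRing B') (_ : Algebra A B') (jj : B →ₐ[A] B') (p : ℕ) (e : Fin p → D.idx)
      (z : Fin p → B') (k : Fin p), jj.toRingHom.FaithfullyFlat ∧ RedSub.Enumerates Ψ e ∧ e k = rb ∧ z k = jj y ∧
      InCore D h (word D e z : tb b B' ⟶ G)

theorem isClosedSet_sdiff_indec {Ψ : Set D.idx} (hΨ : IsClosedSet D.P Ψ) {r : D.idx} (hr : Indec D Ψ r) :
    IsClosedSet D.P (Ψ \ {r}) := by
  classical
  refine ⟨fun x y s hx hy hs => ⟨hΨ.add_mem x y s hx.1 hy.1 hs, fun e => ?_⟩,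
    fun x y hx hn hy => hΨ.no_opp x y hx.1 hn hy.1⟩
  rw [Set.mem_singleton_iff] at e
  subst e
  refine hx.2 (hr (fun z => (if z = x then 1 else 0) + if z = y then 1 else 0) (fun z hz => ?_) ?_ x (by simp))
  · by_cases h1 : z = x
    · exact h1 ▸ hx.1
    · by_cases h2 : z = y
      · exact h2 ▸ hy.1
      · simp [h1, h2] at hz
  · simp [add_smul, Finset.sum_add_distrib, hs]

variable [IsAffineHom G.hom] [IsMonHom h]

/-- An indecomposable root different from the chosen one can be removed. -/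
theorem Lead.remove {Ψ : Set D.idx} (hΨ : IsClosedSet D.P Ψ) {r rb : D.idx} (hr : Indec D Ψ r)
    (hrb : Indec D Ψ rb) (hrΨ : r ∈ Ψ) (hbΨ : rb ∈ Ψ) (hind : Indep D.P r rb) (hL : Lead D h b Ψ rb) :
    Lead D h b (Ψ \ {r}) rb := by
  classical
  have hne : rb ≠ r := fun e => by
    subst e
    exact absurd (hind 1 (-1) (by simp)).1 one_ne_zero
  have hΨ' := isClosedSet_sdiff_indec hΨ hr
  obtain ⟨p', e', he'⟩ := exists_enumerates (Ψ \ {r})
  obtain ⟨k', hk'⟩ : rb ∈ Set.range e' := he'.2.symm ▸ ⟨hbΨ, hne⟩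
  intro B _ _ y
  cases subsingleton_or_nontrivial B
  · exact ⟨B, inferInstance, inferInstance, AlgHom.id A B, p', e', fun _ => 0, k',
      RingHom.FaithfullyFlat.of_bijective Function.bijective_id, he', hk', Subsingleton.elim _ _,
      by rw [word_zero]; exact inCore_one⟩
  obtain ⟨l, hlr, hlb⟩ : ∃ l : D.M →+ ℤ, l (D.P.root r) = 0 ∧ 0 < l (D.P.root rb) := by
    refine ⟨(2 : ℤ) • (D.P.coroot rb).toAddMonoidHom - D.P.pairing r rb • (D.P.coroot r).toAddMonoidHom, ?_, ?_⟩
    · simp [coroot_root]; ring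
    · have := hind.pairing_bound.2.1
      simp [coroot_root]
      linarith
  obtain ⟨m, hm⟩ := Int.eq_ofNat_of_zero_le hlb.le
  obtain ⟨B₁, _, _, j₁, s, hj₁, hs⟩ := exists_unit_ext (A := A) B (m := m) (by omega)
  obtain ⟨B₂, _, _, j₂, p, e, z, k, hj₂, he, hk, hzk, hz⟩ := hL B₁ (j₁ y * (s : B₁) ^ m)
  let t₁ : tb b B₁ ⟶ D.T := tpt D (coVal D l s)
  let t : tb b B₂ ⟶ D.T := tm b j₂ ≫ t₁
  obtain ⟨kr, hkr⟩ : r ∈ Set.range e := he.2.symm ▸ hrΨ
  have hmem : ∀ i, e i ∈ Ψ := fun i => (Set.ext_iff.mp he.2 _).mp ⟨i, rfl⟩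
  have hcr : (chr D (D.P.root r) t : B₂) = 1 := by
    show (chr D (D.P.root r) (tm b j₂ ≫ t₁) : B₂) = 1
    rw [chr_map, chr_coVal, hlr, zpow_zero, map_one, Units.val_one]
  have hcb : (chr D (D.P.root rb) t : B₂) = j₂ ((s : B₁) ^ m) := by
    show (chr D (D.P.root rb) (tm b j₂ ≫ t₁) : B₂) = _
    rw [chr_map, chr_coVal, hm, zpow_natCast]
    simp
  obtain ⟨yi, hyi⟩ := (exists_word_of_word (b := b) hΨ he e hmem z).2
  obtain ⟨z', hz'⟩ := (exists_word_of_word (b := b) hΨ he (Fin.append e e)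
    (fun i => Fin.addCases (fun j => by rw [Fin.append_left]; exact hmem j)
      (fun j => by rw [Fin.append_right]; exact hmem j) i)
    (Fin.append (fun i => (chr D (D.P.root (e i)) t : B₂) * z i) yi)).1
  rw [word_append, hyi] at hz'
  have hcore : InCore D h (word D e z' : tb b B₂ ⟶ G) := by
    rw [hz', ← conj_word]
    exact (hz.conj_tG t).mul hz.inv
  have hcoord : ∀ i, Indec D Ψ (e i) → z' i = ((chr D (D.P.root (e i)) t : B₂) - 1) * z i := fun i hi => by
    have h1 : (chr D (D.P.root (e i)) t : B₂) * z i = z' i + z i :=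
      coord_add hΨ he hi (Ψ' := Ψ) (z := fun i => (chr D (D.P.root (e i)) t : B₂) * z i) (x := z') (y := z)
        (fun j hj => absurd (hmem j) hj) (fun j hj => absurd (hmem j) hj) (by rw [hz', inv_mul_cancel_right])
    linear_combination -h1
  have hz'r : z' kr = 0 := by rw [hcoord kr (hkr ▸ hr), hkr, hcr, sub_self, zero_mul]
  have hz'b : z' k = j₂ (j₁ y) := by
    rw [hcoord k (hk ▸ hrb), hk, hcb, hzk, ← map_one j₂, ← map_sub, ← map_mul]
    congr 1
    linear_combination (j₁ y) * hs
  obtain ⟨p₀, rfl⟩ : ∃ p₀, p = p₀ + 1 := Nat.exists_eq_add_one.mpr (Fin.pos k)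
  rw [word_skip e z' kr hz'r] at hcore
  have hd : ∀ i, e (kr.succAbove i) ∈ Ψ \ {r} := fun i =>
    ⟨hmem _, fun e' => Fin.succAbove_ne kr i (he.1 (e'.trans hkr.symm))⟩
  obtain ⟨w, hw⟩ := (exists_word_of_word (b := b) hΨ' he' _ hd fun i => z' (kr.succAbove i)).1
  refine ⟨B₂, inferInstance, inferInstance, j₂.comp j₁, p', e', w, k',
    RingHom.FaithfullyFlat.stableUnderComposition _ _ hj₁ hj₂, he', hk', ?_, hw ▸ hcore⟩
  have hkk : k ≠ kr := fun e' => hne (hk.symm.trans ((congrArg e e').trans hkr))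
  obtain ⟨i₀, hi₀⟩ := Fin.exists_succAbove_eq hkk
  rw [coord_word hΨ' he' (hk' ▸ hrb.mono Set.sdiff_subset) _ hd _ w hw, Finset.sum_eq_single i₀]
  · rw [if_pos (by rw [hi₀, hk, hk']), hi₀, hz'b]; rfl
  · intro i _ hi
    rw [if_neg]
    rw [hk', ← hk]
    exact fun e' => hi (Fin.succAbove_right_injective ((he.1 e').trans hi₀.symm))
  · exact fun h' => absurd (Finset.mem_univ _) h'

/-- An indecomposable root group with arbitrary values lies in the torus-stable part. -/
theorem Lead.inCore [Mono h] {Ψ : Set D.idx} (hΨ : IsClosedSet D.P Ψ) {rb : D.idx} (hrb : Indec D Ψ rb)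
    (hbΨ : rb ∈ Ψ) (hind : ∀ r ∈ Ψ, r ≠ rb → Indep D.P r rb) (hL : Lead D h b Ψ rb) :
    ∀ (B : Type u) [CommRing B] [Algebra A B] (y : B), InCore D h (ua D rb y : tb b B ⟶ G) := by
  classical
  induction hn : (Finset.univ.filter fun r => r ∈ Ψ ∧ r ≠ rb).card using Nat.strong_induction_on generalizing Ψ with
  | _ n ih =>
    rcases (Finset.univ.filter fun r => r ∈ Ψ ∧ r ≠ rb).eq_empty_or_nonempty with h0 | hne
    · intro B _ _ y
      obtain ⟨B', _, _, jj, p, e, z, k, hjj, he, hk, hzk, hz⟩ := hL B y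
      have hall : ∀ i, i = k := fun i => he.1 (by
        rw [hk]
        by_contra hne
        have : e i ∈ (Finset.univ.filter fun r => r ∈ Ψ ∧ r ≠ rb) :=
          Finset.mem_filter.mpr ⟨Finset.mem_univ _, (Set.ext_iff.mp he.2 _).mp ⟨i, rfl⟩, hne⟩
        simp [h0] at this)
      have hzs : z = Pi.single k (z k) := funext fun i => by rw [hall i, Pi.single_eq_same]
      rw [hzs, word_single, hk, hzk, ← ua_map] at hz
      exact inCore_of_faithfullyFlat jj hjj hz
    · obtain ⟨f, hf⟩ := hΨ.exists_form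
      obtain ⟨r, hr, hmin⟩ := Finset.exists_min_image _ (fun r => f (D.P.root r)) hne
      obtain ⟨hrΨ, hrne⟩ := (Finset.mem_filter.mp hr).2
      have hindec : Indec D Ψ r := fun ν hν hsum s hs => by
        by_contra hsr
        have hsum' : ∑ x, (ν x : ℤ) * f (D.P.root x) = f (D.P.root r) := by
          rw [← hsum, map_sum]
          exact Finset.sum_congr rfl fun x _ => by rw [map_nsmul, nsmul_eq_mul]
        have hnn : ∀ x, 0 ≤ (ν x : ℤ) * f (D.P.root x) := fun x => by
          by_cases hx : ν x = 0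
          · simp [hx]
          · exact mul_nonneg (Int.natCast_nonneg _) (hf x (hν x hx)).le
        have honly : ∀ x, ν x ≠ 0 → x ≠ rb → x = r ∧ ν x = 1 ∧ ∀ x', x' ≠ x → ν x' = 0 := fun x hx hxb => by
          have h1 := hmin x (Finset.mem_filter.mpr ⟨Finset.mem_univ _, hν x hx, hxb⟩)
          have h2 := hf x (hν x hx)
          rw [← Finset.add_sum_erase _ _ (Finset.mem_univ x)] at hsum'
          have h3 : 0 ≤ ∑ x' ∈ Finset.univ.erase x, (ν x' : ℤ) * f (D.P.root x') :=
            Finset.sum_nonneg fun x' _ => hnn x'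
          have h4 : (1 : ℤ) ≤ ν x := by exact_mod_cast Nat.one_le_iff_ne_zero.mpr hx
          have h5 : (ν x : ℤ) = 1 := by nlinarith
          have h6 : ∑ x' ∈ Finset.univ.erase x, (ν x' : ℤ) * f (D.P.root x') = 0 := by nlinarith
          have hrest : ∀ x', x' ≠ x → ν x' = 0 := fun x' hx' => by
            by_contra h7
            have := (Finset.sum_eq_zero_iff_of_nonneg fun x' _ => hnn x').mp h6 x'
              (Finset.mem_erase.mpr ⟨hx', Finset.mem_univ _⟩)
            rcases mul_eq_zero.mp this with h8 | h8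
            · exact h7 (by exact_mod_cast h8)
            · exact (hf x' (hν x' h7)).ne' h8
          have h9 : ν x = 1 := by exact_mod_cast h5
          refine ⟨D.P.root.injective ?_, h9, hrest⟩
          rw [← hsum, Finset.sum_eq_single x (fun x' _ hx' => by rw [hrest x' hx', zero_smul])
            (fun h' => absurd (Finset.mem_univ x) h'), h9, one_smul]
        by_cases hsb : s = rb
        · have hrest : ∀ x, x ≠ rb → ν x = 0 := fun x hx => by
            by_contra h1
            have := (honly x h1 hx).2.2 s (by rw [hsb]; exact hx.symm)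
            exact hs this
          rw [Finset.sum_eq_single rb (fun x _ hx => by rw [hrest x hx, zero_smul])
            (fun h' => absurd (Finset.mem_univ rb) h')] at hsum
          exact absurd (hind r hrΨ hrne 1 (-(ν rb : ℤ)) (by
            rw [one_smul, neg_smul, natCast_zsmul, hsum, add_neg_cancel])).1 one_ne_zero
        · exact hsr (honly s hs hsb).1
      refine ih ((Finset.univ.filter fun x => x ∈ Ψ \ {r} ∧ x ≠ rb).card) ?_ (isClosedSet_sdiff_indec hΨ hindec)
        (hrb.mono Set.sdiff_subset) ⟨hbΨ, hrne.symm⟩ (fun x hx => hind x hx.1)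
        (hL.remove hΨ hindec hrb hrΨ hbΨ (hind r hrΨ hrne)) (by convert rfl)
      rw [← hn]
      refine Finset.card_lt_card (Finset.ssubset_iff_of_subset (fun x hx => ?_) |>.mpr ⟨r, hr, fun hx => ?_⟩)
      · have := (Finset.mem_filter.mp hx).2
        exact Finset.mem_filter.mpr ⟨Finset.mem_univ _, this.1.1, this.2⟩
      · exact (Finset.mem_filter.mp hx).2.1.2 rfl

/-- A commutator with a unit coefficient gives a lead. -/
theorem lead_comm {a c : D.idx} (hind : Indep D.P a c)
    (ha : ∀ (B : Type u) [CommRing B] [Algebra A B] (x : B), InCore D h (ua D a x : tb b B ⟶ G))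
    (hc : ∀ (B : Type u) [CommRing B] [Algebra A B] (x : B), InCore D h (ua D c x : tb b B ⟶ G))
    {q : ℕ} {d : Fin q → D.idx} (hd : RedSub.Enumerates (commSet D a c) d) {C : Fin q → A}
    (hC : (word D d C : tb b A ⟶ G) = ua D a 1 * ua D c 1 * (ua D a 1)⁻¹ * (ua D c 1)⁻¹)
    {l : Fin q} {i : ℤ} (hl : D.P.root (d l) = i • D.P.root a + D.P.root c) (hu : IsUnit (C l)) :
    Lead D h b (commSet D a c) (d l) := by
  obtain ⟨C', P, Q, hPQ, hC'⟩ := exists_comm hind hd b
  obtain rfl : C' = C := word_injective_of_closed (isClosedSet_commSet hind) hd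
    ((by simpa using hC' A 1 1 : (word D d C' : tb b A ⟶ G) = _).trans hC.symm)
  have hQ : (Q l : ℤ) = 1 := (hind.eq (i := (P l : ℤ)) (i' := i) (j' := 1)
    (by rw [← (hPQ l).2.2, hl, one_smul])).2
  intro B _ _ y
  refine ⟨B, inferInstance, inferInstance, AlgHom.id A B, q, d, _, l,
    RingHom.FaithfullyFlat.of_bijective Function.bijective_id, hd, rfl, ?_,
    hC' B 1 (algebraMap A B ↑hu.unit⁻¹ * y) ▸ (((ha B _).mul (hc B _)).mul (ha B _).inv).mul (hc B _).inv⟩
  rw [one_pow, _root_.mul_one, show Q l = 1 by exact_mod_cast hQ, pow_one, ← _root_.mul_assoc, ← map_mul,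
    IsUnit.mul_val_inv, map_one, _root_.one_mul]
  rfl

end Groth.Agent.RedCell22
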