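import Groth.Agent.RedCell22.Limits
import Mathlib.Algebra.TrivSqZeroExt.Basic

/-!
# Points which are the unit modulo an ideal of square zero
-/

set_option autoImplicit false
set_option linter.unusedSectionVars false

universe u

open CategoryTheory CategoryTheory.Limits AlgebraicGeometry MonoidalCategory CartesianMonoidalCategory
open MonObj GrpObj

noncomputable section

namespace Groth.Agent.RedCell22

variable {S : Scheme.{u}} {A : Type u} [CommRing A] {b : Spec (CommRingCat.of A) ⟶ S} {G : Over S} [GrpObj G]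
variable [IsAffineHom G.hom] {B C : Type u} [CommRing B] [Algebra A B] [CommRing C] [Algebra A C]

/-- The difference with the unit. -/
def dl (g : tb b B ⟶ G) : FunRing b G →ₗ[A] B :=
  (ev b g).toLinearMap - (Algebra.linearMap A B).comp (eps b G).toLinearMap

theorem dl_apply (g : tb b B ⟶ G) (f : FunRing b G) : dl g f = ev b g f - algebraMap A B (eps b G f) := rfl

theorem dl_one (f : FunRing b G) : dl (1 : tb b B ⟶ G) f = 0 := by rw [dl_apply, ev_one, sub_self]

theorem eq_of_dl {g g' : tb b B ⟶ G} (h : ∀ f, dl g f = dl g' f) : g = g' :=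
  ev_injective b (AlgHom.ext fun f => by simpa [dl_apply] using h f)

theorem dl_map (φ : B →ₐ[A] C) (g : tb b B ⟶ G) (f : FunRing b G) : dl (tm b φ ≫ g) f = φ (dl g f) := by
  rw [dl_apply, dl_apply, ev_comp, map_sub, AlgHom.commutes]
  rfl

/-- A point congruent to the unit. -/
def Inf (I : Ideal B) (g : tb b B ⟶ G) : Prop := ∀ f, dl g f ∈ I

theorem inf_one (I : Ideal B) : Inf I (1 : tb b B ⟶ G) := fun f => by rw [dl_one]; exact I.zero_mem

theorem inf_iff_eq_one (I : Ideal B) (g : tb b B ⟶ G) :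
    Inf I g ↔ tm b (Ideal.Quotient.mkₐ A I) ≫ g = 1 := by
  constructor
  · intro h
    exact eq_of_dl fun f => by rw [dl_map, dl_one]; exact Ideal.Quotient.eq_zero_iff_mem.mpr (h f)
  · intro h f
    refine Ideal.Quotient.eq_zero_iff_mem.mp ?_
    have := dl_map (Ideal.Quotient.mkₐ A I) g f
    rw [h, dl_one] at this
    exact this.symm

variable {I : Ideal B}

theorem Inf.mul_mem {g g' : tb b B ⟶ G} (hg : Inf I g) (hg' : Inf I g') : Inf I (g * g') := by
  rw [inf_iff_eq_one] at hg hg' ⊢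
  rw [tm_mul, hg, hg', _root_.mul_one]

theorem Inf.inv {g : tb b B ⟶ G} (hg : Inf I g) : Inf I g⁻¹ := by
  rw [inf_iff_eq_one] at hg ⊢
  rw [tm_inv, hg, inv_one]

section Sq

variable (hI : I ^ 2 = ⊥)
include hI

theorem mul_eq_zero_of_mem {x y : B} (hx : x ∈ I) (hy : y ∈ I) : x * y = 0 := by
  have : x * y ∈ I ^ 2 := by rw [pow_two]; exact Ideal.mul_mem_mul hx hy
  rwa [hI, Ideal.mem_bot] at this

theorem dl_mul_fun {g : tb b B ⟶ G} (hg : Inf I g) (f f' : FunRing b G) :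
    dl g (f * f') = algebraMap A B (eps b G f) * dl g f' + algebraMap A B (eps b G f') * dl g f := by
  have h := mul_eq_zero_of_mem hI (hg f) (hg f')
  simp only [dl_apply, map_mul] at h ⊢
  linear_combination h

/-- A derivation at the unit defines a point. -/
theorem exists_of_der (d : FunRing b G →ₗ[A] B) (hd : ∀ f, d f ∈ I)
    (hmul : ∀ f f', d (f * f') = algebraMap A B (eps b G f) * d f' + algebraMap A B (eps b G f') * d f) :
    ∃ g : tb b B ⟶ G, ∀ f, dl g f = d f := by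
  have h1 : d 1 = 0 := by simpa using hmul 1 1
  let φ : FunRing b G →ₐ[A] B := AlgHom.ofLinearMap ((Algebra.linearMap A B).comp (eps b G).toLinearMap + d)
    (by simp [h1]) (fun f f' => by
      simp only [LinearMap.add_apply, LinearMap.comp_apply, AlgHom.toLinearMap_apply, Algebra.linearMap_apply,
        map_mul, hmul]
      linear_combination - mul_eq_zero_of_mem hI (hd f) (hd f'))
  refine ⟨pt b φ, fun f => ?_⟩
  rw [dl_apply, ev_pt]
  simp [φ]

omit hI in
variable (A I) in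
/-- Pairs of increments in the ideal. -/
def PairRing : Subalgebra A (TrivSqZeroExt B (B × B)) where
  carrier := {x | x.snd.1 ∈ I ∧ x.snd.2 ∈ I}
  mul_mem' := fun {x y} hx hy => by
    simp only [Set.mem_ofPred_eq, TrivSqZeroExt.snd_mul, Prod.fst_add, Prod.snd_add, Prod.smul_fst,
      Prod.smul_snd, op_smul_eq_smul, smul_eq_mul]
    exact ⟨I.add_mem (I.mul_mem_left _ hy.1) (I.mul_mem_left _ hx.1),
      I.add_mem (I.mul_mem_left _ hy.2) (I.mul_mem_left _ hx.2)⟩
  add_mem' := fun {x y} hx hy => ⟨I.add_mem hx.1 hy.1, I.add_mem hx.2 hy.2⟩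
  algebraMap_mem' := fun a => ⟨I.zero_mem, I.zero_mem⟩

/-- A derivation pair. -/
def IsDerPair (v : FunRing b G →ₗ[A] B × B) : Prop :=
  (∀ f, (v f).1 ∈ I ∧ (v f).2 ∈ I) ∧
    ∀ f f', v (f * f') = algebraMap A B (eps b G f) • v f' + algebraMap A B (eps b G f') • v f

omit hI in
theorem exists_pairHom {v : FunRing b G →ₗ[A] B × B} (hv : IsDerPair (I := I) v) :
    ∃ φ : FunRing b G →ₐ[A] PairRing A I,
      ∀ f, (φ f).1.fst = algebraMap A B (eps b G f) ∧ (φ f).1.snd = v f := by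
  have h1 : v 1 = 0 := by simpa using hv.2 1 1
  have hfst : ∀ a : A, (algebraMap A (TrivSqZeroExt B (B × B)) a).fst = algebraMap A B a := fun a => rfl
  let lin : FunRing b G →ₗ[A] TrivSqZeroExt B (B × B) :=
    { toFun := fun f => TrivSqZeroExt.inl (algebraMap A B (eps b G f)) + TrivSqZeroExt.inr (v f)
      map_add' := fun f f' => TrivSqZeroExt.ext (by simp) (by simp)
      map_smul' := fun a f => TrivSqZeroExt.ext (by simp [Algebra.smul_def, hfst]) (by simp) }
  have l1 : lin 1 = 1 := TrivSqZeroExt.ext (by simp [lin]) (by simp [lin, h1])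
  have lm : ∀ f f', lin (f * f') = lin f * lin f' := fun f f' =>
    TrivSqZeroExt.ext (by simp [lin]) (by simp [lin, hv.2])
  exact ⟨(AlgHom.ofLinearMap lin l1 lm).codRestrict _ fun f => by simpa [lin, PairRing] using hv.1 f,
    fun f => ⟨by simp [lin], by simp [lin]⟩⟩

/-- The sum of the increments. -/
theorem exists_sumHom : ∃ σ : PairRing A I →ₐ[A] B, ∀ x, σ x = x.1.fst + (x.1.snd.1 + x.1.snd.2) := by
  let lin : PairRing A I →ₗ[A] B :=
    { toFun := fun x => x.1.fst + (x.1.snd.1 + x.1.snd.2)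
      map_add' := fun x y => by simp; ring
      map_smul' := fun a x => by simp [smul_add] }
  refine ⟨AlgHom.ofLinearMap lin ?_ fun x y => ?_, fun x => rfl⟩
  · show (1 : TrivSqZeroExt B (B × B)).fst +
      ((1 : TrivSqZeroExt B (B × B)).snd.1 + (1 : TrivSqZeroExt B (B × B)).snd.2) = 1
    simp
  show (x.1 * y.1).fst + ((x.1 * y.1).snd.1 + (x.1 * y.1).snd.2) =
    (x.1.fst + (x.1.snd.1 + x.1.snd.2)) * (y.1.fst + (y.1.snd.1 + y.1.snd.2))
  simp only [TrivSqZeroExt.fst_mul,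
    TrivSqZeroExt.snd_mul, Prod.fst_add, Prod.snd_add, Prod.smul_fst, Prod.smul_snd, op_smul_eq_smul, smul_eq_mul]
  linear_combination - mul_eq_zero_of_mem hI x.2.1 y.2.1 - mul_eq_zero_of_mem hI x.2.1 y.2.2
    - mul_eq_zero_of_mem hI x.2.2 y.2.1 - mul_eq_zero_of_mem hI x.2.2 y.2.2

omit hI in
theorem exists_killHom (e : B × B →ₗ[B] B × B) (he : ∀ x, x.1 ∈ I ∧ x.2 ∈ I → (e x).1 ∈ I ∧ (e x).2 ∈ I) :
    ∃ k : PairRing A I →ₐ[A] PairRing A I, ∀ x, (k x).1.fst = x.1.fst ∧ (k x).1.snd = e x.1.snd :=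
  ⟨(((TrivSqZeroExt.map e).restrictScalars A).comp (PairRing A I).val).codRestrict _ fun x => by
      show (TrivSqZeroExt.map e x.1).snd.1 ∈ I ∧ (TrivSqZeroExt.map e x.1).snd.2 ∈ I
      rw [TrivSqZeroExt.snd_map]
      exact he _ x.2,
    fun x => ⟨by simp, by simp⟩⟩

omit hI in
theorem ev_one_pair (f : FunRing b G) :
    (ev b (1 : tb b (PairRing A I) ⟶ G) f).1.fst = algebraMap A B (eps b G f) ∧
      (ev b (1 : tb b (PairRing A I) ⟶ G) f).1.snd = 0 := by
  rw [ev_one]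
  exact ⟨rfl, rfl⟩

/-- The group law on infinitesimal points is addition. -/
theorem dl_mul {g g' : tb b B ⟶ G} (hg : Inf I g) (hg' : Inf I g') (f : FunRing b G) :
    dl (g * g') f = dl g f + dl g' f := by
  obtain ⟨φ, hφ⟩ := exists_pairHom (v := (dl g).prod (dl g'))
    ⟨fun f => ⟨hg f, hg' f⟩, fun f f' => by simp [dl_mul_fun hI hg, dl_mul_fun hI hg', Algebra.smul_def]⟩
  obtain ⟨φ₁, hφ₁⟩ := exists_pairHom (v := (dl g).prod (0 : FunRing b G →ₗ[A] B))
    ⟨fun f => ⟨hg f, I.zero_mem⟩, fun f f' => by simp [dl_mul_fun hI hg, Algebra.smul_def]⟩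
  obtain ⟨φ₂, hφ₂⟩ := exists_pairHom (v := (0 : FunRing b G →ₗ[A] B).prod (dl g'))
    ⟨fun f => ⟨I.zero_mem, hg' f⟩, fun f f' => by simp [dl_mul_fun hI hg', Algebra.smul_def]⟩
  obtain ⟨k₁, hk₁⟩ := exists_killHom (A := A) (I := I) ((LinearMap.inl B B B).comp (LinearMap.fst B B B))
    fun x hx => ⟨hx.1, I.zero_mem⟩
  obtain ⟨k₂, hk₂⟩ := exists_killHom (A := A) (I := I) ((LinearMap.inr B B B).comp (LinearMap.snd B B B))
    fun x hx => ⟨I.zero_mem, hx.2⟩
  have H1 : tm b k₁ ≫ (pt b φ₁ * pt b φ₂) = tm b k₁ ≫ (pt b φ : tb b (PairRing A I) ⟶ G) := by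
    have e2 : tm b k₁ ≫ (pt b φ₂ : tb b (PairRing A I) ⟶ G) = 1 := ev_injective b (AlgHom.ext fun x =>
      Subtype.ext (TrivSqZeroExt.ext
        (by rw [ev_comp, ev_pt, AlgHom.comp_apply, (hk₁ _).1, (hφ₂ _).1, (ev_one_pair x).1])
        (by rw [ev_comp, ev_pt, AlgHom.comp_apply, (hk₁ _).2, (hφ₂ _).2, (ev_one_pair x).2]; simp)))
    rw [tm_mul, e2, _root_.mul_one]
    exact ev_injective b (AlgHom.ext fun x => Subtype.ext (TrivSqZeroExt.ext
      (by simp only [ev_comp, ev_pt, AlgHom.comp_apply, (hk₁ _).1, (hφ₁ _).1, (hφ _).1])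
      (by simp only [ev_comp, ev_pt, AlgHom.comp_apply, (hk₁ _).2, (hφ₁ _).2, (hφ _).2]; simp)))
  have H2 : tm b k₂ ≫ (pt b φ₁ * pt b φ₂) = tm b k₂ ≫ (pt b φ : tb b (PairRing A I) ⟶ G) := by
    have e2 : tm b k₂ ≫ (pt b φ₁ : tb b (PairRing A I) ⟶ G) = 1 := ev_injective b (AlgHom.ext fun x =>
      Subtype.ext (TrivSqZeroExt.ext
        (by rw [ev_comp, ev_pt, AlgHom.comp_apply, (hk₂ _).1, (hφ₁ _).1, (ev_one_pair x).1])
        (by rw [ev_comp, ev_pt, AlgHom.comp_apply, (hk₂ _).2, (hφ₁ _).2, (ev_one_pair x).2]; simp)))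
    rw [tm_mul, e2, _root_.one_mul]
    exact ev_injective b (AlgHom.ext fun x => Subtype.ext (TrivSqZeroExt.ext
      (by simp only [ev_comp, ev_pt, AlgHom.comp_apply, (hk₂ _).1, (hφ₂ _).1, (hφ _).1])
      (by simp only [ev_comp, ev_pt, AlgHom.comp_apply, (hk₂ _).2, (hφ₂ _).2, (hφ _).2]; simp)))
  have H : pt b φ₁ * pt b φ₂ = (pt b φ : tb b (PairRing A I) ⟶ G) := by
    refine ev_injective b (AlgHom.ext fun x => Subtype.ext ?_)
    have a := congrArg (fun q => (ev b q x).1) H1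
    have c := congrArg (fun q => (ev b q x).1) H2
    simp only [ev_comp, AlgHom.comp_apply] at a c
    refine TrivSqZeroExt.ext ?_ (Prod.ext ?_ ?_)
    · simpa only [(hk₁ _).1] using congrArg TrivSqZeroExt.fst a
    · simpa [(hk₁ _).2] using congrArg (fun z => z.snd.1) a
    · simpa [(hk₂ _).2] using congrArg (fun z => z.snd.2) c
  obtain ⟨σ, hσ⟩ := exists_sumHom (A := A) hI
  have s1 : tm b σ ≫ (pt b φ₁ : tb b (PairRing A I) ⟶ G) = g := ev_injective b (AlgHom.ext fun x => by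
    rw [ev_comp, ev_pt, AlgHom.comp_apply, hσ, (hφ₁ _).1, (hφ₁ _).2]
    simp [dl_apply])
  have s2 : tm b σ ≫ (pt b φ₂ : tb b (PairRing A I) ⟶ G) = g' := ev_injective b (AlgHom.ext fun x => by
    rw [ev_comp, ev_pt, AlgHom.comp_apply, hσ, (hφ₂ _).1, (hφ₂ _).2]
    simp [dl_apply])
  have h := congrArg (fun q => dl (tm b σ ≫ q) f) H
  simp only [tm_mul, s1, s2] at h
  rw [h, dl_apply, ev_comp, ev_pt, AlgHom.comp_apply, hσ, (hφ _).1, (hφ _).2]
  simp

theorem dl_inv {g : tb b B ⟶ G} (hg : Inf I g) (f : FunRing b G) : dl g⁻¹ f = -dl g f := by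
  have := dl_mul hI hg hg.inv f
  rw [mul_inv_cancel, dl_one] at this
  linear_combination -this

/-- Infinitesimal points commute. -/
theorem inf_comm {g g' : tb b B ⟶ G} (hg : Inf I g) (hg' : Inf I g') : g * g' = g' * g :=
  eq_of_dl fun f => by rw [dl_mul hI hg hg', dl_mul hI hg' hg, add_comm]

end Sq

end Groth.Agent.RedCell22
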