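import Groth.Agent.RedCell22.GlobalFn

/-!
# The group law of the positive root groups in coordinates
-/

set_option autoImplicit false
set_option linter.unusedSectionVars false

universe u

open CategoryTheory CategoryTheory.Limits AlgebraicGeometry MonoidalCategory CartesianMonoidalCategory
open MonObj GrpObj

noncomputable section

namespace Groth.Agent.RedCell22

open Red23Lib.Pinned (tuple proj comp_tuple tuple_prodMap)
open GrpSchLib

variable {S : Scheme.{u}} {G : Over S} [GrpObj G] {D : Red.SplitRed G} {p : ℕ}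

/-- A product of root group elements does not depend on the base of the test. -/
theorem word_transfer {A R : Type u} [CommRing A] [CommRing R] [Algebra A R]
    (b : Spec (CommRingCat.of A) ⟶ S) {bR : Spec (CommRingCat.of R) ⟶ S}
    (hb : Spec.map (CommRingCat.ofHom (algebraMap A R)) ≫ b = bR) (e : Fin p → D.idx) (x : Fin p → R) :
    ∃ h : tb bR R ⟶ tb b R, ∀ e x, h ≫ (word D (m := p) e x : tb b R ⟶ G) = word D e x := by
  let h : tb bR R ⟶ tb b R := Over.homMk (𝟙 _) (by
    show 𝟙 _ ≫ Spec.map _ ≫ b = _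
    rw [Category.id_comp, hb, tb_hom])
  have hg : ∀ r : R, h ≫ (gaPt r : tb b R ⟶ Red.Ga S) = gaPt r := fun r => GaPts.gaFn_injective (gs.injective (by
    show gs (Red.gaFn _) = gs (Red.gaFn _)
    rw [GaPts.gaFn_comp, gs_gaFn_gaPt]
    show (Scheme.ΓSpecIso _).hom ((𝟙 (Spec (CommRingCat.of R)) : _ ⟶ _).appTop _) = r
    rw [Scheme.Hom.id_appTop]
    exact gs_gaFn_gaPt (b := b) (S := S) r))
  refine ⟨h, fun e x => ?_⟩
  rw [← powPt_prodMap, ← powPt_prodMap, ← Category.assoc]
  congr 1
  exact (comp_tuple h _).trans (congrArg tuple (funext fun k => hg _))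

variable [IsAffineHom G.hom] {Ψ : Set D.idx} {e : Fin p → D.idx} {f : D.M →+ ℤ}

/-- The coordinates of equivariant products over a closed set are homogeneous. -/
theorem weight_coord_closed {A : Type u} [CommRing A] {b : Spec (CommRingCat.of A) ⟶ S}
    (h : IsClosedSet D.P Ψ) (he : RedSub.Enumerates Ψ e) {V : Type} {ω : V → D.M} {Q : Fin p → MvPolynomial V A}
    (hQ : Equivariant D ω (word D e Q : tb b (MvPolynomial V A) ⟶ G)) (c : Fin p) (d : V →₀ ℕ)
    (hd : MvPolynomial.coeff d (Q c) ≠ 0) : Finsupp.weight ω d = D.P.root (e c) := by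
  obtain ⟨f, hf⟩ := h.exists_form
  obtain ⟨q, e', hl⟩ := exists_extend hf he
  have hQ' : (word D (Fin.append e e') (Fin.append Q fun _ => 0) : tb b (MvPolynomial V A) ⟶ G) = word D e Q := by
    rw [word_append, word_zero, _root_.mul_one]
  have := weight_coord hl (hQ'.symm ▸ hQ) (Fin.castAdd q c) d (by simpa using hd)
  simpa using this

/-- The coordinates of a product of two universal products. -/
def LawAt {A : Type u} [CommRing A] (b : Spec (CommRingCat.of A) ⟶ S) (e : Fin p → D.idx)
    (Q : Fin p → MvPolynomial (Fin p ⊕ Fin p) A) : Prop :=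
  (word D e Q : tb b (MvPolynomial (Fin p ⊕ Fin p) A) ⟶ G) =
    word D e (fun i => MvPolynomial.X (.inl i)) * word D e fun i => MvPolynomial.X (.inr i)

theorem exists_lawAt (h : IsClosedSet D.P Ψ) (he : RedSub.Enumerates Ψ e) {A : Type u} [CommRing A]
    (b : Spec (CommRingCat.of A) ⟶ S) : ∃ Q, LawAt b e Q := by
  obtain ⟨f, hf⟩ := h.exists_form
  have hmem : ∀ i, e i ∈ Ψ := fun i => (Set.ext_iff.mp he.2 _).mp ⟨i, rfl⟩
  exact exists_word_of_equivariant h hf he (Sum.elim e e) (Sum.rec hmem hmem)
    ((equivariant_word_X e Sum.inl fun _ => rfl).mul (equivariant_word_X e Sum.inr fun _ => rfl))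
    ((hasLimOne_word D (fun i => hf _ (hmem i)) _).mul _ (hasLimOne_word D (fun i => hf _ (hmem i)) _))

theorem LawAt.weight (h : IsClosedSet D.P Ψ) (he : RedSub.Enumerates Ψ e) {A : Type u} [CommRing A]
    {b : Spec (CommRingCat.of A) ⟶ S} {Q : Fin p → MvPolynomial (Fin p ⊕ Fin p) A} (hQ : LawAt b e Q) (c : Fin p)
    (d : Fin p ⊕ Fin p →₀ ℕ) (hd : MvPolynomial.coeff d (Q c) ≠ 0) :
    Finsupp.weight (fun v => D.P.root (Sum.elim e e v)) d = D.P.root (e c) :=
  weight_coord_closed (b := b) h he (hQ.symm ▸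
    (equivariant_word_X e (ω := fun v => D.P.root (Sum.elim e e v)) Sum.inl fun _ => rfl).mul
      (equivariant_word_X e Sum.inr fun _ => rfl)) c d hd

theorem LawAt.eval {A : Type u} [CommRing A] {b : Spec (CommRingCat.of A) ⟶ S}
    {Q : Fin p → MvPolynomial (Fin p ⊕ Fin p) A} (hQ : LawAt b e Q) {R : Type u} [CommRing R] [Algebra A R]
    (x y : Fin p → R) :
    (word D e (fun k => MvPolynomial.aeval (Sum.elim x y) (Q k)) : tb b R ⟶ G) = word D e x * word D e y := by
  rw [← word_map, hQ, tm_mul, word_map, word_map]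
  simp

/-- The law commutes with base change. -/
theorem LawAt.map (h : IsClosedSet D.P Ψ) (he : RedSub.Enumerates Ψ e) {A A' : Type u} [CommRing A] [CommRing A']
    (φ : A →+* A') {b : Spec (CommRingCat.of A) ⟶ S} {b' : Spec (CommRingCat.of A') ⟶ S}
    (hb : Spec.map (CommRingCat.ofHom φ) ≫ b = b') {Q : Fin p → MvPolynomial (Fin p ⊕ Fin p) A} (hQ : LawAt b e Q)
    {Q' : Fin p → MvPolynomial (Fin p ⊕ Fin p) A'} (hQ' : LawAt b' e Q') (k : Fin p) :
    MvPolynomial.map φ (Q k) = Q' k := by
  let R := MvPolynomial (Fin p ⊕ Fin p) A'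
  let bR : Spec (CommRingCat.of R) ⟶ S := Spec.map (CommRingCat.ofHom (algebraMap A' R)) ≫ b'
  obtain ⟨h', hh'⟩ := word_transfer (D := D) b' (bR := bR) rfl e fun i => (MvPolynomial.X (Sum.inl i) : R)
  letI : Algebra A R := ((algebraMap A' R).comp φ).toAlgebra
  obtain ⟨h₁, hh₁⟩ := word_transfer (D := D) b (bR := bR) (by
    rw [show algebraMap A R = (algebraMap A' R).comp φ from rfl, CommRingCat.ofHom_comp, Spec.map_comp,
      Category.assoc, hb]) e fun i => (MvPolynomial.X (Sum.inl i) : R)
  have e1 := congrArg (h' ≫ ·) hQ'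
  have e2 := congrArg (h₁ ≫ ·) (hQ.eval (R := R) (fun i => MvPolynomial.X (Sum.inl i)) fun i => MvPolynomial.X (Sum.inr i))
  simp only [MonObj.comp_mul, hh'] at e1
  simp only [MonObj.comp_mul, hh₁] at e2
  have e3 := congrFun (word_injective_of_closed h he (e2.trans e1.symm)) k
  rw [← e3, MvPolynomial.aeval_def]
  generalize Q k = P
  induction P using MvPolynomial.induction_on with
  | C a => simp only [MvPolynomial.map_C, MvPolynomial.eval₂_C]; rfl
  | add P P' hP hP' => simp only [map_add, MvPolynomial.eval₂_add, hP, hP']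
  | mul_X P v hP => cases v <;> simp [hP]

theorem LawAt.triangular [LinearOrder D.M] [IsOrderedAddMonoid D.M] (h : IsClosedSet D.P Ψ)
    (he : RedSub.Enumerates Ψ e) (hpos : ∀ i, 0 < D.P.root (e i)) {A : Type u} [CommRing A]
    {b : Spec (CommRingCat.of A) ⟶ S} {Q : Fin p → MvPolynomial (Fin p ⊕ Fin p) A} (hQ : LawAt b e Q) (c : Fin p)
    (d : Fin p ⊕ Fin p →₀ ℕ) (v : Fin p ⊕ Fin p) (hv : d v ≠ 0)
    (hle : D.P.root (e c) ≤ D.P.root (Sum.elim e e v)) :
    MvPolynomial.coeff d (Q c - MvPolynomial.X (Sum.inl c) - MvPolynomial.X (Sum.inr c)) = 0 := by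
  classical
  obtain ⟨f, hf⟩ := h.exists_form
  have hnotv : d ≠ Finsupp.single v 1 → MvPolynomial.coeff d (Q c) = 0 := fun hne => by
    by_contra hc
    have hw := hQ.weight h he c d hc
    have hsub := Finsupp.weight_sub_single_add (w := fun v => D.P.root (Sum.elim e e v)) hv
    obtain ⟨w, hw'⟩ : ∃ w, (d - Finsupp.single v 1 : Fin p ⊕ Fin p →₀ ℕ) w ≠ 0 := by
      by_contra hall
      push Not at hall
      refine hne ?_
      rw [← Finsupp.sub_add_single_one_cancel hv, Finsupp.ext (f := d - Finsupp.single v 1) (g := 0) hall, zero_add]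
    have hp : ∀ u, 0 < D.P.root (Sum.elim e e u) := Sum.rec hpos hpos
    have h1 : 0 < Finsupp.weight (fun v => D.P.root (Sum.elim e e v)) (d - Finsupp.single v 1) :=
      (hp w).trans_le (Finsupp.le_weight_of_ne_zero (fun u => (hp u).le) hw')
    rw [hw] at hsub
    rw [← hsub] at hle
    exact absurd (le_of_add_le_add_right (a := D.P.root (Sum.elim e e v))
      (by rw [zero_add]; exact hle)) (not_le.mpr h1)
  rw [MvPolynomial.coeff_sub, MvPolynomial.coeff_sub, MvPolynomial.coeff_X, MvPolynomial.coeff_X]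
  by_cases hd : d = Finsupp.single v 1
  · subst hd
    by_cases hvc : D.P.root (Sum.elim e e v) = D.P.root (e c)
    · have hvc' := D.P.root.injective hvc
      have hz : ∀ (x : Fin p → MvPolynomial (Fin p) A), (word D e x : tb b (MvPolynomial (Fin p) A) ⟶ G) =
          word D e MvPolynomial.X → x c = MvPolynomial.X c := fun x hx =>
        congrFun (word_injective_of_closed h he hx) c
      rcases v with i | i
      · obtain rfl : i = c := he.1 hvc'
        have e2 := hQ.eval (R := MvPolynomial (Fin p) A) MvPolynomial.X fun _ => 0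
        rw [word_zero, _root_.mul_one] at e2
        have e3 := congrArg (MvPolynomial.coeff (Finsupp.single i 1)) (hz _ e2)
        have e4 : ∀ P : MvPolynomial (Fin p ⊕ Fin p) A, MvPolynomial.coeff (Finsupp.single i 1)
            (MvPolynomial.aeval (Sum.elim (MvPolynomial.X (R := A)) fun _ : Fin p => 0) P) =
              MvPolynomial.coeff (Finsupp.single (Sum.inl i) 1) P ∧ MvPolynomial.coeff 0
            (MvPolynomial.aeval (Sum.elim (MvPolynomial.X (R := A)) fun _ : Fin p => 0) P) =
              MvPolynomial.coeff 0 P := by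
          intro P
          induction P using MvPolynomial.induction_on with
          | C a =>
            rw [MvPolynomial.aeval_C, MvPolynomial.algebraMap_eq]
            simp [MvPolynomial.coeff_C, Ne.symm (Finsupp.single_ne_zero.mpr (one_ne_zero (α := ℕ)))]
          | add P P' hP hP' => exact ⟨by simp only [map_add, MvPolynomial.coeff_add, hP.1, hP'.1],
              by simp only [map_add, MvPolynomial.coeff_add, hP.2, hP'.2]⟩
          | mul_X P u hP =>
            rw [map_mul, MvPolynomial.aeval_X, MvPolynomial.coeff_mul_X', MvPolynomial.coeff_mul_X']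
            rcases u with j | j
            · rw [Sum.elim_inl, MvPolynomial.coeff_mul_X', MvPolynomial.coeff_mul_X']
              rcases eq_or_ne j i with rfl | hj
              · exact ⟨by rw [if_pos (by simp), if_pos (by simp), tsub_self, tsub_self, hP.2],
                  by rw [if_neg (by simp), if_neg (by simp)]⟩
              · simp [hj]
            · simp
        rw [(e4 _).1] at e3
        simp [e3, Finsupp.single_left_inj]
      · obtain rfl : i = c := he.1 hvc'
        have e2 := hQ.eval (R := MvPolynomial (Fin p) A) (fun _ => 0) MvPolynomial.X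
        rw [word_zero, _root_.one_mul] at e2
        have e3 := congrArg (MvPolynomial.coeff (Finsupp.single i 1)) (hz _ e2)
        have e4 : ∀ P : MvPolynomial (Fin p ⊕ Fin p) A, MvPolynomial.coeff (Finsupp.single i 1)
            (MvPolynomial.aeval (Sum.elim (fun _ : Fin p => 0) (MvPolynomial.X (R := A))) P) =
              MvPolynomial.coeff (Finsupp.single (Sum.inr i) 1) P ∧ MvPolynomial.coeff 0
            (MvPolynomial.aeval (Sum.elim (fun _ : Fin p => 0) (MvPolynomial.X (R := A))) P) =
              MvPolynomial.coeff 0 P := by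
          intro P
          induction P using MvPolynomial.induction_on with
          | C a =>
            rw [MvPolynomial.aeval_C, MvPolynomial.algebraMap_eq]
            simp [MvPolynomial.coeff_C, Ne.symm (Finsupp.single_ne_zero.mpr (one_ne_zero (α := ℕ)))]
          | add P P' hP hP' => exact ⟨by simp only [map_add, MvPolynomial.coeff_add, hP.1, hP'.1],
              by simp only [map_add, MvPolynomial.coeff_add, hP.2, hP'.2]⟩
          | mul_X P u hP =>
            rw [map_mul, MvPolynomial.aeval_X, MvPolynomial.coeff_mul_X', MvPolynomial.coeff_mul_X']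
            rcases u with j | j
            · simp
            · rw [Sum.elim_inr, MvPolynomial.coeff_mul_X', MvPolynomial.coeff_mul_X']
              rcases eq_or_ne j i with rfl | hj
              · exact ⟨by rw [if_pos (by simp), if_pos (by simp), tsub_self, tsub_self, hP.2],
                  by rw [if_neg (by simp), if_neg (by simp)]⟩
              · simp [hj]
        rw [(e4 _).1] at e3
        simp [e3, Finsupp.single_left_inj]
    · have h0 : MvPolynomial.coeff (Finsupp.single v 1) (Q c) = 0 := by
        by_contra hc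
        have hw := hQ.weight h he c _ hc
        rw [Finsupp.weight_single, one_smul] at hw
        exact hvc hw
      have h1 : Finsupp.single (Sum.inl c : Fin p ⊕ Fin p) 1 ≠ Finsupp.single v 1 := fun e' =>
        hvc (by rw [← Finsupp.single_left_injective one_ne_zero e']; rfl)
      have h2 : Finsupp.single (Sum.inr c : Fin p ⊕ Fin p) 1 ≠ Finsupp.single v 1 := fun e' =>
        hvc (by rw [← Finsupp.single_left_injective one_ne_zero e']; rfl)
      rw [h0, if_neg h1, if_neg h2]
      simp
  · rw [hnotv hd, if_neg, if_neg]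
    · simp
    · intro e'
      refine hd ?_
      rw [← e'] at hv ⊢
      have : v = Sum.inr c := by by_contra hne; exact hv (Finsupp.single_eq_of_ne hne)
      rw [this]
    · intro e'
      refine hd ?_
      rw [← e'] at hv ⊢
      have : v = Sum.inl c := by by_contra hne; exact hv (Finsupp.single_eq_of_ne hne)
      rw [this]

/-- The global law. -/
theorem exists_globalLaw (h : IsClosedSet D.P Ψ) (he : RedSub.Enumerates Ψ e) :
    ∃ Q : Fin p → MvPolynomial (Fin p ⊕ Fin p) Γ(S, ⊤),
      ∀ (A : Type u) [CommRing A] (b : Spec (CommRingCat.of A) ⟶ S),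
        LawAt b e fun k => MvPolynomial.map (glob b) (Q k) := by
  classical
  obtain ⟨f, hf⟩ := h.exists_form
  let V := Fin p ⊕ Fin p
  let σ : V → D.idx := Sum.elim e e
  have hσ : ∀ v, 0 < f (D.P.root (σ v)) := Sum.rec (fun i => hf _ ((Set.ext_iff.mp he.2 _).mp ⟨i, rfl⟩))
    fun i => hf _ ((Set.ext_iff.mp he.2 _).mp ⟨i, rfl⟩)
  let P := fun (A : Type u) [CommRing A] (b : Spec (CommRingCat.of A) ⟶ S) => Classical.choose (exists_lawAt h he b)
  have hP : ∀ (A : Type u) [CommRing A] (b : Spec (CommRingCat.of A) ⟶ S), LawAt b e (P A b) :=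
    fun A _ b => Classical.choose_spec (exists_lawAt h he b)
  choose c₀ hc₀ using fun (k : Fin p) (d : V →₀ ℕ) =>
    exists_glob (S := S) (fun A _ b => MvPolynomial.coeff d (P A b k)) fun A A' _ _ φ b b' hb => by
      rw [← (hP A b).map h he φ hb (hP A' b') k, MvPolynomial.coeff_map]
  let E : Finset (V →₀ ℕ) :=
    (Finset.univ : Finset V).finsupp fun _ => Finset.range (∑ k, (f (D.P.root (e k))).toNat + 1)
  have hE : ∀ (A : Type u) [CommRing A] (b : Spec (CommRingCat.of A) ⟶ S) k (d : V →₀ ℕ),
      MvPolynomial.coeff d (P A b k) ≠ 0 → d ∈ E := by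
    intro A _ b k d hd
    refine Finset.mem_finsupp_iff.mpr ⟨fun v _ => Finset.mem_univ v, fun v _ => Finset.mem_range.mpr ?_⟩
    have hw := congrArg f ((hP A b).weight h he k d hd)
    rw [Finsupp.weight_eq_sum, map_sum] at hw
    have h1 : (d v : ℤ) ≤ f (D.P.root (e k)) := by
      rw [← hw]
      refine le_trans ?_ (Finset.single_le_sum (fun u _ => ?_) (Finset.mem_univ v))
      · rw [map_nsmul, nsmul_eq_mul]
        exact le_mul_of_one_le_right (Int.natCast_nonneg _) (hσ v)
      · rw [map_nsmul]; exact nsmul_nonneg (hσ u).le _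
    have h2 := Finset.single_le_sum (f := fun k => (f (D.P.root (e k))).toNat) (fun _ _ => Nat.zero_le _)
      (Finset.mem_univ k)
    omega
  refine ⟨fun k => ∑ d ∈ E, MvPolynomial.monomial d (c₀ k d), fun A _ b => ?_⟩
  have : (fun k => MvPolynomial.map (glob b) (∑ d ∈ E, MvPolynomial.monomial d (c₀ k d))) = P A b := funext fun k => by
    ext d
    rw [map_sum, MvPolynomial.coeff_sum]
    simp only [MvPolynomial.map_monomial, MvPolynomial.coeff_monomial, hc₀]
    rw [Finset.sum_ite_eq']
    split_ifs with hd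
    · rfl
    · by_contra hne
      exact hd (hE A b k d (Ne.symm hne))
  rw [this]
  exact hP A b

end Groth.Agent.RedCell22

namespace Groth.Agent.RedCell22

variable {S : Scheme.{u}} {G : Over S} [GrpObj G] {D : Red.SplitRed G} [IsAffineHom G.hom]
variable [LinearOrder D.M] [IsOrderedAddMonoid D.M] {N : ℕ} {e : Fin N → D.idx}

/-- Below the first non-trivial place coordinates add. -/
theorem coord_add_of_le (he : Function.Injective e) (hrange : ∀ a : D.idx, a ∈ Set.range e ↔ 0 < D.P.root a)
    (hmono : StrictMono fun k => D.P.root (e k)) {A : Type u} [CommRing A] {b : Spec (CommRingCat.of A) ⟶ S}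
    {i : ℕ} (x y z : Fin N → A) (hx : ∀ k : Fin N, (k : ℕ) < i → x k = 0) (hy : ∀ k : Fin N, (k : ℕ) < i → y k = 0)
    (h : (word D e z : tb b A ⟶ G) = word D e x * word D e y) (c : Fin N) (hc : (c : ℕ) ≤ i) :
    z c = x c + y c := by
  classical
  have hcl := isClosedSet_tail hrange hmono 0
  have he' := enumerates_zero (D := D) he
  obtain ⟨Q, hQ⟩ := exists_lawAt hcl he' b
  have hz : z c = MvPolynomial.aeval (Sum.elim x y) (Q c) :=
    congrFun (word_injective_of_closed hcl he' (h.trans (hQ.eval x y).symm)) c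
  rw [hz, ← sub_eq_zero]
  have : MvPolynomial.aeval (Sum.elim x y) (Q c - MvPolynomial.X (Sum.inl c) - MvPolynomial.X (Sum.inr c)) = 0 := by
    rw [MvPolynomial.aeval_def, MvPolynomial.eval₂_eq]
    refine Finset.sum_eq_zero fun d hd => ?_
    have hd' := MvPolynomial.mem_support_iff.mp hd
    obtain ⟨v, hv⟩ : ∃ v, d v ≠ 0 := by
      by_contra hall
      push Not at hall
      rw [show d = 0 from Finsupp.ext hall] at hd'
      refine hd' ?_
      have h0 : MvPolynomial.coeff 0 (Q c) = 0 := by
        by_contra h0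
        have := hQ.weight hcl he' c 0 h0
        rw [map_zero] at this
        exact D.P.ne_zero _ this.symm
      simp [h0]
    have hlt : D.P.root (Sum.elim e e v) < D.P.root (e c) := by
      by_contra hle
      exact hd' (LawAt.triangular hcl he' (fun i => (hrange _).mp ⟨i, rfl⟩) hQ c d v hv (not_lt.mp hle))
    rw [Finset.prod_eq_zero (Finsupp.mem_support_iff.mpr hv), mul_zero]
    rcases v with j | j
    · rw [Sum.elim_inl, hx j (lt_of_lt_of_le (hmono.lt_iff_lt.mp hlt : (j : ℕ) < c) hc), zero_pow hv]
    · rw [Sum.elim_inr, hy j (lt_of_lt_of_le (hmono.lt_iff_lt.mp hlt : (j : ℕ) < c) hc), zero_pow hv]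
  simp only [map_sub, MvPolynomial.aeval_X, Sum.elim_inl, Sum.elim_inr] at this
  rw [← this]
  ring

/-- Products and inverses of tuples trivial before a place. -/
theorem exists_coord_product (he : Function.Injective e) (hrange : ∀ a : D.idx, a ∈ Set.range e ↔ 0 < D.P.root a)
    (hmono : StrictMono fun k => D.P.root (e k)) {X : Over S} (x y : Fin N → (X ⟶ Red.Ga S)) {i : ℕ}
    (hx : ∀ k : Fin N, (k : ℕ) < i → x k = 1) (hy : ∀ k : Fin N, (k : ℕ) < i → y k = 1) :
    ∃ z : Fin N → (X ⟶ Red.Ga S),
      (List.ofFn fun k => z k ≫ D.u (e k)).prod =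
        (List.ofFn fun k => x k ≫ D.u (e k)).prod * (List.ofFn fun k => y k ≫ D.u (e k)).prod ∧
      ∀ c : Fin N, (c : ℕ) ≤ i → z c = x c * y c := by
  classical
  have hcl := isClosedSet_tail hrange hmono 0
  have he' := enumerates_zero (D := D) he
  have hmem : ∀ k, e k ∈ tailSet e 0 := fun k => ⟨k, Nat.zero_le _, rfl⟩
  haveI := mono_prodMap_of_closed hcl he'
  obtain ⟨z, hz⟩ := exists_tuple_of_tests (d := e)
    ((List.ofFn fun k => x k ≫ D.u (e k)).prod * (List.ofFn fun k => y k ≫ D.u (e k)).prod) fun A _ b φ => by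
      rw [MonObj.comp_mul, comp_prod_ofFn, comp_prod_ofFn, ← word_append]
      exact (exists_word_of_word hcl he' _ (fun k => Fin.addCases (fun j => by rw [Fin.append_left]; exact hmem j)
        (fun j => by rw [Fin.append_right]; exact hmem j) k) _).1
  refine ⟨z, hz, fun c hc => hom_ext_of_tests fun A _ b φ => GrpSchLib.GaPts.gaFn_injective (gs.injective ?_)⟩
  show gs (Red.gaFn (φ ≫ z c)) = gs (Red.gaFn (φ ≫ (x c * y c)))
  rw [MonObj.comp_mul, GrpSchLib.GaPts.gaFn_mul, map_add]
  have e1 := congrArg (φ ≫ ·) hz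
  simp only [MonObj.comp_mul, comp_prod_ofFn] at e1
  have zero : ∀ w : X ⟶ Red.Ga S, w = 1 → gs (Red.gaFn (φ ≫ w)) = 0 := fun w hw => by
    rw [hw, MonObj.comp_one, GrpSchLib.GaPts.gaFn_one, map_zero]
  exact coord_add_of_le he hrange hmono _ _ _ (fun k hk => zero _ (hx k hk)) (fun k hk => zero _ (hy k hk)) e1 c hc

end Groth.Agent.RedCell22
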