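import Groth.Agent.RedCell22.Coact

/-!
# Points with limits for a cocharacter, through the homogeneous components of functions
-/

set_option autoImplicit false

universe u

open CategoryTheory CategoryTheory.Limits AlgebraicGeometry MonoidalCategory CartesianMonoidalCategory
open MonObj GrpObj
open scoped LaurentPolynomial

noncomputable section

namespace Groth.Agent.RedCell22

variable {S : Scheme.{u}} {A : Type u} [CommRing A] {b : Spec (CommRingCat.of A) ⟶ S} {G : Over S} [GrpObj G]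
variable {B C : Type u} [CommRing B] [Algebra A B] [CommRing C] [Algebra A C]

variable (b G) in
/-- The counit. -/
def eps : FunRing b G →ₐ[A] A := ev b (1 : tb b A ⟶ G)

theorem ev_one (f : FunRing b G) : ev b (1 : tb b B ⟶ G) f = algebraMap A B (eps b G f) := by
  rw [← tm_one (b := b) (Algebra.ofId A B), ev_comp]
  rfl

/-- Laurent polynomials without negative terms. -/
theorem mem_range_toLaurent {p : B[T;T⁻¹]} (hp : ∀ n < 0, p.coeff n = 0) :
    p ∈ ((Polynomial.toLaurentAlg (R := B)).restrictScalars A).range := by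
  rw [← AddMonoidAlgebra.ofCoeff_coeff p, ← p.coeff.sum_single, AddMonoidAlgebra.ofCoeff_finsuppSum]
  refine Subalgebra.sum_mem _ fun n hn => ?_
  have hn0 : 0 ≤ n := by
    by_contra h
    exact Finsupp.mem_support_iff.mp hn (hp n (lt_of_not_ge h))
  refine ⟨Polynomial.monomial n.toNat (p.coeff n), ?_⟩
  show Polynomial.toLaurent _ = _
  rw [Polynomial.toLaurent_C_mul_T, Int.toNat_of_nonneg hn0, ← LaurentPolynomial.single_eq_C_mul_T]
  rfl

theorem toLaurent_coeff_nat (p : Polynomial B) (k : ℕ) : (Polynomial.toLaurent p).coeff (k : ℤ) = p.coeff k := by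
  induction p using Polynomial.induction_on' with
  | add p q hp hq => rw [map_add, AddMonoidAlgebra.coeff_add, Finsupp.add_apply, hp, hq]; simp
  | monomial m r =>
    rw [Polynomial.toLaurent_C_mul_T, ← LaurentPolynomial.single_eq_C_mul_T, AddMonoidAlgebra.coeff_single,
      Finsupp.single_apply, Polynomial.coeff_monomial]
    simp

theorem toLaurent_coeff_neg (p : Polynomial B) {n : ℤ} (hn : n < 0) : (Polynomial.toLaurent p).coeff n = 0 := by
  induction p using Polynomial.induction_on' with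
  | add p q hp hq => rw [map_add, AddMonoidAlgebra.coeff_add, Finsupp.add_apply, hp, hq]; simp
  | monomial m r =>
    rw [Polynomial.toLaurent_C_mul_T, ← LaurentPolynomial.single_eq_C_mul_T, AddMonoidAlgebra.coeff_single]
    exact Finsupp.single_eq_of_ne (by omega)

namespace Cochar

variable (c : Cochar b G) [IsAffineHom G.hom]

set_option linter.unusedSectionVars false

theorem coeff_ev_orb (g : tb b B ⟶ G) (n : ℤ) (f : FunRing b G) :
    (ev b (c.orb g) f).coeff n = ev b g (c.proj n f) := by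
  rw [ev_orb, AlgHom.comp_apply, mapL_coeff]
  rfl

theorem eps_proj (n : ℤ) (f : FunRing b G) : eps b G (c.proj n f) = if n = 0 then eps b G f else 0 := by
  rw [eps, ← coeff_ev_orb, orb_one, ev_one, LaurentPolynomial.algebraMap_apply, LaurentPolynomial.C_apply]
  rfl

theorem hasLim_iff (g : tb b B ⟶ G) : c.HasLim g ↔ ∀ n < 0, ∀ f, ev b g (c.proj n f) = 0 := by
  constructor
  · rintro ⟨h, hh⟩ n hn f
    rw [← coeff_ev_orb, ← hh, ev_comp]
    exact toLaurent_coeff_neg _ hn
  · intro h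
    let incl := (Polynomial.toLaurentAlg (R := B)).restrictScalars A
    have hincl : Function.Injective incl := Polynomial.toLaurent_injective
    have hm : ∀ f, ev b (c.orb g) f ∈ incl.range := fun f =>
      mem_range_toLaurent fun n hn => (coeff_ev_orb c g n f).trans (h n hn f)
    let φ : FunRing b G →ₐ[A] Polynomial B :=
      (AlgEquiv.ofInjective incl hincl).symm.toAlgHom.comp ((ev b (c.orb g)).codRestrict incl.range hm)
    refine ⟨pt b φ, ev_injective b ?_⟩
    rw [ev_comp, ev_pt]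
    refine AlgHom.ext fun f => ?_
    exact congrArg Subtype.val ((AlgEquiv.ofInjective incl hincl).apply_symm_apply ⟨_, hm f⟩)

theorem ev_eval_zero {g : tb b B ⟶ G} {h : tb b (Polynomial B) ⟶ G}
    (hh : tm b ((Polynomial.toLaurentAlg (R := B)).restrictScalars A) ≫ h = c.orb g) (f : FunRing b G) :
    ev b (tm b ((Polynomial.aeval (0 : B)).restrictScalars A) ≫ h) f = ev b g (c.proj 0 f) := by
  rw [← coeff_ev_orb, ← hh, ev_comp, ev_comp]
  show Polynomial.aeval (0 : B) _ = (Polynomial.toLaurent _).coeff ((0 : ℕ) : ℤ)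
  rw [toLaurent_coeff_nat, Polynomial.coe_aeval_eq_eval, Polynomial.coeff_zero_eq_eval_zero]

theorem hasLimOne_iff (g : tb b B ⟶ G) :
    c.HasLimOne g ↔ c.HasLim g ∧ ∀ f, ev b g (c.proj 0 f) = algebraMap A B (eps b G f) := by
  constructor
  · rintro ⟨h, hh, h0⟩
    refine ⟨⟨h, hh⟩, fun f => ?_⟩
    rw [← ev_eval_zero c hh, h0, ev_one]
  · rintro ⟨⟨h, hh⟩, h0⟩
    exact ⟨h, hh, ev_injective b (AlgHom.ext fun f => by rw [ev_eval_zero c hh, h0, ev_one])⟩

theorem isFixed_iff (g : tb b B ⟶ G) : c.IsFixed g ↔ ∀ n ≠ 0, ∀ f, ev b g (c.proj n f) = 0 := by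
  constructor
  · intro h n hn f
    rw [← coeff_ev_orb, h, ev_comp, AlgHom.comp_apply, CL_apply, LaurentPolynomial.C_apply, if_neg hn]
  · intro h
    refine ev_injective b (AlgHom.ext fun f => LaurentPolynomial.ext fun n => ?_)
    rw [coeff_ev_orb, ev_comp, AlgHom.comp_apply, CL_apply, LaurentPolynomial.C_apply]
    rcases eq_or_ne n 0 with rfl | hn
    · rw [if_pos rfl]
      conv_rhs => rw [← c.sum_proj f]
      rw [map_finsuppSum, Finsupp.sum_eq_single (0 : ℤ)]
      · rfl
      · intro m _ hm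
        exact h m hm f
      · intro _; simp
    · rw [if_neg hn, h n hn f]

theorem HasLim.mul {g g' : tb b B ⟶ G} (hg : c.HasLim g) (hg' : c.HasLim g') : c.HasLim (g * g') := by
  obtain ⟨h, hh⟩ := hg
  obtain ⟨h', hh'⟩ := hg'
  exact ⟨h * h', by rw [tm_mul, hh, hh', orb_mul]⟩

theorem HasLim.inv {g : tb b B ⟶ G} (hg : c.HasLim g) : c.HasLim g⁻¹ := by
  obtain ⟨h, hh⟩ := hg
  exact ⟨h⁻¹, by rw [tm_inv, hh, orb_inv]⟩

theorem hasLimOne_one : c.HasLimOne (1 : tb b B ⟶ G) :=
  ⟨1, by rw [tm_one, orb_one], tm_one _⟩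

theorem HasLimOne.mul {g g' : tb b B ⟶ G} (hg : c.HasLimOne g) (hg' : c.HasLimOne g') : c.HasLimOne (g * g') := by
  obtain ⟨h, hh, h0⟩ := hg
  obtain ⟨h', hh', h0'⟩ := hg'
  exact ⟨h * h', by rw [tm_mul, hh, hh', orb_mul], by rw [tm_mul, h0, h0', _root_.mul_one]⟩

theorem HasLimOne.inv {g : tb b B ⟶ G} (hg : c.HasLimOne g) : c.HasLimOne g⁻¹ := by
  obtain ⟨h, hh, h0⟩ := hg
  exact ⟨h⁻¹, by rw [tm_inv, hh, orb_inv], by rw [tm_inv, h0, inv_one]⟩

theorem HasLimOne.hasLim {g : tb b B ⟶ G} (hg : c.HasLimOne g) : c.HasLim g :=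
  ((hasLimOne_iff c g).mp hg).1

theorem HasLim.map {g : tb b B ⟶ G} (hg : c.HasLim g) (φ : B →ₐ[A] C) : c.HasLim (tm b φ ≫ g) := by
  rw [hasLim_iff] at hg ⊢
  intro n hn f
  rw [ev_comp, AlgHom.comp_apply, hg n hn f, map_zero]

theorem HasLimOne.map {g : tb b B ⟶ G} (hg : c.HasLimOne g) (φ : B →ₐ[A] C) : c.HasLimOne (tm b φ ≫ g) := by
  rw [hasLimOne_iff] at hg ⊢
  refine ⟨hg.1.map c φ, fun f => ?_⟩
  rw [ev_comp, AlgHom.comp_apply, hg.2 f, AlgHom.commutes]

theorem IsFixed.hasLim {g : tb b B ⟶ G} (hg : c.IsFixed g) : c.HasLim g :=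
  (hasLim_iff c g).mpr fun n hn f => (isFixed_iff c g).mp hg n hn.ne f

/-- A fixed point with limit one is the unit. -/
theorem eq_one_of_fixed_of_limOne {g : tb b B ⟶ G} (h : c.IsFixed g) (h' : c.HasLimOne g) : g = 1 := by
  refine ev_injective b (AlgHom.ext fun f => ?_)
  rw [ev_one, ← ((hasLimOne_iff c g).mp h').2 f, ← coeff_ev_orb, h, ev_comp, AlgHom.comp_apply, CL_apply,
    LaurentPolynomial.C_apply, if_pos rfl]

/-- A point with a limit is a fixed point times a point with limit one. -/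
theorem exists_fixed_mul_limOne {g : tb b B ⟶ G} (hg : c.HasLim g) :
    ∃ z u : tb b B ⟶ G, c.IsFixed z ∧ c.HasLimOne u ∧ g = z * u := by
  obtain ⟨h, hh⟩ := hg
  let z := tm b ((Polynomial.aeval (0 : B)).restrictScalars A) ≫ h
  have hz : c.IsFixed z := (isFixed_iff c z).mpr fun n hn f => by
    rw [ev_eval_zero c hh, proj_proj, if_neg hn.symm, map_zero]
  refine ⟨z, z⁻¹ * g, hz, ?_, by simp⟩
  let k : B →ₐ[A] Polynomial B := (Polynomial.CAlgHom (R := B)).restrictScalars A
  have e1 : ((Polynomial.toLaurentAlg (R := B)).restrictScalars A).comp k = CL :=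
    AlgHom.ext fun x => Polynomial.toLaurent_C x
  have e2 : ((Polynomial.aeval (0 : B)).restrictScalars A).comp k = AlgHom.id A B :=
    AlgHom.ext fun x => Polynomial.aeval_C _ x
  refine ⟨(tm b k ≫ z)⁻¹ * h, ?_, ?_⟩
  · rw [tm_mul, tm_inv, hh, orb_mul, orb_inv, hz, ← Category.assoc, tm_comp, e1]
  · rw [tm_mul, tm_inv, ← Category.assoc, tm_comp, e2, tm_id, Category.id_comp]
    exact inv_mul_cancel z

end Cochar

end Groth.Agent.RedCell22
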