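import Groth.Agent.RedCell22.Generation

/-!
# Points of a split group over a local ring
-/

set_option autoImplicit false
set_option linter.unusedSectionVars false
set_option linter.style.haveILetI false

universe u

open CategoryTheory CategoryTheory.Limits AlgebraicGeometry MonoidalCategory CartesianMonoidalCategory
open MonObj GrpObj

noncomputable section

namespace Groth.Agent.RedCell22

variable {S : Scheme.{u}} {G : Over S} [GrpObj G] [IsAffineHom G.hom] {D : Red.SplitRed G} {n m : ℕ}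
variable {A : Type u} [CommRing A] [IsLocalRing A] {b : Spec (CommRingCat.of A) ⟶ S}

/-- The geometric closed fibre of a local ring. -/
abbrev ClosedGeom (A : Type u) [CommRing A] [IsLocalRing A] : Type u := AlgebraicClosure (IsLocalRing.ResidueField A)

theorem closedGeom_apply (x : A) :
    algebraMap A (ClosedGeom A) x =
      algebraMap (IsLocalRing.ResidueField A) (ClosedGeom A) (IsLocalRing.residue A x) :=
  (IsScalarTower.algebraMap_apply A (IsLocalRing.ResidueField A) (ClosedGeom A) x)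

/-- A point over a local ring whose geometric closed point is in the cell is a point of the cell. -/
theorem exists_cellPt_local {f : D.M →+ ℤ} {l : Fin n → D.idx} {l' : Fin m → D.idx} (hl : PosList D (-f) l)
    (hl' : PosList D f l') (hreg : ∀ a, f (D.P.root a) ≠ 0) (g : tb b A ⟶ G)
    (h : InOmega D f (tm b (Algebra.ofId A (ClosedGeom A)) ≫ g)) :
    ∃ p : tb b A ⟶ CellSrc D n m, p ≫ RedSub.cellMap D l l' = g := by
  haveI := isOpenImmersion_cell hl hl' hreg
  let cm := RedSub.cellMap D l l'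
  obtain ⟨p, hp⟩ := h.exists_cellPt hl hl'
  haveI : IsLocalHom (algebraMap A (ClosedGeom A)) := ⟨fun x hx => by
    by_contra hnu
    rw [closedGeom_apply, show IsLocalRing.residue A x = 0 from
      (IsLocalRing.residue_eq_zero_iff x).mpr hnu, map_zero] at hx
    exact not_isUnit_zero hx⟩
  have hc : g.left (IsLocalRing.closedPoint A) ∈ cm.left.opensRange := by
    have e : (tm b (Algebra.ofId A (ClosedGeom A))).left (IsLocalRing.closedPoint (ClosedGeom A)) =
        IsLocalRing.closedPoint A := IsLocalRing.comap_closedPoint (algebraMap A (ClosedGeom A))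
    rw [← e]
    show (tm b (Algebra.ofId A (ClosedGeom A)) ≫ g).left (IsLocalRing.closedPoint (ClosedGeom A)) ∈ _
    rw [← hp]
    exact ⟨_, rfl⟩
  have hr : Set.range g.left ⊆ Set.range cm.left := by
    rintro _ ⟨z, rfl⟩
    exact ((IsLocalRing.specializes_closedPoint z).map g.left.continuous).mem_open cm.left.opensRange.2 hc
  exact ⟨Over.homMk (IsOpenImmersion.lift cm.left g.left hr)
      (by rw [← Over.w cm, IsOpenImmersion.lift_fac_assoc, Over.w]),
    Over.OverMorphism.ext (IsOpenImmersion.lift_fac _ _ _)⟩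

/-- A point inducing a simple reflection, times one element, is in the cell of the root, over any ring. -/
theorem exists_refl_decomp {A : Type u} [CommRing A] {b : Spec (CommRingCat.of A) ⟶ S} (base : D.P.Base) {a : D.idx}
    (ha : a ∈ base.support) {nr : 𝟙_ (Over S) ⟶ G} (hn : IsReflPt D a nr) :
    ∃ (y : A) (t : tb b A ⟶ D.T) (x : A), (toUnit _ ≫ nr) * ua D (D.P.reflectionPerm a a) 1 =
      ua D (D.P.reflectionPerm a a) y * tG D t * ua D a x := by
  classical
  obtain ⟨φ, hφ⟩ := exists_form_base D.P base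
  obtain ⟨f, hfa, hf, hp, hm⟩ := exists_simple_form base ha hφ
  obtain ⟨mp, lp, hlp⟩ := exists_posList D φ
  obtain ⟨mn, ln, hln⟩ := exists_posList D (-φ)
  have hreg : ∀ r, φ (D.P.root r) ≠ 0 := fun r => (mem_posRoots_iff D.P base hφ r).2.2
  haveI := isOpenImmersion_cell hln hlp hreg
  let cm := RedSub.cellMap D ln lp
  let g : tb b A ⟶ G := (toUnit _ ≫ nr) * ua D (D.P.reflectionPerm a a) 1
  have hr : Set.range g.left ⊆ Set.range cm.left := by
    rintro _ ⟨z, rfl⟩
    obtain ⟨K, _, _, β, q, rfl⟩ := exists_geom_point (X := tb b A) z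
    obtain ⟨R, hRp, hRm, hRT, hRN⟩ := exists_rank1 (b := β) (K := K) base a hn
    have h1 := inOmega_of_inCell hp hm (hφ a ha) R hRp hRm hRT (Cochar.hasLimOne_one _) (Cochar.hasLimOne_one _)
      (R.exists_cell_N_m (w := (1 : K)) one_ne_zero)
    rw [_root_.one_mul, _root_.mul_one, hRN, hRm] at h1
    have e : q ≫ g = (toUnit _ ≫ nr) * ua D (D.P.reflectionPerm a a) 1 := by
      rw [MonObj.comp_mul, ← Category.assoc, toUnit_unique (q ≫ toUnit _) (toUnit _)]
      congr 1
      rw [ua, ua, ← Category.assoc]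
      congr 1
      refine GrpSchLib.GaPts.gaFn_injective ?_
      show Red.gaFn (q ≫ gaPt 1) = Red.gaFn (gaPt 1)
      rw [GrpSchLib.GaPts.gaFn_comp, gaPt, gaPt, GrpSchLib.GaPts.gaFn_ptOfFn, GrpSchLib.GaPts.gaFn_ptOfFn, map_one,
        map_one, map_one]
    obtain ⟨p, hp'⟩ := h1.exists_cellPt hln hlp
    show (q ≫ g).left _ ∈ _
    rw [e, ← hp']
    exact ⟨p.left _, rfl⟩
  let p : tb b A ⟶ CellSrc D mn mp := Over.homMk (IsOpenImmersion.lift cm.left g.left hr)
    (by rw [← Over.w cm, IsOpenImmersion.lift_fac_assoc, Over.w])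
  have hp' : p ≫ cm = g := Over.OverMorphism.ext (IsOpenImmersion.lift_fac _ _ _)
  obtain ⟨y, t, x, hpe⟩ := exists_cellPt D p
  rw [hpe, cellPt_cellMap] at hp'
  have hfna : f (D.P.root (D.P.reflectionPerm a a)) = 0 := by
    rw [Groth.Agent.RootData.root_neg, map_neg, hfa, neg_zero]
  have hfix : (lam D f).IsFixed g := (hn.fixed hfa).mul (fixed_ua D hfna 1)
  rw [← hp', cellWord, Cochar.IsFixed, Cochar.orb_mul, Cochar.orb_mul, orb_word, orb_word,
    show (lam D f).orb (tG D t) = tm b CL ≫ tG D t from fixed_tG D f t, tm_mul, tm_mul, word_map, word_map,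
    show ∀ t' : tb b A ⟶ D.T, tm b (CL (A := A) (B := A)) ≫ tG D t' = tG D (tm b CL ≫ t') from
      fun t' => (Category.assoc _ _ _).symm] at hfix
  obtain ⟨hy, -, hx⟩ := cellWord_injective hln hlp hfix
  have hna : D.P.root (D.P.reflectionPerm a a) = -D.P.root a := Groth.Agent.RootData.root_neg D.P a
  have h0 : ∀ (r : D.idx) (c : A), r ≠ a → r ≠ D.P.reflectionPerm a a →
      LaurentPolynomial.C c * LaurentPolynomial.T (f (D.P.root r)) = (CL (A := A) (B := A)) c → c = 0 := by
    intro r c h1 h2 h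
    have := congrArg (fun q => q.coeff 0) h
    rw [CL_apply, ← LaurentPolynomial.single_eq_C_mul_T, AddMonoidAlgebra.coeff_single,
      Finsupp.single_eq_of_ne (hf r h1 fun h3 => h2 (D.P.root.injective (h3.trans hna.symm))).symm,
      ← LaurentPolynomial.single_eq_C, AddMonoidAlgebra.coeff_single, Finsupp.single_eq_same] at this
    exact this.symm
  obtain ⟨i, hi⟩ := (hlp.mem_iff a).mpr (hφ a ha)
  obtain ⟨j, hj⟩ := (hln.mem_iff (D.P.reflectionPerm a a)).mpr
    (by rw [AddMonoidHom.neg_apply, hna, map_neg, neg_neg]; exact hφ a ha)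
  have hxs : x = Pi.single i (x i) := funext fun k => by
    by_cases hk : k = i
    · subst hk; rw [Pi.single_eq_same]
    rw [Pi.single_eq_of_ne hk]
    refine h0 (lp k) _ (fun h => hk (hlp.inj (h.trans hi.symm))) (fun h => ?_) (congrFun hx k)
    have := hlp.pos D k
    rw [h, hna, map_neg] at this
    linarith [hφ a ha]
  have hys : y = Pi.single j (y j) := funext fun k => by
    by_cases hk : k = j
    · subst hk; rw [Pi.single_eq_same]
    rw [Pi.single_eq_of_ne hk]
    refine h0 (ln k) _ (fun h => ?_) (fun h => hk (hln.inj (h.trans hj.symm))) (congrFun hy k)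
    have := hln.pos D k
    rw [h, AddMonoidHom.neg_apply] at this
    linarith [hφ a ha]
  refine ⟨y j, t, x i, ?_⟩
  show g = _
  rw [← hp', cellWord, hxs, hys, word_single, word_single, hi, hj, Pi.single_eq_same, Pi.single_eq_same,
    _root_.mul_assoc]

/-- Over a local ring a point inducing a simple reflection is a product in its two root groups and the torus. -/
theorem refl_mem {H : Subgroup (tb b A ⟶ G)} (base : D.P.Base) {a : D.idx} (ha : a ∈ base.support)
    (hT : ∀ t : tb b A ⟶ D.T, tG D t ∈ H)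
    (hu : ∀ x : A, ua D a x ∈ H ∧ ua D (D.P.reflectionPerm a a) x ∈ H) {nr : 𝟙_ (Over S) ⟶ G}
    (hn : IsReflPt D a nr) : (toUnit _ ≫ nr : tb b A ⟶ G) ∈ H := by
  obtain ⟨y, t, x, h⟩ := exists_refl_decomp (b := b) base ha hn
  have hg := mul_mem (mul_mem (mul_mem (hu y).2 (hT t)) (hu x).1) (inv_mem (hu 1).2)
  rwa [← h, mul_inv_cancel_right] at hg

/-- Over a local ring the torus and the simple root groups generate. -/
theorem eq_top_of_simple {H : Subgroup (tb b A ⟶ G)} (base : D.P.Base) (hT : ∀ t : tb b A ⟶ D.T, tG D t ∈ H)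
    (hs : ∀ a ∈ base.support, ∀ x : A, ua D a x ∈ H ∧ ua D (D.P.reflectionPerm a a) x ∈ H) : H = ⊤ := by
  haveI := isReduced_of_base base
  have hneg : ∀ r : D.idx, D.P.reflectionPerm (D.P.reflectionPerm r r) (D.P.reflectionPerm r r) = r := fun r =>
    D.P.root.injective (by rw [Groth.Agent.RootData.root_neg, Groth.Agent.RootData.root_neg, neg_neg])
  choose nr hn using D.refl
  have hNH : ∀ a ∈ base.support, (toUnit _ ≫ nr a : tb b A ⟶ G) ∈ H := fun a ha => refl_mem base ha hT (hs a ha) (hn a)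
  have hall : ∀ r : D.idx, (∀ x : A, ua D r x ∈ H) ∧ ∀ x : A, ua D (D.P.reflectionPerm r r) x ∈ H := fun r => by
    refine base.induction_reflect r (p := fun i => (∀ x : A, ua D i x ∈ H) ∧ ∀ x : A, ua D (D.P.reflectionPerm i i) x ∈ H)
      (fun i hi => ⟨hi.2, by rw [hneg]; exact hi.1⟩) (fun i hi => ⟨fun x => (hs i hi x).1, fun x => (hs i hi x).2⟩)
      fun i j hi hj => ?_
    have key : ∀ c : D.idx, (∀ x : A, ua D c x ∈ H) → ∀ x : A, ua D (D.P.reflectionPerm j c) x ∈ H := by
      intro c hc x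
      obtain ⟨e, he⟩ := exists_conj_refl (A := A) (b := b) base (hn j) c
      have h1 := he A ((↑e⁻¹ : A) * x)
      rw [Algebra.algebraMap_self, RingHom.id_apply, Units.mul_inv_cancel_left] at h1
      rw [← h1]
      exact mul_mem (mul_mem (hNH j hj) (hc _)) (inv_mem (hNH j hj))
    refine ⟨key i hi.1, fun x => ?_⟩
    rw [show D.P.reflectionPerm (D.P.reflectionPerm j i) (D.P.reflectionPerm j i) =
      D.P.reflectionPerm j (D.P.reflectionPerm i i) from D.P.root.injective (by
        rw [Groth.Agent.RootData.root_neg, D.P.root_reflectionPerm j, D.P.root_reflectionPerm j,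
          Groth.Agent.RootData.root_neg, map_neg])]
    exact key _ hi.2 x
  obtain ⟨φ, hφ⟩ := exists_form_base D.P base
  obtain ⟨m, lp, hlp⟩ := exists_posList D φ
  obtain ⟨n, ln, hln⟩ := exists_posList D (-φ)
  refine eq_top_iff.mpr fun g _ => ?_
  let W := Submonoid.closure {z : 𝟙_ (Over S) ⟶ G | ∃ a ∈ base.support, z = nr a}
  obtain ⟨w, hw, hO⟩ := exists_translate (b := b) (K := ClosedGeom A) base hφ W (fun a ha h y hh => by
    rcases inOmega_mul_root_refl base ha hφ (hn a) hh y with h1 | h1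
    · exact ⟨1, one_mem W, by rw [MonObj.comp_one, inv_one, _root_.one_mul]; exact h1⟩
    · exact ⟨nr a, Submonoid.subset_closure ⟨a, ha, rfl⟩, h1⟩) (tm b (Algebra.ofId A (ClosedGeom A)) ≫ g)
  have hwH : (toUnit _ ≫ w : tb b A ⟶ G) ∈ H := by
    clear hO
    induction hw using Submonoid.closure_induction with
    | mem z hz => obtain ⟨a, ha, rfl⟩ := hz; exact hNH a ha
    | one => rw [MonObj.comp_one]; exact one_mem H
    | mul y z _ _ hy hz => rw [MonObj.comp_mul]; exact mul_mem hy hz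
  obtain ⟨p, hp⟩ := exists_cellPt_local hln hlp (fun r => (mem_posRoots_iff D.P base hφ r).2.2)
    ((toUnit _ ≫ w)⁻¹ * g) (by rw [tm_mul, tm_inv, toUnit_map]; exact hO)
  obtain ⟨y, t, x, rfl⟩ := exists_cellPt D p
  rw [cellPt_cellMap] at hp
  have hword : ∀ {q : ℕ} (l : Fin q → D.idx) (z : Fin q → A), (word D l z : tb b A ⟶ G) ∈ H := fun l z =>
    list_prod_mem fun g hg => by
      obtain ⟨k, rfl⟩ := (List.mem_ofFn' _ _).mp hg
      exact (hall (l k)).1 _
  have hc : (cellWord D ln lp y t x : tb b A ⟶ G) ∈ H := mul_mem (hword _ _) (mul_mem (hT t) (hword _ _))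
  rw [hp] at hc
  simpa using mul_mem hwH hc

end Groth.Agent.RedCell22

namespace Groth.Agent.RedCell22

/-- Sections over an affine base as ring-valued points. -/
theorem exists_section_equiv (A : Type u) [CommRing A] :
    ∃ jj : 𝟙_ (Over (Spec (CommRingCat.of A))) ⟶ tb (𝟙 (Spec (CommRingCat.of A))) A,
      toUnit _ ≫ jj = 𝟙 (tb (𝟙 (Spec (CommRingCat.of A))) A) := by
  have e : Spec.map (CommRingCat.ofHom (algebraMap A A)) ≫ 𝟙 (Spec (CommRingCat.of A)) = 𝟙 _ := by
    rw [Algebra.algebraMap_self, CommRingCat.ofHom_id, Spec.map_id, Category.id_comp]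
  refine ⟨Over.homMk (𝟙 _) (by
    show 𝟙 _ ≫ Spec.map (CommRingCat.ofHom (algebraMap A A)) ≫ 𝟙 (Spec (CommRingCat.of A)) = _
    rw [e, Category.id_comp]; rfl), ?_⟩
  ext1
  exact (Category.comp_id _).trans e

/-- Sections of a split group over a local ring generated by the simple root groups and a subgroup containing the torus. -/
theorem sections_eq_top' {A : Type u} [CommRing A] [IsLocalRing A] {G : Over (Spec (CommRingCat.of A))} [GrpObj G]
    [IsAffineHom G.hom] {D : Red.SplitRed G} (base : D.P.Base)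
    {H : Subgroup (𝟙_ (Over (Spec (CommRingCat.of A))) ⟶ G)}
    (hs : ∀ a ∈ base.support, ∀ x : 𝟙_ _ ⟶ Red.Ga (Spec (CommRingCat.of A)),
      x ≫ D.u a ∈ H ∧ x ≫ D.u (D.P.reflectionPerm a a) ∈ H)
    (hT : (∀ t : 𝟙_ _ ⟶ D.T, t ≫ D.i ∈ H) ∨
      ∀ H' : Subgroup (tb (𝟙 (Spec (CommRingCat.of A))) A ⟶ G),
        (∀ a ∈ base.support, ∀ x : A, ua D a x ∈ H' ∧ ua D (D.P.reflectionPerm a a) x ∈ H') → ∀ t, tG D t ∈ H') :
    H = ⊤ := by
  obtain ⟨jj, hjj⟩ := exists_section_equiv A
  let pre : (𝟙_ (Over (Spec (CommRingCat.of A))) ⟶ G) →* (tb (𝟙 (Spec (CommRingCat.of A))) A ⟶ G) :=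
    MonoidHom.mk' (fun s => toUnit _ ≫ s) fun s s' => MonObj.comp_mul _ _ _
  have hmem : ∀ {X : Over (Spec (CommRingCat.of A))} (z : tb (𝟙 (Spec (CommRingCat.of A))) A ⟶ X) (v : X ⟶ G),
      (jj ≫ z) ≫ v ∈ H → z ≫ v ∈ H.map pre := fun z v h =>
    ⟨_, h, by show toUnit _ ≫ (jj ≫ z) ≫ v = z ≫ v; simp only [← Category.assoc, hjj, Category.id_comp]⟩
  have hu : ∀ a ∈ base.support, ∀ x : A, ua D a x ∈ H.map pre ∧ ua D (D.P.reflectionPerm a a) x ∈ H.map pre :=
    fun a ha x => ⟨hmem _ _ (hs a ha _).1, hmem _ _ (hs a ha _).2⟩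
  have htop : H.map pre = ⊤ :=
    eq_top_of_simple base (fun t => hT.elim (fun h => hmem t _ (h _)) fun h => h _ hu t) hu
  refine eq_top_iff.mpr fun s _ => ?_
  obtain ⟨s', hs', he⟩ : pre s ∈ H.map pre := htop ▸ Subgroup.mem_top _
  have h : jj ≫ toUnit _ = 𝟙 (𝟙_ (Over (Spec (CommRingCat.of A)))) := toUnit_unique _ _
  have he' : jj ≫ (toUnit _ ≫ s') = jj ≫ (toUnit _ ≫ s) := congrArg (jj ≫ ·) he
  rw [← Category.assoc, ← Category.assoc, h, Category.id_comp, Category.id_comp] at he'
  exact he' ▸ hs'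

/-- Sections of a split group over a local ring generated by the torus and the simple root groups. -/
theorem sections_eq_top {A : Type u} [CommRing A] [IsLocalRing A] {G : Over (Spec (CommRingCat.of A))} [GrpObj G]
    [IsAffineHom G.hom] {D : Red.SplitRed G} (base : D.P.Base)
    {H : Subgroup (𝟙_ (Over (Spec (CommRingCat.of A))) ⟶ G)} (hT : ∀ t : 𝟙_ _ ⟶ D.T, t ≫ D.i ∈ H)
    (hs : ∀ a ∈ base.support, ∀ x : 𝟙_ _ ⟶ Red.Ga (Spec (CommRingCat.of A)),
      x ≫ D.u a ∈ H ∧ x ≫ D.u (D.P.reflectionPerm a a) ∈ H) : H = ⊤ :=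
  sections_eq_top' base hs (Or.inl hT)

end Groth.Agent.RedCell22
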