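import Groth.Agent.RedCell22.SimpleGen
import Groth.Agent.RedCell22.HomExt
import Groth.Agent.RedCell22.Orders

/-!
# Homomorphisms are determined on the torus and the simple root groups
-/

set_option autoImplicit false
set_option linter.unusedSectionVars false
set_option linter.style.haveILetI false

universe u

open CategoryTheory CategoryTheory.Limits AlgebraicGeometry MonoidalCategory CartesianMonoidalCategory
open MonObj GrpObj

noncomputable section

namespace Groth.Agent.RedCell22

section Datum

variable {idx M N : Type} [AddCommGroup M] [AddCommGroup N] {P : RootPairing idx ℤ M N}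

theorem root_neg_perm (a : idx) : P.root (P.reflectionPerm a a) = -P.root a := by
  rw [P.root_reflectionPerm, P.reflection_apply_self]

theorem coroot_neg_perm (a : idx) : P.coroot (P.reflectionPerm a a) = -P.coroot a := by
  rw [P.coroot_reflectionPerm, P.coreflection_apply_self]

theorem closure_neg_image {X : Type} [AddCommGroup X] (s : Set X) {x : X} :
    x ∈ AddSubmonoid.closure ((fun y => -y) '' s) ↔ -x ∈ AddSubmonoid.closure s := by
  have h : ∀ (t : Set X) (y : X), y ∈ AddSubmonoid.closure t → -y ∈ AddSubmonoid.closure ((fun z => -z) '' t) :=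
    fun t y hy => by
      induction hy using AddSubmonoid.closure_induction with
      | mem z hz => exact AddSubmonoid.subset_closure ⟨z, hz, rfl⟩
      | zero => rw [neg_zero]; exact zero_mem _
      | add y z _ _ hy hz => rw [neg_add]; exact add_mem hy hz
  constructor
  · intro hx
    have := h _ _ hx
    rwa [Set.image_image, show (fun z : X => - -z) = id from funext neg_neg, Set.image_id] at this
  · intro hx
    have := h _ _ hx
    rwa [neg_neg] at this

/-- The opposite base. -/
def negBase (b : P.Base) : P.Base := by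
  classical
  exact {
    support := b.support.image fun a => P.reflectionPerm a a
    linearIndepOn_root := by
      rw [Finset.coe_image]
      refine LinearIndepOn.image_of_comp _ _ ?_
      have h := (b.linearIndepOn_root).units_smul fun _ => (-1 : ℤˣ)
      show LinearIndependent ℤ _
      convert h using 1
      · funext a
        simp [root_neg_perm, Units.neg_smul]
      · rfl
    linearIndepOn_coroot := by
      rw [Finset.coe_image]
      refine LinearIndepOn.image_of_comp _ _ ?_
      have h := (b.linearIndepOn_coroot).units_smul fun _ => (-1 : ℤˣ)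
      show LinearIndependent ℤ _
      convert h using 1
      · funext a
        simp [coroot_neg_perm, Units.neg_smul]
      · rfl
    root_mem_or_neg_mem := fun i => by
      have e : P.root '' ↑(b.support.image fun a => P.reflectionPerm a a) =
          (fun y => -y) '' (P.root '' (b.support : Set idx)) := by
        rw [Finset.coe_image, Set.image_image, Set.image_image]
        exact Set.image_congr fun a _ => root_neg_perm a
      rw [e, closure_neg_image, closure_neg_image, neg_neg]
      exact (b.root_mem_or_neg_mem i).symm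
    coroot_mem_or_neg_mem := fun i => by
      have e : P.coroot '' ↑(b.support.image fun a => P.reflectionPerm a a) =
          (fun y => -y) '' (P.coroot '' (b.support : Set idx)) := by
        rw [Finset.coe_image, Set.image_image, Set.image_image]
        exact Set.image_congr fun a _ => coroot_neg_perm a
      rw [e, closure_neg_image, closure_neg_image, neg_neg]
      exact (b.coroot_mem_or_neg_mem i).symm }

theorem mem_negBase_support (b : P.Base) {a : idx} :
    a ∈ (negBase b).support ↔ ∃ c ∈ b.support, P.reflectionPerm c c = a := by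
  simp [negBase]

theorem posRoots_negBase (b : P.Base) : RedSub.posRoots P (negBase b) = RedSub.negRoots P b := by
  classical
  ext r
  show P.root r ∈ AddSubmonoid.closure (P.root '' ↑(negBase b).support) ↔
    -P.root r ∈ AddSubmonoid.closure (P.root '' (b.support : Set idx))
  rw [← closure_neg_image, Set.image_image]
  simp only [negBase, Finset.coe_image, Set.image_image, root_neg_perm]

end Datum

variable {S : Scheme.{u}} {G H K : Over S} [GrpObj G] [GrpObj H] [GrpObj K]

/-- The homomorphisms to the target of a monomorphic subgroup. -/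
theorem exists_eqSub (f g : G ⟶ H) [IsMonHom f] [IsMonHom g] :
    ∃ (K : Over S) (_ : GrpObj K) (k : K ⟶ G), IsMonHom k ∧ Mono k ∧ k ≫ f = k ≫ g ∧
      ∀ (X : Over S) (x : X ⟶ G), x ≫ f = x ≫ g → ∃ y : X ⟶ K, y ≫ k = x := by
  let W := equalizer.ι f g
  have hw : W ≫ f = W ≫ g := equalizer.condition f g
  have hfac : ∀ (X : Over S) (x : X ⟶ G), x ≫ f = x ≫ g → ∃ y : X ⟶ equalizer f g, y ≫ W = x := fun X x hx =>
    ⟨equalizer.lift x hx, equalizer.lift_ι x hx⟩
  obtain ⟨η', hη⟩ := hfac _ (1 : 𝟙_ (Over S) ⟶ G) (by rw [MonObj.one_comp, MonObj.one_comp])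
  obtain ⟨μ', hμ⟩ := hfac _ ((fst _ _ ≫ W) * (snd _ _ ≫ W)) (by
    simp only [MonObj.mul_comp, Category.assoc, hw])
  obtain ⟨i', hi⟩ := hfac _ W⁻¹ (by
    have h1 : ∀ (φ : G ⟶ H) [IsMonHom φ], W⁻¹ ≫ φ = (W ≫ φ)⁻¹ := fun φ _ =>
      map_inv (MonoidHom.mk' (fun q : equalizer f g ⟶ G => q ≫ φ) fun _ _ => MonObj.mul_comp _ _ _) W
    rw [h1 f, h1 g, hw])
  obtain ⟨hG, hM⟩ := GrpSchLib.exists_grpObj_of_mono W η' (hη.trans (by rfl)) μ' hμ i' hi
  exact ⟨_, hG, W, hM, inferInstance, hw, hfac⟩

variable {D : Red.SplitRed G} [IsAffineHom G.hom]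

/-- Agreement on the torus and all root groups of a base and its opposite gives equality. -/
theorem hom_eq_of_simple (b : D.P.Base) (f g : G ⟶ H) [IsMonHom f] [IsMonHom g] (hT : D.i ≫ f = D.i ≫ g)
    (hU : ∀ a : D.idx, a ∈ b.support → D.u a ≫ f = D.u a ≫ g ∧
      D.u (D.P.reflectionPerm a a) ≫ f = D.u (D.P.reflectionPerm a a) ≫ g) : f = g := by
  classical
  obtain ⟨K, _, k, _, _, hk, hfac⟩ := exists_eqSub f g
  have hall : ∀ r : D.idx, D.u r ≫ f = D.u r ≫ g := by
    intro r
    have key : ∀ b' : D.P.Base, (∀ a ∈ b'.support, D.u a ≫ f = D.u a ≫ g) → r ∈ RedSub.posRoots D.P b' →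
        D.u r ≫ f = D.u r ≫ g := fun b' hb' hr => by
      obtain ⟨v, hv⟩ := exists_lift_posRoot (h := k) b' (fun a ha => hfac _ _ (hb' a ha)) hr
      rw [← hv, Category.assoc, Category.assoc, hk]
    rcases b.root_mem_or_neg_mem r with h | h
    · exact key b (fun a ha => (hU a ha).1) h
    · refine key (negBase b) (fun a ha => ?_) (by rw [posRoots_negBase]; exact h)
      obtain ⟨c, hc, rfl⟩ := (mem_negBase_support b).mp ha
      exact (hU c hc).2
  obtain ⟨φ, hφ⟩ := exists_form_base D.P b
  obtain ⟨n, l, hl⟩ := exists_posList D (-φ)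
  obtain ⟨m, l', hl'⟩ := exists_posList D φ
  refine hom_eq_of_cell hl hl' (fun a => (mem_posRoots_iff D.P b hφ a).2.2) f g (hom_ext_of_tests fun A _ b' p => ?_)
  obtain ⟨y, t, x, rfl⟩ := exists_cellPt D p
  have hw : ∀ {q : ℕ} (d : Fin q → D.idx) (z : Fin q → A), (word D d z : tb b' A ⟶ G) ≫ f = word D d z ≫ g := by
    intro q d z
    let F := MonoidHom.mk' (fun w : tb b' A ⟶ G => w ≫ f) fun _ _ => MonObj.mul_comp _ _ _
    let F' := MonoidHom.mk' (fun w : tb b' A ⟶ G => w ≫ g) fun _ _ => MonObj.mul_comp _ _ _
    show F (word D d z) = F' (word D d z)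
    rw [word, map_list_prod, map_list_prod, List.map_ofFn, List.map_ofFn]
    refine congrArg List.prod (congrArg List.ofFn (funext fun i => ?_))
    show (gaPt _ ≫ D.u (d i)) ≫ f = (gaPt _ ≫ D.u (d i)) ≫ g
    rw [Category.assoc, Category.assoc, hall]
  rw [← Category.assoc, ← Category.assoc, cellPt_cellMap, cellWord, MonObj.mul_comp, MonObj.mul_comp,
    MonObj.mul_comp, MonObj.mul_comp, hw, hw, tG, Category.assoc, Category.assoc, hT]

end Groth.Agent.RedCell22
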