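import Mathlib.Algebra.Group.Hom.Defs
import Mathlib.Data.List.OfFn
import Mathlib.Algebra.BigOperators.Group.List.Basic
import Mathlib.Data.Fin.VecNotation
import Mathlib.Data.Fintype.Card
import Mathlib.Tactic.Group

/-!
# Ordered products of homomorphisms out of a triangular group law
-/

set_option autoImplicit false

universe u v w

namespace Groth.Agent.RedCell22.ProdHom

variable {P : Type u} [Group P] {Gr : Type v} [Group Gr] {Hr : Type w} [Group Hr]

/-- The ordered product. -/
def wd {N : ℕ} (α : Fin N → (P →* Gr)) (x : Fin N → P) : Gr := (List.ofFn fun k => α k (x k)).prod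

/-- Tuples trivial before a place. -/
def Supp {N : ℕ} (i : ℕ) (x : Fin N → P) : Prop := ∀ k : Fin N, (k : ℕ) < i → x k = 1

theorem wd_one {N : ℕ} (α : Fin N → (P →* Gr)) : wd α (fun _ => 1) = 1 :=
  List.prod_eq_one fun g hg => by
    obtain ⟨k, rfl⟩ := List.mem_ofFn.mp hg
    exact map_one _

theorem wd_split : ∀ {N : ℕ} (α : Fin N → (P →* Gr)) (x : Fin N → P) (i : Fin N), Supp i x →
    wd α x = α i (x i) * wd α (Function.update x i 1)
  | N + 1, α, x, i, hx => by
    induction i using Fin.cases with
    | zero =>
      rw [wd, wd, List.ofFn_succ, List.ofFn_succ, List.prod_cons, List.prod_cons, Function.update_self, map_one,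
        one_mul]
      congr 2
    | succ i =>
      have h0 : x 0 = 1 := hx 0 (by simp)
      have ih := wd_split (fun k => α k.succ) (fun k => x k.succ) i fun k hk => hx k.succ (by simpa using hk)
      rw [wd, wd, List.ofFn_succ, List.ofFn_succ, List.prod_cons, List.prod_cons, h0, map_one, one_mul,
        Function.update_of_ne (Fin.succ_ne_zero i).symm, h0, map_one, one_mul]
      refine ih.trans ?_
      congr 1
      show wd _ _ = _
      rw [wd]
      congr 2
      funext k
      rcases eq_or_ne k i with rfl | hk
      · simp
      · rw [Function.update_of_ne hk, Function.update_of_ne (fun e => hk (Fin.succ_injective _ e))]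

theorem wd_single {N : ℕ} (α : Fin N → (P →* Gr)) (i : Fin N) (a : P) : wd α (Pi.mulSingle i a) = α i a := by
  rw [wd_split α _ i fun k hk => Pi.mulSingle_eq_of_ne (fun e => (ne_of_lt hk) (congrArg Fin.val e)) _,
    Pi.mulSingle_eq_same]
  have : Function.update (Pi.mulSingle i a : Fin N → P) i 1 = fun _ => 1 := by
    funext k
    rcases eq_or_ne k i with rfl | hk
    · simp
    · rw [Function.update_of_ne hk, Pi.mulSingle_eq_of_ne hk]
  rw [this, wd_one, mul_one]

variable {N : ℕ} (α : Fin N → (P →* Gr)) (β : Fin N → (P →* Hr))

/-- A triangular product map is multiplicative when it respects the conjugation relations. -/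
theorem mul_of_relations (hinj : Function.Injective (wd α))
    (hmul : ∀ (i : ℕ) (x y : Fin N → P), Supp i x → Supp i y → ∃ z, Supp i z ∧ wd α z = wd α x * wd α y)
    (hconj : ∀ (i j : Fin N), i < j → ∀ a c : P, ∃ z, Supp i z ∧ z i = a ∧
      wd α z = α j c * α i a * (α j c)⁻¹ ∧ wd β z = β j c * β i a * (β j c)⁻¹)
    (x y z : Fin N → P) (h : wd α z = wd α x * wd α y) : wd β z = wd β x * wd β y := by
  have key : ∀ (m i : ℕ), i + m = N → ∀ x y z : Fin N → P, Supp i x → Supp i y →
      wd α z = wd α x * wd α y → wd β z = wd β x * wd β y := by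
    intro m
    induction m with
    | zero =>
      intro i hi x y z hx hy h
      have e1 : x = fun _ => 1 := funext fun k => hx k (by omega)
      have e2 : y = fun _ => 1 := funext fun k => hy k (by omega)
      have e3 : z = fun _ => 1 := hinj (by rw [h, e1, e2, wd_one, one_mul])
      rw [e1, e2, e3, wd_one, one_mul]
    | succ m ih =>
      intro i hi x y z hx hy h
      let k₀ : Fin N := ⟨i, by omega⟩
      have IH := ih (i + 1) (by omega)
      have hupd : ∀ x : Fin N → P, Supp i x → Supp (i + 1) (Function.update x k₀ 1) := fun x hx k hk => by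
        rcases eq_or_ne k k₀ with rfl | hne
        · simp
        · rw [Function.update_of_ne hne]
          exact hx k (by have : (k : ℕ) ≠ i := fun e => hne (Fin.ext e); omega)
      have conj : ∀ (m' n : ℕ), n + m' = N → i + 1 ≤ n → ∀ (x' : Fin N → P) (a : P), Supp n x' →
          ∃ w, Supp (i + 1) w ∧ wd α w = (α k₀ a)⁻¹ * wd α x' * α k₀ a ∧
            wd β w = (β k₀ a)⁻¹ * wd β x' * β k₀ a := by
        intro m'
        induction m' with
        | zero =>
          intro n hn _ x' a hx'
          have e1 : x' = fun _ => 1 := funext fun k => hx' k (by omega)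
          exact ⟨fun _ => 1, fun _ _ => rfl, by simp [e1, wd_one], by simp [e1, wd_one]⟩
        | succ m' ih' =>
          intro n hn hin x' a hx'
          let j : Fin N := ⟨n, by omega⟩
          obtain ⟨w₁, hw₁, hw₁α, hw₁β⟩ := ih' (n + 1) (by omega) (by omega) (Function.update x' j 1) a
            fun k hk => by
              rcases eq_or_ne k j with rfl | hne
              · simp
              · rw [Function.update_of_ne hne]
                exact hx' k (by have : (k : ℕ) ≠ n := fun e => hne (Fin.ext e); omega)
          obtain ⟨q, hq, hqa, hqα, hqβ⟩ := hconj k₀ j (show i < n by omega) a (x' j)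
          have qα := wd_split α q k₀ hq
          have qβ := wd_split β q k₀ hq
          rw [hqa] at qα qβ
          have hs : Supp (i + 1) (Pi.mulSingle j (x' j) : Fin N → P) := fun k hk =>
            Pi.mulSingle_eq_of_ne (fun e => by rw [e] at hk; change n < i + 1 at hk; omega) _
          obtain ⟨w₂, hw₂, hw₂α⟩ := hmul (i + 1) _ _ (hupd q hq) hs
          have hw₂β := IH _ _ w₂ (hupd q hq) hs hw₂α
          obtain ⟨w, hw, hwα⟩ := hmul (i + 1) w₂ w₁ hw₂ hw₁
          have hwβ := IH _ _ w hw₂ hw₁ hwα
          rw [wd_single] at hw₂α hw₂β
          have q'α : wd α (Function.update q k₀ 1) = (α k₀ a)⁻¹ * wd α q := by rw [qα]; group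
          have q'β : wd β (Function.update q k₀ 1) = (β k₀ a)⁻¹ * wd β q := by rw [qβ]; group
          refine ⟨w, hw, ?_, ?_⟩
          · rw [hwα, hw₂α, q'α, hqα, hw₁α, wd_split α x' j hx']; group
          · rw [hwβ, hw₂β, q'β, hqβ, hw₁β, wd_split β x' j hx']; group
      obtain ⟨w, hw, hwα, hwβ⟩ := conj m (i + 1) (by omega) le_rfl _ (y k₀) (hupd x hx)
      obtain ⟨v, hv, hvα⟩ := hmul (i + 1) w _ hw (hupd y hy)
      have hvβ := IH _ _ v hw (hupd y hy) hvα
      have hz : z = Function.update v k₀ (x k₀ * y k₀) := hinj (by
        rw [h, wd_split α (Function.update v k₀ (x k₀ * y k₀)) k₀ fun k hk => by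
          rw [Function.update_of_ne (fun e => by rw [e] at hk; change i < i at hk; omega)]
          exact hv k (by change (k : ℕ) < i at hk; omega),
          Function.update_self, Function.update_idem, show Function.update v k₀ 1 = v from
            funext fun k => by
              rcases eq_or_ne k k₀ with rfl | hk
              · rw [Function.update_self, hv _ (show i < i + 1 by omega)]
              · rw [Function.update_of_ne hk],
          hvα, hwα, wd_split α x k₀ hx, wd_split α y k₀ hy, map_mul]
        group)
      rw [hz, wd_split β (Function.update v k₀ (x k₀ * y k₀)) k₀ fun k hk => by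
          rw [Function.update_of_ne (fun e => by rw [e] at hk; change i < i at hk; omega)]
          exact hv k (by change (k : ℕ) < i at hk; omega),
        Function.update_self, Function.update_idem, show Function.update v k₀ 1 = v from
          funext fun k => by
            rcases eq_or_ne k k₀ with rfl | hk
            · rw [Function.update_self, hv _ (show i < i + 1 by omega)]
            · rw [Function.update_of_ne hk],
        hvβ, hwβ, wd_split β x k₀ hx, wd_split β y k₀ hy, map_mul]
      group
  exact key N 0 (zero_add N) x y z (fun k hk => absurd hk (Nat.not_lt_zero _))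
    (fun k hk => absurd hk (Nat.not_lt_zero _)) h

end Groth.Agent.RedCell22.ProdHom
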