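import Groth.Prelude.Def_Red
import Mathlib.AlgebraicGeometry.Morphisms.Affine

/-!
# Ring-valued points of an affine scheme over a base

For a test morphism `b : Spec A ⟶ S` and an `A`-algebra `B`, the points of an affine `S`-scheme `G` over `Spec B` are
the `A`-algebra maps from the ring of functions of `G_A` to `B`.
-/

set_option autoImplicit false

universe u

open CategoryTheory CategoryTheory.Limits AlgebraicGeometry MonoidalCategory CartesianMonoidalCategory
open scoped MonObj

noncomputable section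

namespace Groth.Agent.RedCell22

theorem gsi_map {R R' : CommRingCat.{u}} (φ : R ⟶ R') (z : Γ(Spec R, ⊤)) :
    (Scheme.ΓSpecIso R').hom ((Spec.map φ).appTop z) = φ ((Scheme.ΓSpecIso R).hom z) :=
  congrArg (fun ψ => (ConcreteCategory.hom ψ) z) (Scheme.ΓSpecIso_naturality φ)

theorem isoSpec_inv_appTop_apply (X : Scheme.{u}) [IsAffine X] (f : Γ(X, ⊤)) :
    X.isoSpec.inv.appTop f = (Scheme.ΓSpecIso Γ(X, ⊤)).inv f := by
  have h : X.isoSpec.inv.appTop = (Scheme.ΓSpecIso Γ(X, ⊤)).inv := by
    haveI : IsIso X.isoSpec.hom.appTop := inferInstanceAs (IsIso (X.isoSpec.hom.app ⊤))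
    rw [← cancel_mono X.isoSpec.hom.appTop, ← Scheme.Hom.comp_appTop, X.isoSpec.hom_inv_id]
    simp [Scheme.isoSpec]
  rw [h]

variable {S : Scheme.{u}} {A : Type u} [CommRing A] (b : Spec (CommRingCat.of A) ⟶ S)

/-- An algebra over the test ring, as a scheme over the base. -/
abbrev tb (B : Type u) [CommRing B] [Algebra A B] : Over S :=
  Over.mk (Spec.map (CommRingCat.ofHom (algebraMap A B)) ≫ b)

variable {B C D : Type u} [CommRing B] [Algebra A B] [CommRing C] [Algebra A C] [CommRing D] [Algebra A D]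

/-- An algebra map, as a map of test objects. -/
def tm (φ : B →ₐ[A] C) : tb b C ⟶ tb b B :=
  Over.homMk (Spec.map (CommRingCat.ofHom φ.toRingHom)) (by
    show _ ≫ Spec.map (CommRingCat.ofHom (algebraMap A B)) ≫ b = Spec.map (CommRingCat.ofHom (algebraMap A C)) ≫ b
    rw [← Spec.map_comp_assoc, ← CommRingCat.ofHom_comp]
    congr 3
    exact φ.comp_algebraMap)

theorem tm_left (φ : B →ₐ[A] C) : (tm b φ).left = Spec.map (CommRingCat.ofHom φ.toRingHom) := rfl

theorem tm_id : tm b (AlgHom.id A B) = 𝟙 (tb b B) := by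
  ext1
  rw [tm_left, show (AlgHom.id A B).toRingHom = RingHom.id B from rfl]
  exact Spec.map_id _

theorem tm_comp (φ : B →ₐ[A] C) (ψ : C →ₐ[A] D) : tm b ψ ≫ tm b φ = tm b (ψ.comp φ) := by
  ext1
  rw [Over.comp_left, tm_left, tm_left, tm_left, ← Spec.map_comp, ← CommRingCat.ofHom_comp]
  rfl

variable (G : Over S)

/-- The ring of functions of the base change. -/
abbrev FunRing : Type u := Γ(pullback G.hom b, ⊤)

instance funRingAlgebra : Algebra A (FunRing b G) :=
  ((pullback.snd G.hom b).appTop.hom.comp (Scheme.ΓSpecIso (CommRingCat.of A)).inv.hom).toAlgebra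

variable {G}

/-- A point as a map to the base change. -/
def toBC (g : tb b B ⟶ G) : Spec (CommRingCat.of B) ⟶ pullback G.hom b :=
  pullback.lift g.left (Spec.map (CommRingCat.ofHom (algebraMap A B))) (Over.w g)

theorem toBC_fst (g : tb b B ⟶ G) : toBC b g ≫ pullback.fst G.hom b = g.left := pullback.lift_fst _ _ _

theorem toBC_snd (g : tb b B ⟶ G) :
    toBC b g ≫ pullback.snd G.hom b = Spec.map (CommRingCat.ofHom (algebraMap A B)) := pullback.lift_snd _ _ _

theorem toBC_comp (φ : B →ₐ[A] C) (g : tb b B ⟶ G) :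
    toBC b (tm b φ ≫ g) = Spec.map (CommRingCat.ofHom φ.toRingHom) ≫ toBC b g := by
  apply pullback.hom_ext
  · rw [toBC_fst, Category.assoc, toBC_fst]
    rfl
  · rw [toBC_snd, Category.assoc, toBC_snd, ← Spec.map_comp, ← CommRingCat.ofHom_comp]
    congr 2
    exact φ.comp_algebraMap.symm

/-- The value of functions at a point. -/
def ev (g : tb b B ⟶ G) : FunRing b G →ₐ[A] B where
  toRingHom := (Scheme.ΓSpecIso (CommRingCat.of B)).hom.hom.comp (toBC b g).appTop.hom
  commutes' a := by
    show (Scheme.ΓSpecIso (CommRingCat.of B)).hom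
      ((toBC b g).appTop ((pullback.snd G.hom b).appTop ((Scheme.ΓSpecIso (CommRingCat.of A)).inv a))) = _
    have h := congrArg Scheme.Hom.appTop (toBC_snd b g)
    rw [Scheme.Hom.comp_appTop] at h
    have h' := congrArg (fun ψ => (Scheme.ΓSpecIso (CommRingCat.of B)).hom
      ((ConcreteCategory.hom ψ) ((Scheme.ΓSpecIso (CommRingCat.of A)).inv a))) h
    simp only [CommRingCat.comp_apply] at h'
    rw [h', gsi_map, Iso.inv_hom_id_apply]
    rfl

theorem ev_apply (g : tb b B ⟶ G) (f : FunRing b G) :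
    ev b g f = (Scheme.ΓSpecIso (CommRingCat.of B)).hom ((toBC b g).appTop f) := rfl

theorem ev_comp (φ : B →ₐ[A] C) (g : tb b B ⟶ G) : ev b (tm b φ ≫ g) = φ.comp (ev b g) := by
  ext f
  rw [ev_apply, toBC_comp, Scheme.Hom.comp_appTop, CommRingCat.comp_apply, AlgHom.comp_apply, ev_apply]
  exact congrArg (fun ψ => (ConcreteCategory.hom ψ) ((toBC b g).appTop f))
    (Scheme.ΓSpecIso_naturality (CommRingCat.ofHom φ.toRingHom))

variable [IsAffineHom G.hom]

instance isAffine_bc : IsAffine (pullback G.hom b) := isAffine_of_isAffineHom (pullback.snd G.hom b)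

theorem ev_injective : Function.Injective (ev b : (tb b B ⟶ G) → (FunRing b G →ₐ[A] B)) := by
  intro g g' h
  have e : toBC b g = toBC b g' := ext_of_isAffine (CommRingCat.hom_ext (RingHom.ext fun f =>
    (Scheme.ΓSpecIso (CommRingCat.of B)).commRingCatIsoToRingEquiv.injective (AlgHom.congr_fun h f)))
  ext1
  rw [← toBC_fst b g, e, toBC_fst]

/-- The point with prescribed values. -/
def pt (φ : FunRing b G →ₐ[A] B) : tb b B ⟶ G :=
  Over.homMk (Spec.map (CommRingCat.ofHom φ.toRingHom) ≫ (pullback G.hom b).isoSpec.inv ≫ pullback.fst G.hom b) (by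
    show _ = Spec.map (CommRingCat.ofHom (algebraMap A B)) ≫ b
    rw [Category.assoc, Category.assoc, pullback.condition, ← Category.assoc, ← Category.assoc]
    congr 1
    refine ext_of_isAffine ?_
    refine CommRingCat.hom_ext (RingHom.ext fun x => ?_)
    simp only [Scheme.Hom.comp_appTop, CommRingCat.comp_apply]
    refine (Scheme.ΓSpecIso (CommRingCat.of B)).commRingCatIsoToRingEquiv.injective ?_
    obtain ⟨a, rfl⟩ := (Scheme.ΓSpecIso (CommRingCat.of A)).commRingCatIsoToRingEquiv.symm.surjective x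
    rw [isoSpec_inv_appTop_apply]
    refine (gsi_map _ _).trans (Eq.trans ?_ (gsi_map _ _).symm)
    show φ.toRingHom ((Scheme.ΓSpecIso _).hom ((Scheme.ΓSpecIso _).inv (algebraMap A (FunRing b G) a))) =
      algebraMap A B ((Scheme.ΓSpecIso _).hom ((Scheme.ΓSpecIso _).inv a))
    erw [Iso.inv_hom_id_apply, Iso.inv_hom_id_apply]
    exact φ.commutes a)

theorem ev_pt (φ : FunRing b G →ₐ[A] B) : ev b (pt b φ) = φ := by
  ext f
  have e : toBC b (pt b φ) = Spec.map (CommRingCat.ofHom φ.toRingHom) ≫ (pullback G.hom b).isoSpec.inv := by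
    apply pullback.hom_ext
    · rw [toBC_fst, Category.assoc]
      rfl
    · rw [toBC_snd]
      refine ext_of_isAffine ?_
      refine CommRingCat.hom_ext (RingHom.ext fun x => ?_)
      simp only [Scheme.Hom.comp_appTop, CommRingCat.comp_apply]
      refine (Scheme.ΓSpecIso (CommRingCat.of B)).commRingCatIsoToRingEquiv.injective ?_
      obtain ⟨a, rfl⟩ := (Scheme.ΓSpecIso (CommRingCat.of A)).commRingCatIsoToRingEquiv.symm.surjective x
      rw [isoSpec_inv_appTop_apply]
      refine (gsi_map _ _).trans (Eq.trans ?_ (gsi_map _ _).symm)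
      show algebraMap A B ((Scheme.ΓSpecIso _).hom ((Scheme.ΓSpecIso _).inv a)) =
        φ.toRingHom ((Scheme.ΓSpecIso _).hom ((Scheme.ΓSpecIso _).inv (algebraMap A (FunRing b G) a)))
      erw [Iso.inv_hom_id_apply, Iso.inv_hom_id_apply]
      exact (φ.commutes a).symm
  rw [ev_apply, e, Scheme.Hom.comp_appTop, CommRingCat.comp_apply, isoSpec_inv_appTop_apply]
  refine (gsi_map _ _).trans ?_
  show φ.toRingHom ((Scheme.ΓSpecIso _).hom ((Scheme.ΓSpecIso _).inv f)) = _
  erw [Iso.inv_hom_id_apply]
  rfl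

/-- The universal point over the ring of functions. -/
def univ : tb b (FunRing b G) ⟶ G := pt b (AlgHom.id A (FunRing b G))

theorem ev_univ : ev b (univ b : tb b (FunRing b G) ⟶ G) = AlgHom.id A (FunRing b G) := ev_pt b _

theorem eq_tm_univ (g : tb b B ⟶ G) : g = tm b (ev b g) ≫ univ b :=
  ev_injective b (by rw [ev_comp, ev_univ, AlgHom.comp_id])

/-- Points are determined after an injective algebra map. -/
theorem eq_of_tm {φ : B →ₐ[A] C} (hφ : Function.Injective φ) {g g' : tb b B ⟶ G}
    (h : tm b φ ≫ g = tm b φ ≫ g') : g = g' := by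
  refine ev_injective b (AlgHom.ext fun f => hφ ?_)
  have := AlgHom.congr_fun ((ev_comp b φ g).symm.trans ((congrArg (ev b) h).trans (ev_comp b φ g'))) f
  exact this

/-- Functions take equal values at equal points. -/
theorem eq_iff_ev {g g' : tb b B ⟶ G} : g = g' ↔ ∀ f, ev b g f = ev b g' f :=
  ⟨fun h f => by rw [h], fun h => ev_injective b (AlgHom.ext h)⟩

end Groth.Agent.RedCell22
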