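import Groth.Agent.RedCell22.LocalAlg
import Groth.Agent.RedCell22.CorootMem

/-!
# A character killed by a coroot is trivial on products of the two root groups
-/

set_option autoImplicit false
set_option linter.unusedSectionVars false
set_option linter.style.haveILetI false

universe u

open CategoryTheory CategoryTheory.Limits AlgebraicGeometry MonoidalCategory CartesianMonoidalCategory
open MonObj GrpObj

noncomputable section

namespace Groth.Agent.RedCell22

variable {S : Scheme.{u}} {G : Over S} [GrpObj G] [IsAffineHom G.hom] {D : Red.SplitRed G}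
variable {A : Type u} [CommRing A] {b : Spec (CommRingCat.of A) ⟶ S}
variable {B C : Type u} [CommRing B] [Algebra A B] [CommRing C] [Algebra A C]

/-- A point of the cell with given value of a character on its torus part. -/
def Val (D : Red.SplitRed G) (φ : D.M →+ ℤ) (m : D.M) (g : tb b B ⟶ G) (u : Bˣ) : Prop :=
  ∃ v t w, (lam D (-φ)).HasLimOne v ∧ (lam D φ).HasLimOne w ∧ chr D m t = u ∧ g = v * tG D t * w

variable {φ : D.M →+ ℤ} {m : D.M} {g : tb b B ⟶ G} {u : Bˣ}

theorem Val.inOmega (h : Val D φ m g u) : InOmega D φ g := by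
  obtain ⟨v, t, w, hv, hw, -, he⟩ := h
  exact ⟨v, t, w, hv, hw, he⟩

theorem InOmega.exists_val (h : InOmega D φ g) (m : D.M) : ∃ u, Val D φ m g u := by
  obtain ⟨v, t, w, hv, hw, he⟩ := h
  exact ⟨_, v, t, w, hv, hw, rfl, he⟩

theorem Val.unique {u' : Bˣ} (h : Val D φ m g u) (h' : Val D φ m g u') : u = u' := by
  obtain ⟨v, t, w, hv, hw, rfl, rfl⟩ := h
  obtain ⟨v', t', w', hv', hw', rfl, he⟩ := h'
  rw [cell_torus_unique hv hv' hw hw' he]

theorem Val.map (h : Val D φ m g u) (ψ : B →ₐ[A] C) : Val D φ m (tm b ψ ≫ g) (Units.map ψ.toMonoidHom u) := by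
  obtain ⟨v, t, w, hv, hw, rfl, rfl⟩ := h
  refine ⟨tm b ψ ≫ v, tm b ψ ≫ t, tm b ψ ≫ w, hv.map _ ψ, hw.map _ ψ, chr_map D ψ m t, ?_⟩
  rw [tm_mul, tm_mul]
  exact congrArg (fun z => _ * z * _) (Category.assoc _ _ _).symm

theorem Val.mul_right (h : Val D φ m g u) {w : tb b B ⟶ G} (hw : (lam D φ).HasLimOne w) :
    Val D φ m (g * w) u := by
  obtain ⟨v, t, w', hv, hw', hu, rfl⟩ := h
  exact ⟨v, t, w' * w, hv, hw'.mul _ hw, hu, by group⟩

theorem Val.mul_left (h : Val D φ m g u) {v : tb b B ⟶ G} (hv : (lam D (-φ)).HasLimOne v) :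
    Val D φ m (v * g) u := by
  obtain ⟨v', t, w, hv', hw, hu, rfl⟩ := h
  exact ⟨v * v', t, w, hv.mul _ hv', hw, hu, by group⟩

theorem Val.torus_left (h : Val D φ m g u) (s : tb b B ⟶ D.T) :
    Val D φ m (tG D s * g) (chr D m s * u) := by
  obtain ⟨v, t, w, hv, hw, rfl, rfl⟩ := h
  exact ⟨tG D s * v * (tG D s)⁻¹, s * t, w, hv.conj_fixed (fixed_tG D (-φ) s), hw, chr_mul D m s t,
    by rw [tG_mul]; group⟩

theorem Val.torus_right (h : Val D φ m g u) (s : tb b B ⟶ D.T) :
    Val D φ m (g * tG D s) (u * chr D m s) := by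
  obtain ⟨v, t, w, hv, hw, rfl, rfl⟩ := h
  refine ⟨v, t * s, (tG D s)⁻¹ * w * tG D s, hv, ?_, chr_mul D m t s, by rw [tG_mul]; group⟩
  simpa using hw.conj_fixed (fixed_tG D φ s).inv

theorem chr_one (m : D.M) : chr D m (1 : tb b B ⟶ D.T) = 1 := by
  have h := chr_mul D m (1 : tb b B ⟶ D.T) 1
  rw [_root_.mul_one] at h
  exact mul_eq_left.mp h.symm

theorem chr_inv (m : D.M) (t : tb b B ⟶ D.T) : chr D m t⁻¹ = (chr D m t)⁻¹ := by
  refine eq_inv_of_mul_eq_one_left ?_
  rw [← chr_mul, inv_mul_cancel, chr_one]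

theorem val_one : Val D φ m (1 : tb b B ⟶ G) 1 :=
  ⟨1, 1, 1, Cochar.hasLimOne_one _, Cochar.hasLimOne_one _, chr_one m, by rw [tG_one]; simp⟩

section Simple

variable (base : D.P.Base) {a : D.idx} (ha : a ∈ base.support) (hφ : ∀ c ∈ base.support, 0 < φ (D.P.root c))
  (hm : D.P.coroot a m = 0) {n : 𝟙_ (Over S) ⟶ G} (hn : IsReflPt D a n)
include ha hφ hm hn

/-- A representative of the simple reflection does not change the value of the character. -/
theorem exists_torus_swap (s : tb b B ⟶ D.T) :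
    ∃ s' : tb b B ⟶ D.T, chr D m s' = chr D m s ∧
      tG D s * (toUnit _ ≫ n) = (toUnit _ ≫ n) * tG D s' := by
  obtain ⟨χ, rfl⟩ := tpt_surjective D s
  refine ⟨_, ?_, hn.tG_mul χ⟩
  rw [chr_tpt, chr_tpt]
  show χ (Multiplicative.ofAdd (reflHom D a m)) = _
  rw [reflHom_apply, hm, zero_smul, sub_zero]

theorem val_root_neg (y : B) : (lam D (-φ)).HasLimOne (ua D (D.P.reflectionPerm a a) y : tb b B ⟶ G) :=
  hasLimOne_ua D (by
    show 0 < -(φ (D.P.root _))
    rw [Groth.Agent.RootData.root_neg, map_neg, neg_neg]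
    exact hφ a ha) y

/-- At a geometric point the representative is outside the cell. -/
theorem not_inOmega_refl {K : Type u} [Field K] [Algebra A K] :
    ¬ InOmega D φ (toUnit (tb b K) ≫ n : tb b K ⟶ G) := by
  intro h
  classical
  choose nr₀ hnr₀ using D.refl
  let nr := Function.update nr₀ a n
  have hnr : RedSub.RealisesReflections D nr := fun c => by
    rcases eq_or_ne c a with rfl | hc
    · simp only [nr, Function.update_self]; exact hn
    · simp only [nr, Function.update_of_ne hc]; exact hnr₀ c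
  have h1 : InBruhat nr φ [a] (toUnit (tb b K) ≫ n : tb b K ⟶ G) :=
    ⟨1, 1, 1, Cochar.hasLimOne_one _, Cochar.hasLimOne_one _, by
      rw [nWord_cons, nWord_nil, tG_one]
      simp [nr]⟩
  obtain ⟨v, t, w, hv, hw, he⟩ := h
  have h2 : InBruhat nr φ [] (toUnit (tb b K) ≫ n : tb b K ⟶ G) :=
    ⟨v, t, w, hv, hw, by rw [nWord_nil, _root_.mul_one]; exact he⟩
  have h3 := congrArg (fun e : Equiv.Perm D.idx => D.P.root (e a)) (wordPerm_eq_of_inBruhat base hnr hφ h1 h2)
  simp [RedSub.wordPerm] at h3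
  haveI : IsAddTorsionFree D.M := .of_isTorsionFree ℤ D.M
  have h4 : D.P.root a = 0 := by
    have := congrArg (fun x => x + D.P.root a) h3
    simp only [neg_add_cancel] at this
    exact (smul_eq_zero.mp ((two_smul ℤ _).trans this.symm)).resolve_left two_ne_zero
  exact D.P.ne_zero a h4

variable [IsLocalRing B]

theorem exists_p_unit_form {y₀ x₀ : B} {t₀ : tb b B ⟶ D.T} (hx₀ : IsUnit x₀)
    (h₀ : (toUnit _ ≫ n) * ua D (D.P.reflectionPerm a a) (1 : B) =
      ua D (D.P.reflectionPerm a a) y₀ * tG D t₀ * ua D a x₀) {x : B} (hx : IsUnit x) :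
    ∃ (a' b' : B) (s : tb b B ⟶ D.T), chr D m s = (chr D m t₀)⁻¹ ∧
      ua D a x = ua D (D.P.reflectionPerm a a) a' * tG D s * (toUnit _ ≫ n) * ua D (D.P.reflectionPerm a a) b' := by
  let na := D.P.reflectionPerm a a
  let cor : D.M →+ ℤ := (D.P.coroot a).toAddMonoidHom
  let z : Bˣ := hx.unit * hx₀.unit⁻¹
  have hz : (z : B) * x₀ = x := by simp [z, _root_.mul_assoc]
  let N : tb b B ⟶ G := toUnit _ ≫ n
  refine ⟨(chr D (D.P.root a) t₀ : B) * ((↑z⁻¹ : B) * -y₀), (↑z⁻¹ : B), t₀⁻¹ * tpt D (coVal D cor z), ?_, ?_⟩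
  · rw [chr_mul, chr_coVal, show cor m = (0 : ℤ) from hm, zpow_zero, _root_.mul_one]
    exact chr_inv m t₀
  obtain ⟨C, _, _, s, hinj, hs⟩ := exists_sqrt (A := B) z
  letI : Algebra A C := ((algebraMap B C).comp (algebraMap A B)).toAlgebra
  let ψ : B →ₐ[A] C := ⟨algebraMap B C, fun _ => rfl⟩
  refine tm_comp_injective (φ := ψ) hinj ?_
  let χ : Multiplicative D.M →* Cˣ := coVal D cor s
  let τ : tb b C ⟶ G := tG D (tpt D χ)
  let T₀ : tb b C ⟶ G := tG D (tm b ψ ≫ t₀)
  let NC : tb b C ⟶ G := toUnit _ ≫ n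
  have hch : chr D (D.P.root a) (tpt D χ : tb b C ⟶ D.T) = Units.map ψ.toMonoidHom z := by
    rw [chr_coVal, show cor (D.P.root a) = (2 : ℤ) from (coroot_root a a).trans (D.P.pairing_same a), zpow_two, hs]
  have hchn : ∀ u : tb b C ⟶ D.T, chr D (D.P.root na) u = (chr D (D.P.root a) u)⁻¹ := fun u => by
    obtain ⟨ξ, rfl⟩ := tpt_surjective D u
    rw [chr_tpt, chr_tpt, show D.P.root na = -D.P.root a from Groth.Agent.RootData.root_neg D.P a, ofAdd_neg, map_inv]
  have hp₀ : ua D a (ψ x₀) = T₀⁻¹ * ua D na (ψ (-y₀)) * NC * ua D na (1 : C) := by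
    have h' := congrArg (tm b ψ ≫ ·) h₀
    simp only [tm_mul, toUnit_map, ua_map, map_one] at h'
    rw [show tm b ψ ≫ tG D t₀ = T₀ from (Category.assoc _ _ _).symm] at h'
    rw [map_neg, ua_neg, _root_.mul_assoc, show NC * ua D na (1 : C) = ua D na (ψ y₀) * T₀ * ua D a (ψ x₀) from h']
    group
  have hcor : τ * NC * τ⁻¹ = tG D (tm b ψ ≫ tpt D (coVal D cor z)) * NC := by
    have h1 : τ * NC = NC * tG D (tpt D (χ.comp (AddMonoidHom.toMultiplicative (reflHom D a)))) := hn.tG_mul χ
    have h2 := hn.conj_tG (b := b) (χ.comp (AddMonoidHom.toMultiplicative (reflHom D a)))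
    rw [h1, ← tG_inv, _root_.mul_assoc, ← tG_mul, show (tpt D χ : tb b C ⟶ D.T)⁻¹ = tpt D χ⁻¹ from
      (map_inv (tHom D) χ).symm, ← tpt_mul]
    refine (mul_inv_eq_iff_eq_mul.mp (hn.conj_tG (b := b) _)).trans ?_
    rw [tpt_map]
    congr 2
    refine congrArg (tpt D) (MonoidHom.ext fun q => ?_)
    show coVal D cor s (Multiplicative.ofAdd (reflHom D a (reflHom D a q.toAdd))) *
        (coVal D cor s (Multiplicative.ofAdd (reflHom D a q.toAdd)))⁻¹ =
      Units.map ψ.toMonoidHom (coVal D cor z (Multiplicative.ofAdd q.toAdd))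
    rw [reflHom_reflHom, coVal_apply, coVal_apply, coVal_apply, map_zpow, ← zpow_neg, ← zpow_add, reflHom_apply,
      map_sub, map_zsmul, show cor (D.P.root a) = (2 : ℤ) from (coroot_root a a).trans (D.P.pairing_same a),
      show Units.map ψ.toMonoidHom z = s * s from hs.symm, ← zpow_two, ← zpow_mul]
    congr 1
    show cor q.toAdd + -(cor q.toAdd - cor q.toAdd • 2) = 2 * cor q.toAdd
    rw [smul_eq_mul]
    ring
  have h1 : ∀ v : C, τ * ua D na v * τ⁻¹ = ua D na (ψ (↑z⁻¹ : B) * v) := fun v => by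
    rw [conj_ua, hchn, hch, ← map_inv]
    rfl
  have h3 : τ * T₀⁻¹ * τ⁻¹ = T₀⁻¹ := by
    simp only [τ, T₀, ← tG_inv, ← tG_mul]
    rw [torus_comm D (tpt D χ), _root_.mul_assoc, mul_inv_cancel, _root_.mul_one]
  have h4 : ∀ v : C, T₀⁻¹ * ua D na v * T₀ = ua D na (ψ (chr D (D.P.root a) t₀ : B) * v) := fun v => by
    have := conj_ua D (tm b ψ ≫ t₀)⁻¹ na v
    rw [tG_inv, _root_.inv_inv] at this
    rw [this, hchn]
    have e : (chr D (D.P.root a) (tm b ψ ≫ t₀)⁻¹)⁻¹ = Units.map ψ.toMonoidHom (chr D (D.P.root a) t₀) := by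
      rw [chr_inv, _root_.inv_inv, chr_map]
      rfl
    rw [e]
    rfl
  calc tm b ψ ≫ ua D a x = τ * ua D a (ψ x₀) * τ⁻¹ := by
        rw [ua_map, conj_ua, hch, ← hz, map_mul]
        rfl
    _ = (τ * T₀⁻¹ * τ⁻¹) * (τ * ua D na (ψ (-y₀)) * τ⁻¹) * (τ * NC * τ⁻¹) * (τ * ua D na (1 : C) * τ⁻¹) := by
        rw [hp₀]; group
    _ = (T₀⁻¹ * ua D na (ψ (↑z⁻¹ : B) * ψ (-y₀)) * T₀) * T₀⁻¹ * tG D (tm b ψ ≫ tpt D (coVal D cor z)) * NC *
          ua D na (ψ (↑z⁻¹ : B) * 1) := by
        rw [h3, h1, h1, hcor]; group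
    _ = _ := by
        beta_reduce
        rw [h4, tm_mul, tm_mul, tm_mul, ua_map, ua_map, toUnit_map, map_mul, map_mul, _root_.mul_one,
          show tm b ψ ≫ tG D (t₀⁻¹ * tpt D (coVal D cor z)) = T₀⁻¹ * tG D (tm b ψ ≫ tpt D (coVal D cor z)) by
            rw [tG_mul, tm_mul, tG_inv, tm_inv]
            simp only [T₀, tG, Category.assoc]]
        simp only [NC, _root_.mul_assoc]
        rfl

/-- The value of the character at a product of the two root groups of a simple root lying in the cell. -/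
theorem val_pm {x y : B} (h : InOmega D φ (ua D a x * ua D (D.P.reflectionPerm a a) y : tb b B ⟶ G)) :
    Val D φ m (ua D a x * ua D (D.P.reflectionPerm a a) y : tb b B ⟶ G) 1 := by
  let na := D.P.reflectionPerm a a
  let N : tb b B ⟶ G := toUnit _ ≫ n
  have hreg : ∀ r, φ (D.P.root r) ≠ 0 := fun r => (mem_posRoots_iff D.P base hφ r).2.2
  obtain ⟨K, _, _, _, ψ, hψ⟩ := exists_closedGeom (A := A) B
  haveI := hψ
  have hNK : ∀ w : B, ¬ IsUnit w → ¬ InOmega D φ (N * ua D na w) := fun w hw hc => by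
    have h0 : ψ w = 0 := by
      by_contra hne
      exact hw (isUnit_of_map_unit ψ.toRingHom w (Ne.isUnit hne))
    have := hc.map ψ
    rw [tm_mul, toUnit_map, ua_map, h0, ua_zero, _root_.mul_one] at this
    exact not_inOmega_refl base ha hφ hm hn this
  -- the decomposition of the representative
  obtain ⟨y₁, t₁, x₁, h₁⟩ := exists_refl_decomp (A := A) (b := b) base ha hn
  let φB : A →ₐ[A] B := Algebra.ofId A B
  let y₀ := φB y₁
  let x₀ := φB x₁
  let t₀ := tm b φB ≫ t₁
  have h₀ : N * ua D na (1 : B) = ua D na y₀ * tG D t₀ * ua D a x₀ := by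
    have h' := congrArg (tm b φB ≫ ·) h₁
    simp only [tm_mul, toUnit_map, ua_map, map_one] at h'
    exact h'.trans (congrArg (fun q => _ * q * _) (Category.assoc _ _ _).symm)
  have hx₀ : IsUnit x₀ := by
    by_contra hnu
    have hx0 : ψ x₀ = 0 := by
      by_contra hne
      exact hnu (isUnit_of_map_unit ψ.toRingHom x₀ (Ne.isUnit hne))
    refine not_inOmega_refl (b := b) (K := K) base ha hφ hm hn ?_
    have h' := congrArg (tm b ψ ≫ ·) h₀
    simp only [N, tm_mul, toUnit_map, ua_map, map_one, hx0, ua_zero, _root_.mul_one] at h'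
    refine ⟨ua D na (ψ y₀) * (tG D (tm b ψ ≫ t₀) * ua D na (-1 : K) * (tG D (tm b ψ ≫ t₀))⁻¹), tm b ψ ≫ t₀, 1,
      (val_root_neg base ha hφ hm hn _).mul _ ((val_root_neg base ha hφ hm hn _).conj_fixed (fixed_tG D (-φ) _)),
      Cochar.hasLimOne_one _, ?_⟩
    rw [eq_mul_inv_of_mul_eq h', ua_neg]
    simp only [tG, Category.assoc]
    group
  let c := chr D m t₀
  obtain ⟨e₁, he₁⟩ := exists_conj_refl (A := A) (b := b) base hn na
  have hflip : D.P.reflectionPerm a na = a := D.P.reflectionPerm_self a a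
  have hNm : ∀ w : B, N * ua D na w * N⁻¹ = ua D a (algebraMap A B e₁ * w) := fun w => by
    rw [he₁, hflip]
  obtain ⟨d₁, hd₁⟩ := exists_conj_refl (A := A) (b := b) base hn.inv na
  have hmN : ∀ w : B, N⁻¹ * ua D na w * N = ua D a (algebraMap A B d₁ * w) := fun w => by
    have h' := hd₁ B w
    rw [GrpObj.comp_inv, _root_.inv_inv, hflip] at h'
    exact h'
  obtain ⟨d₂, hd₂⟩ := exists_conj_refl (A := A) (b := b) base hn.inv a
  have hpN : ∀ w : B, N⁻¹ * ua D a w * N = ua D na (algebraMap A B d₂ * w) := fun w => by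
    have h' := hd₂ B w
    rw [GrpObj.comp_inv, _root_.inv_inv] at h'
    exact h'
  have hposA : ∀ w : B, (lam D φ).HasLimOne (ua D a w : tb b B ⟶ G) := fun w => hasLimOne_ua D (hφ a ha) w
  obtain ⟨u₀, hu₀⟩ : ∃ u₀, N * N = tG D u₀ := by
    refine exists_tG_of_fixed (φ := φ) ?_ (inOmega_of_closed ψ hreg ?_)
    · show (lam D φ).conj (tm b CL ≫ (N * N)) (Tu B) = tm b CL ≫ (N * N)
      rw [tm_mul, toUnit_map]
      show tG D (tpt D (coVal D φ (Tu B))) * (_ * _) * (tG D _)⁻¹ = _
      rw [← _root_.mul_assoc, hn.tG_mul, _root_.mul_assoc _ (tG D _), hn.tG_mul, ← _root_.mul_assoc]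
      refine mul_inv_eq_iff_eq_mul.mpr (congrArg (_ * tG D ·) (congrArg (tpt D) (MonoidHom.ext fun q => ?_)))
      exact congrArg (coVal D φ (Tu B)) (reflHom_reflHom a _)
    · obtain ⟨R, -, -, hRT, hRN⟩ := exists_rank1 (b := b) (K := K) base a hn
      have h2 := R.N_sq
      rw [hRT, hRN] at h2
      obtain ⟨t, ht⟩ := h2
      rw [tm_mul, toUnit_map, ← ht]
      exact ⟨1, t, 1, Cochar.hasLimOne_one _, Cochar.hasLimOne_one _, by
        rw [_root_.one_mul, _root_.mul_one]; rfl⟩
  have hu₀c : ∀ {w : B}, IsUnit w → Val D φ m (N * ua D na w) (c⁻¹ * chr D m u₀) := by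
    intro w hw
    obtain ⟨a', b', s, hs, he⟩ := exists_p_unit_form base ha hφ hm hn hx₀ h₀
      (x := algebraMap A B e₁ * w) ((e₁.isUnit.map (algebraMap A B)).mul hw)
    obtain ⟨e₂, he₂⟩ := exists_conj_refl (A := A) (b := b) base hn na
    have hb : N * ua D na b' * N = ua D a (algebraMap A B e₂ * b') * tG D u₀ := by
      have h' := he₂ B b'
      rw [hflip] at h'
      rw [← h', ← hu₀]
      simp only [N]
      group
    have hNw : N * ua D na w = ua D na a' * tG D s * (ua D a (algebraMap A B e₂ * b') * tG D u₀) := by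
      rw [show N * ua D na w = (N * ua D na w * N⁻¹) * N by group, hNm, he, ← hb]
      simp only [N, na]
      group
    rw [hNw]
    have h1 := (((val_one (b := b) (B := B) (φ := φ) (m := m)).torus_right s).mul_left
      (val_root_neg base ha hφ hm hn a')).mul_right (hposA (algebraMap A B e₂ * b')) |>.torus_right u₀
    simp only [_root_.one_mul, hs, _root_.mul_one] at h1
    convert h1 using 1
    simp only [na]
    group
  have hcc : c⁻¹ * chr D m u₀ = c := by
    have h1 := hu₀c (w := 1) isUnit_one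
    refine h1.unique ⟨ua D na y₀, t₀, ua D a x₀, val_root_neg base ha hφ hm hn _, hposA _, rfl, h₀⟩
  have hIII : ∀ {w : B}, InOmega D φ (N * ua D na w) → Val D φ m (N * ua D na w) c := fun {w} hw => by
    by_cases hu : IsUnit w
    · exact hcc ▸ hu₀c hu
    · exact absurd hw (hNK w hu)
  -- products whose first factor is a unit
  have caseX : ∀ {x y : B}, IsUnit x → InOmega D φ (ua D a x * ua D na y : tb b B ⟶ G) →
      Val D φ m (ua D a x * ua D na y : tb b B ⟶ G) 1 := by
    intro x y hx hxy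
    obtain ⟨a', b', s, hs, he⟩ := exists_p_unit_form base ha hφ hm hn hx₀ h₀ hx
    have e : ua D a x * ua D na y = ua D na a' * (tG D s * (N * ua D na (b' + y))) := by
      rw [he, ua_add]; simp only [N, na]; group
    have hin : InOmega D φ (N * ua D na (b' + y)) := by
      obtain ⟨u, hu⟩ := hxy.exists_val m
      have h2 := (hu.mul_left (val_root_neg base ha hφ hm hn (-a'))).torus_left s⁻¹
      rw [e, ua_neg, tG_inv, ← _root_.mul_assoc (ua D na a')⁻¹, inv_mul_cancel, _root_.one_mul,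
        inv_mul_cancel_left] at h2
      exact h2.inOmega
    rw [e]
    have h3 := ((hIII hin).torus_left s).mul_left (val_root_neg base ha hφ hm hn a')
    rwa [hs, inv_mul_cancel] at h3
  -- products whose second factor is a unit
  have caseY : ∀ {x y : B}, IsUnit y → InOmega D φ (ua D a x * ua D na y : tb b B ⟶ G) →
      Val D φ m (ua D a x * ua D na y : tb b B ⟶ G) 1 := by
    intro x y hy hxy
    obtain ⟨a', b', s, hs, he⟩ := exists_p_unit_form base ha hφ hm hn hx₀ h₀
      (x := algebraMap A B e₁ * y) ((e₁.isUnit.map (algebraMap A B)).mul hy)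
    obtain ⟨s', hs', hsN⟩ := exists_torus_swap base ha hφ hm hn s
    let x' : B := x + algebraMap A B d₁ * a'
    let x'' : B := ((chr D (D.P.root a) s'⁻¹ : Bˣ) : B) * x'
    let w : B := algebraMap A B d₂ * x''
    let q : tb b B ⟶ G := N⁻¹ * ua D na b' * N
    have hq : (lam D φ).HasLimOne q := by
      simp only [q]; rw [hmN]; exact hposA _
    have hconj : (tG D s')⁻¹ * ua D a x' * tG D s' = ua D a x'' := by
      have := conj_ua D s'⁻¹ a x'
      rw [tG_inv, _root_.inv_inv] at this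
      exact this
    have e : ua D a x * ua D na y = tG D s' * (N * ua D na w) * q := by
      have h1 : ua D na y = N⁻¹ * (ua D na a' * tG D s * N * ua D na b') * N := by
        rw [← he, ← hNm]; group
      rw [h1, show N⁻¹ * (ua D na a' * tG D s * N * ua D na b') * N =
          (N⁻¹ * ua D na a' * N) * (N⁻¹ * (tG D s * N)) * N * q by simp only [q]; group, hsN, hmN,
        inv_mul_cancel_left,
        show ua D a x * (ua D a (algebraMap A B d₁ * a') * tG D s' * N * q) =
          (ua D a x * ua D a (algebraMap A B d₁ * a')) * tG D s' * N * q by group, ← ua_add]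
      show ua D a x' * tG D s' * N * q = _
      rw [show ua D a x' * tG D s' = tG D s' * ((tG D s')⁻¹ * ua D a x' * tG D s') by group, hconj,
        show ua D na w = N⁻¹ * ua D a x'' * N from (hpN x'').symm]
      group
    have hin : InOmega D φ (N * ua D na w) := by
      obtain ⟨u, hu⟩ := hxy.exists_val m
      rw [e] at hu
      have h2 := (hu.mul_right (hq.inv _)).torus_left s'⁻¹
      rw [tG_inv, mul_inv_cancel_right, inv_mul_cancel_left] at h2
      exact h2.inOmega
    rw [e]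
    have h3 := ((hIII hin).torus_left s').mul_right hq
    rwa [hs', hs, inv_mul_cancel] at h3
  by_cases hy : IsUnit y
  · exact caseY hy h
  by_cases hx : IsUnit x
  · exact caseX hx h
  have h1 : InOmega D φ (ua D a (1 : B) * ua D na y : tb b B ⟶ G) := by
    refine inOmega_of_closed ψ hreg ?_
    have hy0 : ψ y = 0 := by
      by_contra hne
      exact hy (isUnit_of_map_unit ψ.toRingHom y (Ne.isUnit hne))
    rw [tm_mul, ua_map, ua_map, hy0, ua_zero, _root_.mul_one, map_one]
    exact ⟨1, 1, ua D a (1 : K), Cochar.hasLimOne_one _, hasLimOne_ua D (hφ a ha) _, by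
      rw [tG_one, _root_.one_mul, _root_.one_mul]⟩
  obtain ⟨f, hfa, hf, hp, hn'⟩ := exists_simple_form base ha hφ
  obtain ⟨y', t', x', he'⟩ := exists_pm_of_fixed base ha hφ hfa hf hp hn'
    ((fixed_ua D hfa (1 : B)).mul (fixed_ua D (by rw [Groth.Agent.RootData.root_neg, map_neg, hfa, neg_zero]) y)) h1
  have ht' : chr D m t' = 1 :=
    Val.unique ⟨_, t', _, val_root_neg base ha hφ hm hn y', hposA x', rfl, he'⟩ (caseX isUnit_one h1)
  have hx1 : IsUnit (x - 1) := by
    rcases IsLocalRing.isUnit_or_isUnit_of_add_one (a := x) (b := 1 - x) (by ring) with h' | h'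
    · exact absurd h' hx
    · simpa using h'.neg
  have e : ua D a x * ua D na y = (ua D a (x - 1) * ua D na y') * tG D t' * ua D a x' := by
    rw [show ua D a x = ua D a (x - 1) * ua D a (1 : B) by rw [← ua_add, sub_add_cancel],
      _root_.mul_assoc, he']
    simp only [na]; group
  have hin : InOmega D φ (ua D a (x - 1) * ua D na y' : tb b B ⟶ G) := by
    obtain ⟨u, hu⟩ := h.exists_val m
    rw [e] at hu
    have h2 := (hu.mul_right (hposA (-x'))).torus_right t'⁻¹
    rw [ua_neg, mul_inv_cancel_right, tG_inv, mul_inv_cancel_right] at h2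
    exact h2.inOmega
  rw [e]
  have h3 := ((caseX hx1 hin).torus_right t').mul_right (hposA x')
  rwa [ht', _root_.mul_one] at h3

end Simple

end Groth.Agent.RedCell22
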