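import Groth.Agent.RedCell22.SimpleForm

/-!
# Two translates of the big cell
-/

set_option autoImplicit false
set_option linter.unusedSectionVars false
set_option linter.style.haveILetI false

universe u

open CategoryTheory CategoryTheory.Limits AlgebraicGeometry MonoidalCategory CartesianMonoidalCategory
open MonObj GrpObj

noncomputable section

namespace Groth.Agent.RedCell22

variable {S : Scheme.{u}} {G : Over S} [GrpObj G] [IsAffineHom G.hom] {D : Red.SplitRed G} {n m : ℕ}
variable {A : Type u} [CommRing A] {K : Type u} [Field K] [IsAlgClosed K] [Algebra A K]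
  {b : Spec (CommRingCat.of A) ⟶ S}

theorem comp_const_mul {X Y : Over S} (p : X ⟶ Y) (w : 𝟙_ (Over S) ⟶ G) (c : Y ⟶ G) :
    p ≫ ((toUnit Y ≫ w) * c) = (toUnit X ≫ w) * (p ≫ c) := by
  rw [MonObj.comp_mul, ← Category.assoc, toUnit_unique (p ≫ toUnit Y) (toUnit X)]

/-- A point `wn L wp` lies in the cell or in its translate by a generator of the root group. -/
theorem exists_lift_two (base : D.P.Base) {a : D.idx} {f f' : D.M →+ ℤ} (hfa : f (D.P.root a) = 0)
    (hf : ∀ r, r ≠ a → D.P.root r ≠ -D.P.root a → f (D.P.root r) ≠ 0)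
    (hpos : ∀ r, 0 < f (D.P.root r) → 0 < f' (D.P.root r)) (hneg : ∀ r, f (D.P.root r) < 0 → f' (D.P.root r) < 0)
    (ha : 0 < f' (D.P.root a)) {l : Fin n → D.idx} {l' : Fin m → D.idx} (hl : PosList D (-f') l) (hl' : PosList D f' l')
    (x : 𝟙_ (Over S) ⟶ Red.Ga S) (hx : IsUnit (Red.gaFn x)) {g wn wp L : tb b K ⟶ G}
    (hwn : (lam D (-f)).HasLimOne wn) (hwp : (lam D f).HasLimOne wp) (hL : (lam D f).IsFixed L)
    (hg : g = wn * L * wp) :
    ∃ p : tb b K ⟶ CellSrc D n m, p ≫ RedSub.cellMap D l l' = g ∨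
      p ≫ ((toUnit _ ≫ x ≫ D.u a) * RedSub.cellMap D l l') = g := by
  obtain ⟨nr, hn⟩ := D.refl a
  obtain ⟨c, hc, -, hxc⟩ := exists_coord_const (K := K) x b hx
  rcases cell_mul_root base hn hfa hf hpos hneg ha hwn hwp hL hg hc with h | h
  · obtain ⟨p, hp⟩ := h.exists_cellPt hl hl'
    exact ⟨p, Or.inl hp⟩
  · obtain ⟨p, hp⟩ := h.exists_cellPt hl hl'
    refine ⟨p, Or.inr ?_⟩
    rw [comp_const_mul, hp, ← Category.assoc, hxc]
    exact mul_inv_cancel_left _ _

/-- The splitting of a point of the cell along the Levi subgroup of a simple root. -/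
theorem exists_simple_split (base : D.P.Base) {a : D.idx} (ha : a ∈ base.support) {φ : D.M →+ ℤ}
    (hφ : ∀ c ∈ base.support, 0 < φ (D.P.root c)) {g : tb b K ⟶ G} (hg : InOmega D φ g) (y : K) :
    ∃ (f : D.M →+ ℤ) (wn L wp : tb b K ⟶ G), f (D.P.root a) = 0 ∧
      (∀ r, r ≠ a → D.P.root r ≠ -D.P.root a → f (D.P.root r) ≠ 0) ∧
      (∀ r, 0 < f (D.P.root r) → 0 < φ (D.P.root r)) ∧ (∀ r, f (D.P.root r) < 0 → φ (D.P.root r) < 0) ∧
      (lam D (-f)).HasLimOne wn ∧ (lam D f).HasLimOne wp ∧ (lam D f).IsFixed L ∧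
      g * ua D (D.P.reflectionPerm a a) y = wn * L * wp := by
  obtain ⟨f, hfa, hf, hp, hn⟩ := exists_simple_form base ha hφ
  have hfna : f (D.P.root (D.P.reflectionPerm a a)) = 0 := by
    rw [Groth.Agent.RootData.root_neg, map_neg, hfa, neg_zero]
  have key : ∀ {g : tb b K ⟶ G}, InOmega D φ g →
      ∃ wn L wp, (lam D (-f)).HasLimOne wn ∧ (lam D f).HasLimOne wp ∧ (lam D f).IsFixed L ∧ g = wn * L * wp := by
    intro g hg
    obtain ⟨mp, lp, hlp⟩ := exists_posList D f
    obtain ⟨mn, ln, hln⟩ := exists_posList D (-f)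
    have hpl : PosList D φ (Fin.append (fun _ : Fin 1 => a) lp) := by
      refine ⟨Fin.append_injective_iff.mpr ⟨Function.injective_of_subsingleton _, hlp.inj, fun _ j h => ?_⟩,
        fun r => ⟨?_, fun hr => ?_⟩⟩
      · have := hlp.pos D j
        rw [← h, hfa] at this
        exact lt_irrefl _ this
      · rintro ⟨k, rfl⟩
        refine Fin.addCases (fun j => ?_) (fun j => ?_) k
        · rw [Fin.append_left]; exact hφ a ha
        · rw [Fin.append_right]; exact hp _ (hlp.pos D j)
      · by_cases h : r = a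
        · exact ⟨Fin.castAdd mp 0, by simp [h]⟩
        have h2 : D.P.root r ≠ -D.P.root a := fun h2 => by
          rw [h2, map_neg] at hr
          linarith [hφ a ha]
        have h3 : 0 < f (D.P.root r) := by
          rcases lt_or_gt_of_ne (hf r h h2) with h3 | h3
          · linarith [hn r h3]
          · exact h3
        obtain ⟨j, rfl⟩ := (hlp.mem_iff r).mpr h3
        exact ⟨Fin.natAdd 1 j, by simp⟩
    have hnl : PosList D (-φ) (Fin.append ln (fun _ : Fin 1 => D.P.reflectionPerm a a)) := by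
      refine ⟨Fin.append_injective_iff.mpr ⟨hln.inj, Function.injective_of_subsingleton _, fun j _ h => ?_⟩,
        fun r => ⟨?_, fun hr => ?_⟩⟩
      · have := hln.pos D j
        rw [AddMonoidHom.neg_apply, h, hfna] at this
        simp at this
      · rintro ⟨k, rfl⟩
        rw [AddMonoidHom.neg_apply, neg_pos]
        refine Fin.addCases (fun j => ?_) (fun j => ?_) k
        · rw [Fin.append_left]; exact hn _ (by simpa using hln.pos D j)
        · rw [Fin.append_right, Groth.Agent.RootData.root_neg, map_neg, neg_neg_iff_pos]; exact hφ a ha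
      · rw [AddMonoidHom.neg_apply, neg_pos] at hr
        by_cases h2 : D.P.root r = -D.P.root a
        · exact ⟨Fin.natAdd mn 0, by
            rw [Fin.append_right]; exact D.P.root.injective ((Groth.Agent.RootData.root_neg D.P a).trans h2.symm)⟩
        have h : r ≠ a := fun h => by subst h; linarith [hφ r ha]
        have h3 : f (D.P.root r) < 0 := by
          rcases lt_or_gt_of_ne (hf r h h2) with h3 | h3
          · exact h3
          · linarith [hp r h3]
        obtain ⟨j, rfl⟩ := (hln.mem_iff r).mpr (by simpa using h3)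
        exact ⟨Fin.castAdd 1 j, by simp⟩
    obtain ⟨q, rfl⟩ := hg.exists_cellPt hnl hpl
    obtain ⟨yy, t, xx, rfl⟩ := exists_cellPt D q
    refine ⟨word D ln fun k => yy (Fin.castAdd 1 k),
      ua D (D.P.reflectionPerm a a) (yy (Fin.natAdd mn 0)) * tG D t * ua D a (xx (Fin.castAdd mp 0)),
      word D lp fun k => xx (Fin.natAdd 1 k), hasLimOne_word D (hln.pos D) _, hasLimOne_word D (hlp.pos D) _,
      ((fixed_ua D hfna _).mul (fixed_tG D f t)).mul (fixed_ua D hfa _), ?_⟩
    rw [cellPt_cellMap, cellWord, word_append_one, word_one_append]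
    simp [_root_.mul_assoc]
  obtain ⟨wn, L, wp, hwn, hwp, hL, hg'⟩ := key hg
  let v : tb b K ⟶ G := ua D (D.P.reflectionPerm a a) y
  have hv : (lam D f).IsFixed v := fixed_ua D hfna y
  have hvwp : (lam D f).HasLimOne (v⁻¹ * wp * v) := by simpa using hwp.conj_fixed hv.inv
  exact ⟨f, wn, L * v, v⁻¹ * wp * v, hfa, hf, hp, hn, hwn, hvwp, hL.mul hv, by rw [hg']; simp only [v]; group⟩

/-- Right translation by the opposite of a simple root group. -/
theorem exists_lift_simple (base : D.P.Base) {a : D.idx} (ha : a ∈ base.support) {l : Fin n → D.idx}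
    {l' : Fin m → D.idx} (hneg : RedSub.Enumerates (RedSub.negRoots D.P base) l)
    (hpos : RedSub.Enumerates (RedSub.posRoots D.P base) l') (x : 𝟙_ (Over S) ⟶ Red.Ga S) (hx : IsUnit (Red.gaFn x))
    (p : tb b K ⟶ CellSrc D n m) (y : K) :
    ∃ q : tb b K ⟶ CellSrc D n m,
      q ≫ RedSub.cellMap D l l' = (p ≫ RedSub.cellMap D l l') * ua D (D.P.reflectionPerm a a) y ∨
      q ≫ ((toUnit _ ≫ x ≫ D.u a) * RedSub.cellMap D l l') =
        (p ≫ RedSub.cellMap D l l') * ua D (D.P.reflectionPerm a a) y := by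
  obtain ⟨φ, hφ⟩ := exists_form_base D.P base
  have hl := negList_of_enumerates base hφ hneg
  have hl' := posList_of_enumerates base hφ hpos
  obtain ⟨f, wn, L, wp, hfa, hf, hp, hn, hwn, hwp, hL, hg⟩ :=
    exists_simple_split base ha hφ (inOmega_cellMap hl hl' p) y
  exact exists_lift_two base hfa hf hp hn (hφ a ha) hl hl' x hx hwn hwp hL hg

/-- Right translation of the cell by a simple opposite root group, against a point inducing the reflection. -/
theorem inOmega_mul_root_refl (base : D.P.Base) {a : D.idx} (ha : a ∈ base.support) {φ : D.M →+ ℤ}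
    (hφ : ∀ c ∈ base.support, 0 < φ (D.P.root c)) {nr : 𝟙_ (Over S) ⟶ G} (hnr : IsReflPt D a nr) {g : tb b K ⟶ G}
    (hg : InOmega D φ g) (y : K) :
    InOmega D φ (g * ua D (D.P.reflectionPerm a a) y) ∨
      InOmega D φ ((toUnit _ ≫ nr)⁻¹ * (g * ua D (D.P.reflectionPerm a a) y)) := by
  obtain ⟨f, wn, L, wp, hfa, hf, hp, hn, hwn, hwp, hL, he⟩ := exists_simple_split base ha hφ hg y
  exact cell_or_refl base hnr hfa hf hp hn (hφ a ha) hwn hwp hL he

/-- Right translation of the cell by a simple opposite root group, against a generator of the root group. -/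
theorem inOmega_mul_root_unit (base : D.P.Base) {a : D.idx} (ha : a ∈ base.support) {φ : D.M →+ ℤ}
    (hφ : ∀ c ∈ base.support, 0 < φ (D.P.root c)) {g : tb b K ⟶ G} (hg : InOmega D φ g) (y : K) {c : K} (hc : c ≠ 0) :
    InOmega D φ (g * ua D (D.P.reflectionPerm a a) y) ∨
      InOmega D φ ((ua D a c)⁻¹ * (g * ua D (D.P.reflectionPerm a a) y)) := by
  obtain ⟨f, wn, L, wp, hfa, hf, hp, hn, hwn, hwp, hL, he⟩ := exists_simple_split base ha hφ hg y
  obtain ⟨nr, hnr⟩ := D.refl a
  exact cell_mul_root base hnr hfa hf hp hn (hφ a ha) hwn hwp hL he hc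

/-- A group of semisimple rank one over an algebraically closed field. -/
theorem exists_lift_rankOne (base : D.P.Base) {a : D.idx} (ha : a ∈ RedSub.posRoots D.P base)
    (hR : ∀ c : D.idx, c = a ∨ c = D.P.reflectionPerm a a) {l : Fin n → D.idx}
    {l' : Fin m → D.idx} (hneg : RedSub.Enumerates (RedSub.negRoots D.P base) l)
    (hpos : RedSub.Enumerates (RedSub.posRoots D.P base) l') (x : 𝟙_ (Over S) ⟶ Red.Ga S) (hx : IsUnit (Red.gaFn x))
    (g : tb b K ⟶ G) :
    ∃ q : tb b K ⟶ CellSrc D n m, q ≫ RedSub.cellMap D l l' = g ∨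
      q ≫ ((toUnit _ ≫ x ≫ D.u a) * RedSub.cellMap D l l') = g := by
  obtain ⟨φ, hφ⟩ := exists_form_base D.P base
  have hg : (lam D (0 : D.M →+ ℤ)).IsFixed g := by
    show tG D (tpt D (coVal D 0 (Tu K))) * (tm b CL ≫ g) * (tG D _)⁻¹ = _
    rw [show coVal D (0 : D.M →+ ℤ) (Tu K) = 1 from MonoidHom.ext fun m => by simp [coVal, zpowersHom_apply]]
    rw [show tpt D (1 : Multiplicative D.M →* (LaurentPolynomial K)ˣ) = 1 from map_one (tHom D), tG_one,
      _root_.one_mul, inv_one, _root_.mul_one]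
  refine exists_lift_two base (f := 0) (by simp) (fun r h1 h2 => absurd ?_ h2) (fun r h => by simp at h)
    (fun r h => by simp at h) ((mem_posRoots_iff D.P base hφ a).1.mp ha) (negList_of_enumerates base hφ hneg)
    (posList_of_enumerates base hφ hpos) x hx (Cochar.hasLimOne_one _) (Cochar.hasLimOne_one _) hg
    (by rw [_root_.one_mul, _root_.mul_one])
  rw [(hR r).resolve_left h1, Groth.Agent.RootData.root_neg]

/-- Membership in an image through a geometric point. -/
theorem mem_range_of_lift {X Y : Over S} {A : Type u} [CommRing A] {K : Type u} [Field K] [Algebra A K]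
    {b : Spec (CommRingCat.of A) ⟶ S}
    (M : X ⟶ Y) (p : tb b K ⟶ X) {g : tb b K ⟶ Y} (h : p ≫ M = g) :
    g.left (IsLocalRing.closedPoint K) ∈ Set.range M.left.base :=
  ⟨p.left (IsLocalRing.closedPoint K), by rw [← h]; rfl⟩

end Groth.Agent.RedCell22
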