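import Mathlib.Algebra.Group.Subgroup.Basic
import Mathlib.Algebra.Field.Basic
import Mathlib.Tactic.Group

/-!
# The two cells of a group of semisimple rank one, abstractly
-/

set_option autoImplicit false

universe u v

namespace Groth.Agent.RedCell22

/-- Two root groups, a torus and a point exchanging them. -/
structure Rank1 (K : Type u) [Field K] (Gr : Type v) [Group Gr] where
  p : K → Gr
  m : K → Gr
  T : Subgroup Gr
  N : Gr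
  p_add : ∀ x y, p (x + y) = p x * p y
  m_add : ∀ x y, m (x + y) = m x * m y
  T_p : ∀ t ∈ T, ∀ x, ∃ x', t * p x = p x' * t ∧ (x ≠ 0 → x' ≠ 0)
  T_m : ∀ t ∈ T, ∀ x, ∃ x', t * m x = m x' * t ∧ (x ≠ 0 → x' ≠ 0)
  N_T : ∀ t ∈ T, ∃ t' ∈ T, t * N = N * t'
  T_N : ∀ t ∈ T, ∃ t' ∈ T, N * t = t' * N
  p_N : ∀ x, ∃ x', p x * N = N * m x' ∧ (x ≠ 0 → x' ≠ 0)
  m_N : ∀ x, ∃ x', m x * N = N * p x' ∧ (x ≠ 0 → x' ≠ 0)
  N_sq : N * N ∈ T
  scale : ∀ x y : K, x ≠ 0 → y ≠ 0 → ∃ t ∈ T, t * p x = p y * t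
  scale_m : ∀ x y : K, x ≠ 0 → y ≠ 0 → ∃ t ∈ T, t * m x = m y * t
  decomp : ∃ (y₁ x₁ : K) (t : Gr) (y₂ : K), t ∈ T ∧ x₁ ≠ 0 ∧ y₂ ≠ 0 ∧ N = m y₁ * p x₁ * t * m y₂

namespace Rank1

variable {K : Type u} [Field K] {Gr : Type v} [Group Gr] (R : Rank1 K Gr)

theorem p_zero : R.p 0 = 1 := by simpa using R.p_add 0 0

theorem m_zero : R.m 0 = 1 := by simpa using R.m_add 0 0

/-- The cell. -/
def InCell (g : Gr) : Prop := ∃ y t x, t ∈ R.T ∧ g = R.m y * t * R.p x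

/-- The union of the opposite Borel subgroup and its double coset of the exchanging point. -/
def InTwo (g : Gr) : Prop :=
  (∃ y t, t ∈ R.T ∧ g = R.m y * t) ∨ ∃ y t w, t ∈ R.T ∧ g = R.m y * t * R.N * R.m w

theorem InTwo.mul_m {g : Gr} (h : R.InTwo g) (z : K) : R.InTwo (g * R.m z) := by
  rcases h with ⟨y, t, ht, rfl⟩ | ⟨y, t, w, ht, rfl⟩
  · obtain ⟨z', hz', -⟩ := R.T_m t ht z
    exact Or.inl ⟨y + z', t, ht, by rw [mul_assoc, hz', R.m_add]; group⟩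
  · exact Or.inr ⟨y, t, w + z, ht, by rw [R.m_add]; group⟩

theorem InTwo.mul_T {g : Gr} (h : R.InTwo g) {s : Gr} (hs : s ∈ R.T) : R.InTwo (g * s) := by
  rcases h with ⟨y, t, ht, rfl⟩ | ⟨y, t, w, ht, rfl⟩
  · exact Or.inl ⟨y, t * s, mul_mem ht hs, by group⟩
  · obtain ⟨w', hw', -⟩ := R.T_m s⁻¹ (inv_mem hs) w
    obtain ⟨s', hs', hNs⟩ := R.T_N s hs
    refine Or.inr ⟨y, t * s', w', mul_mem ht hs', ?_⟩
    calc R.m y * t * R.N * R.m w * s = R.m y * t * R.N * (s * (s⁻¹ * R.m w) * s) := by group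
      _ = R.m y * t * (R.N * s) * R.m w' := by rw [hw']; group
      _ = _ := by rw [hNs]; group

theorem InTwo.mul_N {g : Gr} (h : R.InTwo g) : R.InTwo (g * R.N) := by
  rcases h with ⟨y, t, ht, rfl⟩ | ⟨y, t, w, ht, rfl⟩
  · exact Or.inr ⟨y, t, 0, ht, by rw [R.m_zero, mul_one]⟩
  obtain ⟨w', hw', -⟩ := R.m_N w
  have e : R.m y * t * R.N * R.m w * R.N = R.m y * (t * (R.N * R.N)) * R.p w' := by
    rw [mul_assoc (R.m y * t * R.N) (R.m w) R.N, hw']; group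
  rw [e]
  have ht' : t * (R.N * R.N) ∈ R.T := mul_mem ht R.N_sq
  generalize t * (R.N * R.N) = s at ht' ⊢
  by_cases hw0 : w' = 0
  · subst hw0
    exact Or.inl ⟨y, s, ht', by rw [R.p_zero, mul_one]⟩
  obtain ⟨y₁, x₁, t₁, y₂, ht₁, hx₁, -, hN⟩ := R.decomp
  obtain ⟨τ, hτ, hτp⟩ := R.scale x₁ w' hx₁ hw0
  have hp : R.p w' = τ * R.m (-y₁) * R.N * R.m (-y₂) * t₁⁻¹ * τ⁻¹ := by
    have h1 : R.p w' = τ * R.p x₁ * τ⁻¹ := by rw [hτp]; group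
    have h2 : ∀ x, R.m (-x) = (R.m x)⁻¹ := fun x => by
      rw [eq_inv_iff_mul_eq_one, ← R.m_add, neg_add_cancel, R.m_zero]
    rw [h1, hN, h2, h2]; group
  rw [hp]
  obtain ⟨a, ha, -⟩ := R.T_m (s * τ) (mul_mem ht' hτ) (-y₁)
  have h3 : R.InTwo (R.m (y + a) * (s * τ) * R.N * R.m (-y₂)) := Or.inr ⟨_, _, _, mul_mem ht' hτ, rfl⟩
  have h4 := h3.mul_T R (mul_mem (inv_mem ht₁) (inv_mem hτ))
  convert h4 using 1
  calc R.m y * s * (τ * R.m (-y₁) * R.N * R.m (-y₂) * t₁⁻¹ * τ⁻¹)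
      = R.m y * (s * τ * R.m (-y₁)) * R.N * R.m (-y₂) * (t₁⁻¹ * τ⁻¹) := by group
    _ = _ := by rw [ha, R.m_add]; group

theorem InTwo.mul_p {g : Gr} (h : R.InTwo g) (x : K) : R.InTwo (g * R.p x) := by
  obtain ⟨x', hx', -⟩ := R.p_N x
  have e : g * R.p x = g * R.N * R.m x' * R.N * (R.N * R.N)⁻¹ := by
    calc g * R.p x = g * (R.p x * R.N) * R.N⁻¹ := by group
      _ = _ := by rw [hx']; group
  rw [e]
  exact (((h.mul_N R).mul_m R x').mul_N R).mul_T R (inv_mem R.N_sq)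

theorem exists_cell_N_m {w : K} (hw : w ≠ 0) : R.InCell (R.N * R.m w) := by
  obtain ⟨y₁, x₁, t₁, y₂, ht₁, -, hy₂, hN⟩ := R.decomp
  obtain ⟨τ, hτ, hτm⟩ := R.scale_m (-y₂) w (neg_ne_zero.mpr hy₂) hw
  obtain ⟨τ', hτ', hNτ⟩ := R.T_N τ hτ
  obtain ⟨y', hy', -⟩ := R.T_m τ' hτ' y₁
  obtain ⟨x', hx', -⟩ := R.T_p τ' hτ' x₁
  have h1 : R.N * R.m (-y₂) = R.m y₁ * R.p x₁ * t₁ := by
    rw [hN, mul_assoc, ← R.m_add, add_neg_cancel, R.m_zero, mul_one]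
  obtain ⟨x'', hx'', -⟩ := R.T_p (τ' * t₁ * τ⁻¹)⁻¹ (inv_mem (mul_mem (mul_mem hτ' ht₁) (inv_mem hτ))) x'
  refine ⟨y', τ' * t₁ * τ⁻¹, x'', mul_mem (mul_mem hτ' ht₁) (inv_mem hτ), ?_⟩
  calc R.N * R.m w = R.N * (R.m w * τ) * τ⁻¹ := by group
    _ = (R.N * τ) * R.m (-y₂) * τ⁻¹ := by rw [← hτm]; group
    _ = τ' * (R.N * R.m (-y₂)) * τ⁻¹ := by rw [hNτ]; group
    _ = (τ' * R.m y₁) * R.p x₁ * t₁ * τ⁻¹ := by rw [h1]; group
    _ = R.m y' * (τ' * R.p x₁) * t₁ * τ⁻¹ := by rw [hy']; group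
    _ = R.m y' * (R.p x' * (τ' * t₁ * τ⁻¹)) := by rw [hx']; group
    _ = R.m y' * ((τ' * t₁ * τ⁻¹) * ((τ' * t₁ * τ⁻¹)⁻¹ * R.p x')) * (τ' * t₁ * τ⁻¹) := by group
    _ = _ := by rw [hx'']; group

/-- Every product is in the cell or in the translate of the Borel subgroup by the exchanging point. -/
theorem inCell_or {g : Gr} (h : R.InTwo g) : R.InCell g ∨ ∃ r t, t ∈ R.T ∧ g = R.N * R.p r * t := by
  rcases h with ⟨y, t, ht, rfl⟩ | ⟨y, t, w, ht, rfl⟩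
  · exact Or.inl ⟨y, t, 0, ht, by rw [R.p_zero, mul_one]⟩
  by_cases hw : w = 0
  · subst hw
    obtain ⟨t', ht', htN⟩ := R.N_T t ht
    obtain ⟨y', hy', -⟩ := R.m_N y
    refine Or.inr ⟨y', t', ht', ?_⟩
    rw [R.m_zero, mul_one, mul_assoc, htN, ← mul_assoc, hy']
  · obtain ⟨y', t', x', ht', h'⟩ := R.exists_cell_N_m hw
    obtain ⟨y'', hy'', -⟩ := R.T_m t ht y'
    refine Or.inl ⟨y + y'', t * t', x', mul_mem ht ht', ?_⟩
    calc R.m y * t * R.N * R.m w = R.m y * t * (R.N * R.m w) := by group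
      _ = R.m y * (t * R.m y') * t' * R.p x' := by rw [h']; group
      _ = _ := by rw [hy'', R.m_add]; group

/-- A non-trivial element of the root group moves the translate into the cell. -/
theorem inCell_p_mul {x : K} (hx : x ≠ 0) (r : K) {t : Gr} (ht : t ∈ R.T) :
    R.InCell (R.p x * (R.N * R.p r * t)) := by
  obtain ⟨w, hw, hwne⟩ := R.p_N x
  obtain ⟨y, s, x', hs, h⟩ := R.exists_cell_N_m (hwne hx)
  obtain ⟨x'', hx'', -⟩ := R.T_p t⁻¹ (inv_mem ht) (x' + r)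
  refine ⟨y, s * t, x'', mul_mem hs ht, ?_⟩
  calc R.p x * (R.N * R.p r * t) = (R.p x * R.N) * R.p r * t := by group
    _ = (R.N * R.m w) * R.p r * t := by rw [hw]
    _ = R.m y * s * (t * (t⁻¹ * (R.p x' * R.p r))) * t := by rw [h]; group
    _ = _ := by rw [← R.p_add, hx'']; group

end Rank1

end Groth.Agent.RedCell22
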