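import Groth.Agent.RedCell22.RankOneField

/-!
# The form attached to a simple root, and geometric points
-/

set_option autoImplicit false
set_option linter.unusedSectionVars false
set_option linter.style.haveILetI false

universe u

open CategoryTheory CategoryTheory.Limits AlgebraicGeometry MonoidalCategory CartesianMonoidalCategory
open MonObj GrpObj

noncomputable section

namespace Groth.Agent.RedCell22

variable {S : Scheme.{u}} {G : Over S} [GrpObj G] {D : Red.SplitRed G}

/-- A form killing a simple root and separating the other positive roots from the negative ones. -/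
theorem exists_simple_form (base : D.P.Base) {a : D.idx} (ha : a ∈ base.support) {φ : D.M →+ ℤ}
    (hφ : ∀ c ∈ base.support, 0 < φ (D.P.root c)) :
    ∃ f : D.M →+ ℤ, f (D.P.root a) = 0 ∧ (∀ r, r ≠ a → D.P.root r ≠ -D.P.root a → f (D.P.root r) ≠ 0) ∧
      (∀ r, 0 < f (D.P.root r) → 0 < φ (D.P.root r)) ∧ ∀ r, f (D.P.root r) < 0 → φ (D.P.root r) < 0 := by
  let f : D.M →+ ℤ := (2 : ℤ) • φ - φ (D.P.root a) • (D.P.coroot a).toAddMonoidHom
  have hfr : ∀ r, f (D.P.root r) = 2 * φ (D.P.root r) - φ (D.P.root a) * D.P.pairing r a := fun r => by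
    simp [f, coroot_root]
  have hfa : f (D.P.root a) = 0 := by rw [hfr, D.P.pairing_same]; ring
  have hsimple : ∀ c ∈ base.support, c ≠ a → 0 < f (D.P.root c) := fun c hc hne => by
    have h1 := base.pairingIn_le_zero_of_ne hne hc ha
    have e : D.P.pairingIn ℤ c a = D.P.pairing c a := by simpa using D.P.algebraMap_pairingIn ℤ c a
    rw [e] at h1
    rw [hfr]
    have := hφ c hc
    have := hφ a ha
    nlinarith
  have hcl : ∀ x ∈ AddSubmonoid.closure (D.P.root '' (base.support : Set D.idx)),
      0 ≤ f x ∧ (f x = 0 → ∃ k : ℕ, x = k • D.P.root a) := fun x hx => by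
    induction hx using AddSubmonoid.closure_induction with
    | mem y hy =>
      obtain ⟨c, hc, rfl⟩ := hy
      by_cases h : c = a
      · subst h
        exact ⟨hfa.ge, fun _ => ⟨1, (one_smul _ _).symm⟩⟩
      · exact ⟨(hsimple c hc h).le, fun h0 => absurd h0 (hsimple c hc h).ne'⟩
    | zero => exact ⟨by simp, fun _ => ⟨0, (zero_smul _ _).symm⟩⟩
    | add y z _ _ hy hz =>
      rw [map_add]
      refine ⟨add_nonneg hy.1 hz.1, fun h0 => ?_⟩
      obtain ⟨k, hk⟩ := hy.2 (by linarith [hy.1, hz.1])
      obtain ⟨l, hl⟩ := hz.2 (by linarith [hy.1, hz.1])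
      exact ⟨k + l, by rw [add_smul, hk, hl]⟩
  have hnot : ∀ r, r ≠ a → D.P.root r ≠ -D.P.root a → ∀ k : ℤ, D.P.root r ≠ k • D.P.root a :=
    fun r h1 h2 k h3 => by
      have := indep_of_base base h1 h2 (-k) 1 (by rw [neg_smul, one_smul, h3, neg_add_cancel])
      exact one_ne_zero this.2
  refine ⟨f, hfa, fun r h1 h2 h0 => ?_, fun r h0 => ?_, fun r h0 => ?_⟩
  · rcases base.root_mem_or_neg_mem r with h | h
    · obtain ⟨k, hk⟩ := (hcl _ h).2 h0
      exact hnot r h1 h2 k (by rw [hk, natCast_zsmul])
    · obtain ⟨k, hk⟩ := (hcl _ h).2 (by rw [map_neg, h0, neg_zero])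
      exact hnot r h1 h2 (-k) (by rw [neg_smul, natCast_zsmul, ← hk, neg_neg])
  · rcases base.root_mem_or_neg_mem r with h | h
    · exact (nonneg_of_mem_closure D.P base hφ h).2 (D.P.ne_zero r)
    · have := (hcl _ h).1
      rw [map_neg] at this
      linarith
  · rcases base.root_mem_or_neg_mem r with h | h
    · exact absurd (hcl _ h).1 (not_le.mpr h0)
    · have := (nonneg_of_mem_closure D.P base hφ h).2 (neg_ne_zero.mpr (D.P.ne_zero r))
      rw [map_neg] at this
      linarith

/-- Every point is the image of a point over an algebraically closed field. -/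
theorem exists_geom_point {X : Over S} (p : ↥X.left) :
    ∃ (K : Type u) (_ : Field K) (_ : IsAlgClosed K) (b : Spec (CommRingCat.of K) ⟶ S) (q : tb b K ⟶ X),
      q.left (IsLocalRing.closedPoint K) = p := by
  let K := AlgebraicClosure (X.left.residueField p)
  let pt : Spec (CommRingCat.of K) ⟶ X.left :=
    Spec.map (CommRingCat.ofHom (algebraMap (X.left.residueField p) K)) ≫ X.left.fromSpecResidueField p
  exact ⟨K, inferInstance, inferInstance, _, testMap pt, Scheme.fromSpecResidueField_apply p _⟩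

/-- The coordinate of a constant point of the additive group. -/
theorem exists_coord_const (x : 𝟙_ (Over S) ⟶ Red.Ga S) {A : Type u} [CommRing A] {K : Type u} [CommRing K]
    [Algebra A K] [Nontrivial K] (b : Spec (CommRingCat.of A) ⟶ S) (hx : IsUnit (Red.gaFn x)) :
    ∃ c : K, c ≠ 0 ∧ IsUnit c ∧ (toUnit (tb b K) ≫ x : tb b K ⟶ Red.Ga S) = gaPt c := by
  refine ⟨_, ?_, ?_, (gaPt_gaFn (toUnit (tb b K) ≫ x)).symm⟩
  · exact (((GrpSchLib.GaPts.gaFn_comp (toUnit (tb b K)) x).symm ▸ hx.map _).map (gs (b := b) (B := K))).ne_zero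
  · exact ((GrpSchLib.GaPts.gaFn_comp (toUnit (tb b K)) x).symm ▸ hx.map _).map (gs (b := b) (B := K))

end Groth.Agent.RedCell22
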