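import Groth.Agent.RedCell22.TorusPts
import Groth.Agent.RedCell22.Kernel
import Groth.Agent.GrpSchLib.GaPts

/-!
# Root groups, torus and cocharacters of a splitting on ring-valued points
-/

set_option autoImplicit false
set_option linter.unusedSectionVars false
set_option linter.style.haveILetI false

universe u

open CategoryTheory CategoryTheory.Limits AlgebraicGeometry MonoidalCategory CartesianMonoidalCategory
open MonObj GrpObj
open scoped LaurentPolynomial
noncomputable section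

namespace Groth.Agent.RedCell22

open GrpSchLib

variable {S : Scheme.{u}} {A : Type u} [CommRing A] {b : Spec (CommRingCat.of A) ⟶ S}
variable {B C : Type u} [CommRing B] [Algebra A B] [CommRing C] [Algebra A C]
variable {G : Over S} [GrpObj G] (D : Red.SplitRed G)

include D in
theorem isAffineHom_of_split : IsAffineHom G.hom := D.reductive.1

/-- A point of the additive group with given coordinate. -/
def gaPt (x : B) : tb b B ⟶ Red.Ga S := GaPts.ptOfFn ((gs (b := b)).symm x)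

theorem gs_gaFn_gaPt (x : B) : gs (Red.gaFn (gaPt x : tb b B ⟶ Red.Ga S)) = x := by
  rw [gaPt, GaPts.gaFn_ptOfFn, RingEquiv.apply_symm_apply]

theorem gaPt_gaFn (p : tb b B ⟶ Red.Ga S) : gaPt (gs (Red.gaFn p)) = p :=
  GaPts.gaFn_injective (by show Red.gaFn (gaPt _) = _; rw [gaPt, GaPts.gaFn_ptOfFn, RingEquiv.symm_apply_apply])

theorem gaPt_add (x y : B) : (gaPt (x + y) : tb b B ⟶ Red.Ga S) = gaPt x * gaPt y :=
  GaPts.gaFn_injective (by
    show Red.gaFn (gaPt _) = Red.gaFn (_ * _)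
    rw [GaPts.gaFn_mul, gaPt, gaPt, gaPt, GaPts.gaFn_ptOfFn, GaPts.gaFn_ptOfFn, GaPts.gaFn_ptOfFn, map_add])

theorem gaPt_map (φ : B →ₐ[A] C) (x : B) : tm b φ ≫ (gaPt x : tb b B ⟶ Red.Ga S) = gaPt (φ x) := by
  refine GaPts.gaFn_injective ?_
  show Red.gaFn (_ ≫ gaPt x) = Red.gaFn (gaPt (φ x))
  rw [GaPts.gaFn_comp, gaPt, gaPt, GaPts.gaFn_ptOfFn, GaPts.gaFn_ptOfFn]
  refine (gs (b := b) (B := C)).injective ?_
  rw [gs_map, RingEquiv.apply_symm_apply, RingEquiv.apply_symm_apply]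

/-- The value of a root homomorphism at an element. -/
def ua (a : D.idx) (x : B) : tb b B ⟶ G := gaPt x ≫ D.u a

theorem ua_add (a : D.idx) (x y : B) : (ua D a (x + y) : tb b B ⟶ G) = ua D a x * ua D a y := by
  haveI : IsMonHom (D.u a) := (D.rootHom a).1
  rw [ua, gaPt_add, MonObj.mul_comp]; rfl

theorem ua_zero (a : D.idx) : (ua D a (0 : B) : tb b B ⟶ G) = 1 := by
  have h := ua_add D (b := b) a (0 : B) 0
  rw [_root_.add_zero] at h
  exact mul_eq_left.mp h.symm

theorem ua_neg (a : D.idx) (x : B) : (ua D a (-x) : tb b B ⟶ G) = (ua D a x)⁻¹ := by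
  rw [eq_inv_iff_mul_eq_one, ← ua_add, neg_add_cancel, ua_zero]

theorem ua_map (φ : B →ₐ[A] C) (a : D.idx) (x : B) : tm b φ ≫ (ua D a x : tb b B ⟶ G) = ua D a (φ x) := by
  rw [ua, ← Category.assoc, gaPt_map]; rfl

theorem ua_injective (a : D.idx) : Function.Injective (ua D a : B → (tb b B ⟶ G)) := by
  intro x y h
  haveI : IsClosedImmersion (D.u a).left := (D.rootHom a).2.1
  haveI : Mono (D.u a) := (Over.forget S).mono_of_mono_map (inferInstanceAs (Mono (D.u a).left))
  have h' := (cancel_mono (D.u a)).mp h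
  have := congrArg (fun q => gs (Red.gaFn q)) h'
  exact (gs_gaFn_gaPt x).symm.trans (this.trans (gs_gaFn_gaPt y))

/-- A point of the torus inside the group. -/
def tG (t : tb b B ⟶ D.T) : tb b B ⟶ G := t ≫ D.i

theorem tG_mul (t t' : tb b B ⟶ D.T) : tG D (t * t') = tG D t * tG D t' := by
  haveI : IsMonHom D.i := D.maximalTorus.1
  exact MonObj.mul_comp _ _ _

theorem tG_injective : Function.Injective (tG D : (tb b B ⟶ D.T) → (tb b B ⟶ G)) := fun _ _ h => by
  haveI : Mono D.i := D.maximalTorus.2.1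
  exact (cancel_mono D.i).mp h

theorem tG_map (φ : B →ₐ[A] C) (t : tb b B ⟶ D.T) : tm b φ ≫ tG D t = tG D (tm b φ ≫ t) :=
  (Category.assoc _ _ _).symm

/-- The inclusion of the points of the torus. -/
def tGHom : (tb b B ⟶ D.T) →* (tb b B ⟶ G) := MonoidHom.mk' (tG D) (tG_mul D)

theorem tG_one : tG D (1 : tb b B ⟶ D.T) = 1 := map_one (tGHom D)

theorem tG_inv (t : tb b B ⟶ D.T) : tG D t⁻¹ = (tG D t)⁻¹ := map_inv (tGHom D) t

theorem torus_comm (t t' : tb b B ⟶ D.T) : t * t' = t' * t := by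
  obtain ⟨χ, rfl⟩ := tpt_surjective D t
  obtain ⟨χ', rfl⟩ := tpt_surjective D t'
  rw [← tpt_mul, ← tpt_mul, _root_.mul_comm χ χ']

/-- The action of the torus on a root group. -/
theorem conj_ua (t : tb b B ⟶ D.T) (a : D.idx) (x : B) :
    tG D t * ua D a x * (tG D t)⁻¹ = ua D a ((chr D (D.P.root a) t : B) * x) := by
  obtain ⟨y, hy, hfn⟩ := (D.rootHom a).2.2 (tb b B) t (gaPt x)
  refine hy.symm.trans ?_
  show y ≫ D.u a = gaPt _ ≫ D.u a
  congr 1
  rw [← gaPt_gaFn y, hfn, map_mul, gs_gaFn_gaPt]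
  rfl

theorem tG_mul_ua (t : tb b B ⟶ D.T) (a : D.idx) (x : B) :
    tG D t * ua D a x = ua D a ((chr D (D.P.root a) t : B) * x) * tG D t := by
  rw [← conj_ua, inv_mul_cancel_right]

/-- The character of a cocharacter. -/
def coVal (f : D.M →+ ℤ) (z : Bˣ) : Multiplicative D.M →* Bˣ :=
  (zpowersHom Bˣ z).comp (AddMonoidHom.toMultiplicative f)

theorem coVal_apply (f : D.M →+ ℤ) (z : Bˣ) (m : D.M) : coVal D f z (Multiplicative.ofAdd m) = z ^ f m := by
  simp [coVal, zpowersHom_apply]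

theorem coVal_mul (f : D.M →+ ℤ) (z w : Bˣ) : coVal D f (z * w) = coVal D f z * coVal D f w := by
  refine MonoidHom.ext fun m => ?_
  simp [coVal, zpowersHom_apply, mul_zpow]

/-- The cocharacter of the torus given by a linear form. -/
def lam (f : D.M →+ ℤ) : Cochar b G where
  val B _ _ := MonoidHom.mk' (fun z => tG D (tpt D (coVal D f z)))
    fun z w => by rw [coVal_mul, tpt_mul, tG_mul]
  map {B C} _ _ _ _ φ z := by
    show tm b φ ≫ tG D _ = tG D _
    rw [tG_map, tpt_map]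
    congr 2
    refine MonoidHom.ext fun m => ?_
    simp [coVal, zpowersHom_apply]

theorem chr_coVal (f : D.M →+ ℤ) (z : Bˣ) (m : D.M) :
    chr D m (tpt D (coVal D f z) : tb b B ⟶ D.T) = z ^ f m := by rw [chr_tpt, coVal_apply]

theorem conj_lam_ua (f : D.M →+ ℤ) (z : Bˣ) (a : D.idx) (x : B) :
    (lam D f).conj (ua D a x : tb b B ⟶ G) z = ua D a (((z ^ f (D.P.root a) : Bˣ) : B) * x) := by
  refine (conj_ua D _ a x).trans ?_
  rw [chr_coVal]

theorem conj_lam_tG (f : D.M →+ ℤ) (z : Bˣ) (t : tb b B ⟶ D.T) : (lam D f).conj (tG D t) z = tG D t := by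
  show tG D _ * tG D t * (tG D _)⁻¹ = _
  rw [← tG_mul, torus_comm, tG_mul, mul_inv_cancel_right]

theorem orb_ua (f : D.M →+ ℤ) (a : D.idx) (x : B) :
    (lam D f).orb (ua D a x : tb b B ⟶ G) =
      ua D a (LaurentPolynomial.C x * LaurentPolynomial.T (f (D.P.root a))) := by
  rw [Cochar.orb, ua_map, conj_lam_ua, Tu_zpow, CL_apply, _root_.mul_comm]

theorem fixed_tG (f : D.M →+ ℤ) (t : tb b B ⟶ D.T) : (lam D f).IsFixed (tG D t) := by
  show (lam D f).conj _ _ = _
  rw [tG_map, conj_lam_tG]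

theorem hasLimOne_ua {f : D.M →+ ℤ} {a : D.idx} (h : 0 < f (D.P.root a)) (x : B) :
    (lam D f).HasLimOne (ua D a x : tb b B ⟶ G) := by
  obtain ⟨k, hk⟩ := Int.eq_ofNat_of_zero_le h.le
  refine ⟨ua D a (Polynomial.monomial k x), ?_, ?_⟩
  · rw [ua_map, orb_ua, hk]
    congr 1
    exact Polynomial.toLaurent_C_mul_T k x
  · rw [ua_map, ← ua_zero D a]
    congr 1
    show Polynomial.aeval (0 : B) (Polynomial.monomial k x) = 0
    rw [Polynomial.aeval_monomial, zero_pow (by omega), mul_zero]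

theorem fixed_ua {f : D.M →+ ℤ} {a : D.idx} (h : f (D.P.root a) = 0) (x : B) :
    (lam D f).IsFixed (ua D a x : tb b B ⟶ G) := by
  rw [Cochar.IsFixed, orb_ua, h, ua_map, LaurentPolynomial.T_zero, _root_.mul_one, CL_apply]

end Groth.Agent.RedCell22
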