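import Groth.Agent.RedCell22.SplitPts
import Mathlib.Algebra.DualNumber
import Mathlib.LinearAlgebra.FreeModule.PID
import Mathlib.RingTheory.Nakayama

/-!
# Tangent vectors at the unit of the root groups and of the torus
-/

set_option autoImplicit false
set_option linter.unusedSectionVars false
set_option linter.style.haveILetI false

universe u

open CategoryTheory CategoryTheory.Limits AlgebraicGeometry MonoidalCategory CartesianMonoidalCategory
open MonObj GrpObj
open scoped LaurentPolynomial

noncomputable section

namespace Groth.Agent.RedCell22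

variable {S : Scheme.{u}} {A : Type u} [CommRing A] {b : Spec (CommRingCat.of A) ⟶ S}
variable {B C : Type u} [CommRing B] [Algebra A B] [CommRing C] [Algebra A C]
variable {G : Over S} [GrpObj G] (D : Red.SplitRed G)

/-- The indices of the tangent vectors. -/
abbrev TIdx : Type := D.idx ⊕ Module.Free.ChooseBasisIndex ℤ D.M

/-- The coordinates of the character group. -/
def coordFn (i : Module.Free.ChooseBasisIndex ℤ D.M) : D.M →+ ℤ :=
  ((Module.Free.chooseBasis ℤ D.M).coord i).toAddMonoidHom

/-- The weight of a tangent vector. -/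
def deg (f : D.M →+ ℤ) : TIdx D → ℤ := Sum.elim (fun a => f (D.P.root a)) 0

/-- A unit congruent to one. -/
def sqUnit (x : B) (hx : x * x = 0) : Bˣ where
  val := 1 + x
  inv := 1 - x
  val_inv := by linear_combination -hx
  inv_val := by linear_combination -hx

/-- The infinitesimal points. -/
def el : TIdx D → (x : B) → x * x = 0 → (tb b B ⟶ G)
  | .inl a, x, _ => ua D a x
  | .inr i, x, hx => tG D (tpt D (coVal D (coordFn D i) (sqUnit x hx)))

theorem el_congr (j : TIdx D) {x y : B} (h : x = y) (hx : x * x = 0) (hy : y * y = 0) :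
    (el D j x hx : tb b B ⟶ G) = el D j y hy := by subst h; rfl

theorem sq_map (φ : B →ₐ[A] C) {x : B} (hx : x * x = 0) : φ x * φ x = 0 := by rw [← map_mul, hx, map_zero]

theorem el_map (φ : B →ₐ[A] C) (j : TIdx D) (x : B) (hx : x * x = 0) :
    tm b φ ≫ (el D j x hx : tb b B ⟶ G) = el D j (φ x) (sq_map φ hx) := by
  cases j with
  | inl a => exact ua_map D φ a x
  | inr i =>
    show tm b φ ≫ tG D _ = tG D _
    rw [tG_map, tpt_map]
    congr 2
    refine MonoidHom.ext fun m => ?_
    have : Units.map (φ : B →* C) (sqUnit x hx) = sqUnit (φ x) (sq_map φ hx) := Units.ext (by simp [sqUnit])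
    rw [← this]
    simp [coVal, zpowersHom_apply]

theorem el_zero (j : TIdx D) : (el D j (0 : B) (mul_zero 0) : tb b B ⟶ G) = 1 := by
  cases j with
  | inl a => exact ua_zero D a
  | inr i =>
    show tG D (tpt D _) = 1
    rw [show coVal D (coordFn D i) (sqUnit (0 : B) (mul_zero 0)) = 1 from MonoidHom.ext fun m => by
      rw [show sqUnit (0 : B) (mul_zero 0) = 1 from Units.ext (by simp [sqUnit])]
      simp [coVal, zpowersHom_apply]]
    exact map_one ((tGHom D).comp (tHom D))

theorem orb_el (f : D.M →+ ℤ) (j : TIdx D) (x : B) (hx : x * x = 0)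
    (hx' : (LaurentPolynomial.C x * LaurentPolynomial.T (deg D f j)) *
      (LaurentPolynomial.C x * LaurentPolynomial.T (deg D f j)) = 0) :
    (lam D f).orb (el D j x hx : tb b B ⟶ G) =
      el D j (LaurentPolynomial.C x * LaurentPolynomial.T (deg D f j)) hx' := by
  cases j with
  | inl a => exact orb_ua D f a x
  | inr i =>
    refine (fixed_tG D f _).trans ?_
    exact (el_map D (CL (A := A)) (.inr i) x hx).trans (el_congr D _ (by simp [deg, CL_apply]) _ _)

/-- The algebra map out of dual numbers given by a square-zero element. -/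
def dualTo (x : B) (hx : x * x = 0) : DualNumber A →ₐ[A] B :=
  DualNumber.lift ⟨(Algebra.ofId A B, x), hx, fun a => Commute.all _ _⟩

theorem dualTo_apply (x : B) (hx : x * x = 0) (z : DualNumber A) :
    dualTo x hx z = algebraMap A B z.fst + algebraMap A B z.snd * x := rfl

variable [IsAffineHom G.hom]

/-- The tangent functionals. -/
def del (j : TIdx D) : FunRing b G →ₗ[A] A :=
  (TrivSqZeroExt.sndHom A A).comp (dl (el D j (DualNumber.eps : DualNumber A) DualNumber.eps_mul_eps : tb b _ ⟶ G))

theorem dl_el (j : TIdx D) (x : B) (hx : x * x = 0) (g : FunRing b G) :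
    dl (el D j x hx : tb b B ⟶ G) g = algebraMap A B (del D j g) * x := by
  have e : dualTo (A := A) x hx DualNumber.eps = x := by simp [dualTo_apply]
  have h1 := el_map D (b := b) (dualTo (A := A) x hx) j DualNumber.eps DualNumber.eps_mul_eps
  rw [el_congr D j e.symm hx (by rw [e, hx])]
  refine (congrArg (fun q => dl q g) h1.symm).trans ?_
  rw [dl_map, dualTo_apply]
  have h0 : (dl (el D j (DualNumber.eps : DualNumber A) DualNumber.eps_mul_eps : tb b _ ⟶ G) g).fst = 0 := by
    have hh := dl_map (TrivSqZeroExt.fstHom A A A)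
      (el D j (DualNumber.eps : DualNumber A) DualNumber.eps_mul_eps : tb b _ ⟶ G) g
    rw [el_map, el_congr D j (show TrivSqZeroExt.fstHom A A A DualNumber.eps = 0 from DualNumber.fst_eps (R := A)) _ (mul_zero 0),
      el_zero, dl_one] at hh
    exact hh.symm
  rw [h0, map_zero, zero_add]
  rfl

theorem inf_el {I : Ideal B} (j : TIdx D) {x : B} (hx : x ∈ I) (hx2 : x * x = 0) :
    Inf I (el D j x hx2 : tb b B ⟶ G) := fun g => by
  rw [dl_el]; exact I.mul_mem_left _ hx

theorem del_mul (j : TIdx D) (g g' : FunRing b G) :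
    del D j (g * g') = eps b G g * del D j g' + eps b G g' * del D j g := by
  let ε : DualNumber A := DualNumber.eps
  have hI : (Ideal.span {ε}) ^ 2 = ⊥ := by
    rw [Ideal.span_singleton_pow, DualNumber.eps_pow_two, Ideal.span_singleton_eq_bot]
  have h := congrArg TrivSqZeroExt.snd (dl_mul_fun hI
    (inf_el D (b := b) j (Ideal.mem_span_singleton_self ε) DualNumber.eps_mul_eps) g g')
  simp only [dl_el] at h
  simpa [ε, TrivSqZeroExt.algebraMap_eq_inl] using h

theorem del_one (j : TIdx D) : del D (b := b) j 1 = 0 := by simpa using del_mul D (b := b) j 1 1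

theorem del_algebraMap (j : TIdx D) (a : A) : del D (b := b) j (algebraMap A _ a) = 0 := by
  rw [Algebra.algebraMap_eq_smul_one, map_smul, del_one, smul_zero]

/-- The weight rule. -/
theorem del_proj (f : D.M →+ ℤ) (j : TIdx D) (n : ℤ) (g : FunRing b G) :
    del D j ((lam D f).proj n g) = if n = deg D f j then del D j g else 0 := by
  let ε : DualNumber A := DualNumber.eps
  have hε : (LaurentPolynomial.C ε * LaurentPolynomial.T (deg D f j)) *
      (LaurentPolynomial.C ε * LaurentPolynomial.T (deg D f j)) = 0 := by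
    have h0 : LaurentPolynomial.C ε * LaurentPolynomial.C ε = 0 := by rw [← map_mul, DualNumber.eps_mul_eps, map_zero]
    linear_combination (LaurentPolynomial.T (deg D f j) * LaurentPolynomial.T (deg D f j)) * h0
  have h := Cochar.coeff_ev_orb (lam D f) (el D j ε DualNumber.eps_mul_eps : tb b _ ⟶ G) n g
  rw [orb_el D f j ε _ hε] at h
  have e1 : ∀ (q : tb b (DualNumber A) ⟶ G) (z : FunRing b G),
      ev b q z = algebraMap A _ (eps b G z) + dl q z := fun q z => by rw [dl_apply]; ring
  have e2 : ∀ (q : tb b (LaurentPolynomial (DualNumber A)) ⟶ G) (z : FunRing b G),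
      ev b q z = algebraMap A _ (eps b G z) + dl q z := fun q z => by rw [dl_apply]; ring
  rw [e1, e2, dl_el, dl_el] at h
  rw [AddMonoidAlgebra.coeff_add, Finsupp.add_apply, LaurentPolynomial.algebraMap_apply,
    LaurentPolynomial.algebraMap_apply, LaurentPolynomial.C_apply, ← _root_.mul_assoc, ← map_mul,
    ← LaurentPolynomial.single_eq_C_mul_T, AddMonoidAlgebra.coeff_single, Finsupp.single_apply] at h
  have h' := congrArg TrivSqZeroExt.snd h
  have hs : ∀ (p : Prop) [Decidable p] (x : DualNumber A),
      TrivSqZeroExt.snd (if p then x else 0) = if p then TrivSqZeroExt.snd x else 0 := fun p _ x => by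
    split <;> simp
  simp only [TrivSqZeroExt.snd_add, hs, ε, TrivSqZeroExt.algebraMap_eq_inl, TrivSqZeroExt.snd_inl,
    DualNumber.snd_mul, TrivSqZeroExt.fst_inl, DualNumber.snd_eps, DualNumber.fst_eps, _root_.mul_one, mul_zero,
    _root_.zero_add, _root_.add_zero, ite_self] at h'
  rw [← h']
  exact if_congr eq_comm rfl rfl

end Groth.Agent.RedCell22
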