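import Groth.Agent.RedCell22.Limits
import Groth.Agent.DSPtsLib.Basic
import Groth.Prelude.Def_GmPts
import Groth.Prelude.Def_Red2

/-!
# Points of the split torus of a splitting as homomorphisms of the character group to units
-/

set_option autoImplicit false
set_option linter.unusedSectionVars false

universe u

open CategoryTheory CategoryTheory.Limits AlgebraicGeometry MonoidalCategory CartesianMonoidalCategory
open MonObj GrpObj

noncomputable section

namespace Groth.Agent.RedCell22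

variable {S : Scheme.{u}} {A : Type u} [CommRing A] {b : Spec (CommRingCat.of A) ⟶ S}
variable {B C : Type u} [CommRing B] [Algebra A B] [CommRing C] [Algebra A C]
variable {M N : Type} [AddCommGroup M] [AddCommGroup N]

/-- Global functions on a test object. -/
def gs : Γ((tb b B).left, ⊤) ≃+* B := (Scheme.ΓSpecIso (CommRingCat.of B)).commRingCatIsoToRingEquiv

theorem gs_map (φ : B →ₐ[A] C) (z : Γ((tb b B).left, ⊤)) :
    gs ((tm b φ).left.appTop z) = φ (gs (b := b) z) := gsi_map (CommRingCat.ofHom φ.toRingHom) z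

/-- The unit given by a point of the multiplicative group. -/
def gmUnit (t : tb b B ⟶ Red.Gm S) : Bˣ := Units.map (gs (b := b) (B := B)).toMonoidHom (GmPts.unitOfPt t)

theorem gmUnit_mul (t t' : tb b B ⟶ Red.Gm S) : gmUnit (t * t') = gmUnit t * gmUnit t' := by
  rw [gmUnit, GmPts.unitOfPt_mul, map_mul]; rfl

theorem gmUnit_map (φ : B →ₐ[A] C) (t : tb b B ⟶ Red.Gm S) :
    gmUnit (tm b φ ≫ t) = Units.map (φ : B →* C) (gmUnit t) := by
  refine Units.ext ?_
  show gs (GmPts.unitOfPt (tm b φ ≫ t) : Γ((tb b C).left, ⊤)) = φ (gs (GmPts.unitOfPt t : Γ((tb b B).left, ⊤)))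
  rw [GmPts.unitOfPt_comp]
  exact gs_map φ _

theorem gmUnit_val (t : tb b B ⟶ Red.Gm S) : (gmUnit t : B) = gs (Red.gmFn t) := rfl

theorem coord_ext {R : Type u} [CommRing R] {f g : DSPtsLib.CoordM.{u} M →+* R}
    (h : ∀ m, f (MonoidAlgebra.single m 1) = g (MonoidAlgebra.single m 1)) : f = g :=
  MonoidAlgebra.ringHom_ext (fun r => RingHom.congr_fun (DSPtsLib.ulift_ringHom_ext
    (f.comp MonoidAlgebra.singleOneRingHom) (g.comp MonoidAlgebra.singleOneRingHom)) r) h

/-- The point of `D_S(M)` with given values of the characters. -/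
def dsPt (χ : Multiplicative M →* Bˣ) : tb b B ⟶ Red.DS S M :=
  DSPtsLib.pt _ (MonoidAlgebra.liftNCRingHom ((algebraMap ℤ B).comp ULift.ringEquiv.toRingHom)
    ((Units.coeHom B).comp χ) fun _ _ => Commute.all _ _)

theorem dsPt_single (χ : Multiplicative M →* Bˣ) (m : Multiplicative M) :
    MonoidAlgebra.liftNCRingHom ((algebraMap ℤ B).comp ULift.ringEquiv.toRingHom)
      ((Units.coeHom B).comp χ) (fun _ _ => Commute.all _ _) (MonoidAlgebra.single m (1 : ULift.{u} ℤ)) = χ m := by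
  rw [MonoidAlgebra.liftNCRingHom_single]
  simp

theorem dsPt_mul (χ χ' : Multiplicative M →* Bˣ) :
    (dsPt (χ * χ') : tb b B ⟶ Red.DS S M) = dsPt χ * dsPt χ' := by
  refine (DSPtsLib.pt_mul _ _ _ _ fun m => ?_).symm
  rw [dsPt_single, dsPt_single, dsPt_single, MonoidHom.mul_apply, Units.val_mul]

theorem dsPt_surjective : Function.Surjective (dsPt : (Multiplicative M →* Bˣ) → (tb b B ⟶ Red.DS S M)) := by
  intro x
  obtain ⟨f, rfl⟩ := DSPtsLib.exists_eq_pt _ x
  let χ : Multiplicative M →* Bˣ := (f.toMonoidHom.comp (MonoidAlgebra.of (ULift.{u} ℤ) (Multiplicative M))).toHomUnits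
  refine ⟨χ, ?_⟩
  exact congrArg (DSPtsLib.pt _) (coord_ext fun m => (dsPt_single χ m).trans rfl)

theorem dsPt_map (φ : B →ₐ[A] C) (χ : Multiplicative M →* Bˣ) :
    tm b φ ≫ (dsPt χ : tb b B ⟶ Red.DS S M) = dsPt ((Units.map (φ : B →* C)).comp χ) := by
  refine (DSPtsLib.pt_comp _ _ φ.toRingHom _ (Over.w (tm b φ))).trans ?_
  show DSPtsLib.pt _ _ = DSPtsLib.pt _ _
  congr 1
  refine coord_ext fun m => ?_
  rw [RingHom.comp_apply, dsPt_single, dsPt_single]
  rfl

theorem dsPt_DSmap (χ : Multiplicative N →* Bˣ) (φ : M →+ N) :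
    (dsPt χ : tb b B ⟶ Red.DS S N) ≫ Red.DSmap S φ = dsPt (χ.comp (AddMonoidHom.toMultiplicative φ)) := by
  refine Over.OverMorphism.ext (pullback.hom_ext ?_ ?_)
  · rw [Over.comp_left, Category.assoc]
    erw [GmPts.pullback_map_left_fst, reassoc_of% (DSPtsLib.pt_fst _ _)]
    rw [dsPt, DSPtsLib.pt_fst]
    refine (Spec.map_comp _ _).symm.trans (congrArg Spec.map (CommRingCat.hom_ext ?_))
    refine coord_ext fun m => ?_
    simp only [CommRingCat.hom_comp, CommRingCat.hom_ofHom, RingHom.comp_apply, AlgHom.toRingHom_eq_coe,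
      RingHom.coe_coe]
    rw [dsPt_single]
    rw [MonoidAlgebra.mapDomainAlgHom_apply, MonoidAlgebra.mapDomain_single]
    rw [dsPt_single]
    rfl
  · exact (Over.w _).trans (Over.w _).symm

theorem gmUnit_dsPt (χ : Multiplicative ℤ →* Bˣ) :
    gmUnit (dsPt χ : tb b B ⟶ Red.Gm S) = χ (Multiplicative.ofAdd 1) := by
  refine Units.ext ?_
  show gs (GmPts.ringHomOfPt (dsPt χ : tb b B ⟶ Red.Gm S) (GmPts.tPow 1)) = _
  have h : GmPts.specPt (dsPt χ : tb b B ⟶ Red.Gm S) = _ := DSPtsLib.pt_fst _ _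
  show gs ((GmPts.specPt (dsPt χ : tb b B ⟶ Red.Gm S)).appTop (GmPts.coordIso.inv (GmPts.tPow 1))) = _
  rw [h]
  erw [GmPts.specMap_appTop_coordIso_inv]
  show (Scheme.ΓSpecIso _).hom ((Scheme.ΓSpecIso _).inv _) = _
  erw [Iso.inv_hom_id_apply]
  exact dsPt_single χ _

theorem gmUnit_chi (χ : Multiplicative M →* Bˣ) (m : M) :
    gmUnit ((dsPt χ : tb b B ⟶ Red.DS S M) ≫ Red.chi S m) = χ (Multiplicative.ofAdd m) := by
  rw [Red.chi, dsPt_DSmap, gmUnit_dsPt]
  simp

variable {G : Over S} [GrpObj G] (D : Red.SplitRed G)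

/-- The point of the torus with given values of the characters. -/
def tpt (χ : Multiplicative D.M →* Bˣ) : tb b B ⟶ D.T := dsPt χ ≫ D.split.inv.hom.hom

/-- The value of a character at a point of the torus. -/
def chr (m : D.M) (t : tb b B ⟶ D.T) : Bˣ := gmUnit (t ≫ D.split.hom.hom.hom ≫ Red.chi S m)

theorem chr_tpt (χ : Multiplicative D.M →* Bˣ) (m : D.M) :
    chr D m (tpt D χ : tb b B ⟶ D.T) = χ (Multiplicative.ofAdd m) := by
  have h : D.split.inv.hom.hom ≫ D.split.hom.hom.hom = 𝟙 _ := congrArg (fun z => z.hom.hom) D.split.inv_hom_id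
  rw [chr, tpt, Category.assoc, reassoc_of% h, gmUnit_chi]

theorem tpt_surjective : Function.Surjective (tpt D : (Multiplicative D.M →* Bˣ) → (tb b B ⟶ D.T)) := by
  intro t
  obtain ⟨χ, hχ⟩ := dsPt_surjective (t ≫ D.split.hom.hom.hom)
  have h : D.split.hom.hom.hom ≫ D.split.inv.hom.hom = 𝟙 _ := congrArg (fun z => z.hom.hom) D.split.hom_inv_id
  exact ⟨χ, by rw [tpt, hχ, Category.assoc, h, Category.comp_id]⟩

theorem tpt_mul (χ χ' : Multiplicative D.M →* Bˣ) :
    (tpt D (χ * χ') : tb b B ⟶ D.T) = tpt D χ * tpt D χ' := by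
  haveI : IsMonHom D.split.inv.hom.hom := D.split.inv.hom.isMonHom_hom
  rw [tpt, dsPt_mul, MonObj.mul_comp]
  rfl

/-- The homomorphism to points of the torus. -/
def tHom : (Multiplicative D.M →* Bˣ) →* (tb b B ⟶ D.T) := MonoidHom.mk' (tpt D) (tpt_mul D)

theorem tpt_map (φ : B →ₐ[A] C) (χ : Multiplicative D.M →* Bˣ) :
    tm b φ ≫ tpt D χ = tpt D ((Units.map (φ : B →* C)).comp χ) := by
  rw [tpt, ← Category.assoc, dsPt_map]; rfl

theorem chr_map (φ : B →ₐ[A] C) (m : D.M) (t : tb b B ⟶ D.T) :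
    chr D m (tm b φ ≫ t) = Units.map (φ : B →* C) (chr D m t) := by
  rw [chr, Category.assoc, gmUnit_map]; rfl

theorem tpt_ext {t t' : tb b B ⟶ D.T} (h : ∀ m, chr D m t = chr D m t') : t = t' := by
  obtain ⟨χ, rfl⟩ := tpt_surjective D t
  obtain ⟨χ', rfl⟩ := tpt_surjective D t'
  congr 1
  refine MonoidHom.ext fun m => ?_
  have hm := h (Multiplicative.toAdd m)
  rwa [chr_tpt, chr_tpt, ofAdd_toAdd] at hm

theorem chr_mul (m : D.M) (t t' : tb b B ⟶ D.T) : chr D m (t * t') = chr D m t * chr D m t' := by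
  obtain ⟨χ, rfl⟩ := tpt_surjective D t
  obtain ⟨χ', rfl⟩ := tpt_surjective D t'
  rw [← tpt_mul, chr_tpt, chr_tpt, chr_tpt, MonoidHom.mul_apply]

end Groth.Agent.RedCell22
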