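import Groth.Agent.RedCell22.Orders

/-!
# Torus weights of the coordinates of universal unipotent points
-/

set_option autoImplicit false
set_option linter.unusedSectionVars false

universe u

open CategoryTheory CategoryTheory.Limits AlgebraicGeometry MonoidalCategory CartesianMonoidalCategory
open MonObj GrpObj
open scoped LaurentPolynomial

noncomputable section

namespace Groth.Agent.RedCell22

variable {S : Scheme.{u}} {A : Type u} [CommRing A] {b : Spec (CommRingCat.of A) ⟶ S}
variable {G : Over S} [GrpObj G] {D : Red.SplitRed G} {V : Type} {n m : ℕ}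

/-- The action of a one-parameter subgroup with given weights on variables. -/
def psiW (w : V → ℤ) : MvPolynomial V A →ₐ[A] (MvPolynomial V A)[T;T⁻¹] :=
  MvPolynomial.aeval fun k => LaurentPolynomial.C (MvPolynomial.X k) * LaurentPolynomial.T (w k)

theorem psiW_X (w : V → ℤ) (k : V) :
    psiW (A := A) w (MvPolynomial.X k) = LaurentPolynomial.C (MvPolynomial.X k) * LaurentPolynomial.T (w k) :=
  MvPolynomial.aeval_X _ _

theorem coeff_psiW (w : V → ℤ) (P : MvPolynomial V A) :
    ∀ (j : ℤ) (e : V →₀ ℕ),
      MvPolynomial.coeff e ((psiW w P).coeff j) = if Finsupp.weight w e = j then MvPolynomial.coeff e P else 0 := by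
  classical
  induction P using MvPolynomial.induction_on with
  | C a =>
    intro j e
    rw [← MvPolynomial.algebraMap_eq, AlgHom.commutes, LaurentPolynomial.algebraMap_apply,
      LaurentPolynomial.C_apply]
    rcases eq_or_ne (0 : V →₀ ℕ) e with rfl | he
    · rw [map_zero]
      rcases eq_or_ne (0 : ℤ) j with rfl | hj
      · simp
      · simp [hj, hj.symm]
    · rcases eq_or_ne (0 : ℤ) j with rfl | hj
      · simp [MvPolynomial.coeff_C, he]
      · simp [MvPolynomial.coeff_C, he, hj.symm]
  | add p q hp hq =>
    intro j e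
    rw [map_add, AddMonoidAlgebra.coeff_add, Finsupp.add_apply, MvPolynomial.coeff_add, hp, hq,
      MvPolynomial.coeff_add]
    split <;> simp
  | mul_X p i hp =>
    intro j e
    rw [map_mul, psiW_X, ← LaurentPolynomial.single_eq_C_mul_T, AddMonoidAlgebra.coeff_mul_single_apply,
      MvPolynomial.coeff_mul_X', MvPolynomial.coeff_mul_X']
    by_cases hi : i ∈ e.support
    · rw [if_pos hi, if_pos hi]
      refine (hp _ _).trans (if_congr ?_ rfl rfl)
      have := Finsupp.weight_sub_single_add (w := w) (Finsupp.mem_support_iff.mp hi)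
      omega
    · rw [if_neg hi, if_neg hi, ite_self]

/-- A point over a polynomial ring on which the torus acts through weights of the variables. -/
def Equivariant (D : Red.SplitRed G) (ω : V → D.M) (g : tb b (MvPolynomial V A) ⟶ G) : Prop :=
  ∀ f' : D.M →+ ℤ, (lam D f').orb g = tm b (psiW fun v => f' (ω v)) ≫ g

theorem Equivariant.mul {ω : V → D.M} {g g' : tb b (MvPolynomial V A) ⟶ G} (hg : Equivariant D ω g)
    (hg' : Equivariant D ω g') : Equivariant D ω (g * g') := fun f' => by
  rw [Cochar.orb_mul, hg f', hg' f', ← tm_mul]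

theorem Equivariant.inv {ω : V → D.M} {g : tb b (MvPolynomial V A) ⟶ G} (hg : Equivariant D ω g) :
    Equivariant D ω g⁻¹ := fun f' => by
  rw [Cochar.orb_inv, hg f', ← tm_inv]

theorem equivariant_word (e : Fin n → D.idx) (ω : V → D.M) (x : Fin n → MvPolynomial V A)
    (hx : ∀ k (f' : D.M →+ ℤ), psiW (fun v => f' (ω v)) (x k) =
      LaurentPolynomial.C (x k) * LaurentPolynomial.T (f' (D.P.root (e k)))) :
    Equivariant D ω (word D e x : tb b (MvPolynomial V A) ⟶ G) := fun f' => by
  rw [orb_word, word_map]
  exact congrArg (word D e) (funext fun k => (hx k f').symm)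

theorem equivariant_word_X (e : Fin n → D.idx) {ω : V → D.M} (σ : Fin n → V)
    (hσ : ∀ k, ω (σ k) = D.P.root (e k)) :
    Equivariant D ω (word D e (fun k => MvPolynomial.X (σ k)) : tb b (MvPolynomial V A) ⟶ G) :=
  equivariant_word e ω _ fun k f' => by rw [psiW_X, hσ]

variable [IsAffineHom G.hom] {f : D.M →+ ℤ} {l : Fin m → D.idx}

/-- The coordinates of an equivariant point are homogeneous. -/
theorem weight_coord (hl : PosList D f l) {ω : V → D.M} {z : Fin m → MvPolynomial V A}
    (hz : Equivariant D ω (word D l z : tb b (MvPolynomial V A) ⟶ G)) (c : Fin m) (e : V →₀ ℕ)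
    (he : MvPolynomial.coeff e (z c) ≠ 0) : Finsupp.weight ω e = D.P.root (l c) := by
  have key : ∀ f' : D.M →+ ℤ, f' (Finsupp.weight ω e) = f' (D.P.root (l c)) := fun f' => by
    have h := hz f'
    rw [orb_word, word_map] at h
    have h' := congrArg (fun q => MvPolynomial.coeff e ((q : (MvPolynomial V A)[T;T⁻¹]).coeff
      (f' (D.P.root (l c))))) (congrFun (word_injective hl h) c)
    simp only [← LaurentPolynomial.single_eq_C_mul_T, AddMonoidAlgebra.coeff_single, Finsupp.single_eq_same,
      coeff_psiW] at h'
    split_ifs at h' with hw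
    · rw [← hw, Finsupp.weight_apply, Finsupp.weight_apply, map_finsuppSum]
      exact Finsupp.sum_congr fun v _ => by simp
    · exact absurd h' he
  refine sub_eq_zero.mp ((Module.Free.chooseBasis ℤ D.M).repr.injective (Finsupp.ext fun i => ?_))
  have := key (coordFn D i)
  rw [map_zero, Finsupp.zero_apply]
  simp only [coordFn, LinearMap.toAddMonoidHom_coe, Module.Basis.coord_apply] at this
  rw [map_sub, Finsupp.sub_apply, this, sub_self]

/-- Coordinates of combinations of roots of a set stable under combinations are supported in it. -/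
theorem coord_eq_zero (hl : PosList D f l) {ω : V → D.M} {z : Fin m → MvPolynomial V A} {Ψ : Set D.idx}
    (hz : Equivariant D ω (word D l z : tb b (MvPolynomial V A) ⟶ G))
    (hcomb : ∀ (e : V →₀ ℕ) (c : D.idx), Finsupp.weight ω e = D.P.root c → c ∈ Ψ) (c : Fin m) (hc : l c ∉ Ψ) :
    z c = 0 := by
  ext e
  rw [MvPolynomial.coeff_zero]
  by_contra he
  exact hc (hcomb e _ (weight_coord hl hz c e he))

end Groth.Agent.RedCell22
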